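import Cfsg.Agent.Lib.PSolvable.Constrained
import Cfsg.Agent.Lib.ZStar.Recognize
import Cfsg.Agent.Lib.SmallTwo.LocalIndex
import Cfsg.Agent.Lib.SmallTwo.WreathedAut
import Cfsg.Agent.Lib.Fusion.CyclicIndexTwo
import Mathlib

/-!
# Solvable groups modulo the core: self-centralizing 2-core
-/

set_option autoImplicit false
set_option linter.style.haveILetI false

namespace CfsgLib.Invol

variable {G : Type*} [Group G] [Finite G]

/-- With a normal self-centralizing 2-subgroup having a 2-group of automorphisms, `G` is a 2-group. -/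
theorem isPGroup_of_mulAut {R : Subgroup G} [R.Normal] (hR : IsPGroup 2 R)
    (hC : Subgroup.centralizer (R : Set G) ≤ R) (hA : IsPGroup 2 (MulAut R)) : IsPGroup 2 G := by
  haveI := Fact.mk Nat.prime_two
  let f : G →* MulAut R := MulAut.conjNormal
  have hker : f.ker ≤ R := fun g hg => hC (Subgroup.mem_centralizer_iff.mpr fun r hr => by
    have h0 : f g ⟨r, hr⟩ = ⟨r, hr⟩ := by rw [MonoidHom.mem_ker.mp hg]; rfl
    have h : g * r * g⁻¹ = r := congrArg Subtype.val h0
    exact (mul_inv_eq_iff_eq_mul.mp h).symm)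
  obtain ⟨a, ha⟩ := IsPGroup.iff_card.mp (hR.to_le hker)
  obtain ⟨b, hb⟩ := IsPGroup.iff_card.mp (hA.to_subgroup f.range)
  refine IsPGroup.of_card (n := a + b) ?_
  rw [← f.ker.card_mul_index, Subgroup.index_ker, ha, hb, pow_add]

theorem oddCore_quotient_eq_bot : Cfsg.oddCore (G ⧸ Cfsg.oddCore G) = ⊥ :=
  PSolvable.pPrimeCore_eq_bot_of_ker (QuotientGroup.mk'_surjective _) (QuotientGroup.ker_mk' _)

theorem solvable_centralizer_core_le (h : Group.IsSolvable G) :
    Subgroup.centralizer (Cfsg.pCore 2 (G ⧸ Cfsg.oddCore G) : Set (G ⧸ Cfsg.oddCore G)) ≤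
      Cfsg.pCore 2 (G ⧸ Cfsg.oddCore G) := by
  haveI := Fact.mk Nat.prime_two
  haveI := h
  exact PSolvable.centralizer_pCore_le (PSolvable.isPSolvable_of_isSolvable inferInstance)
    oddCore_quotient_eq_bot

/-- A 2-group with one involution has a 2-group of automorphisms or is `Q₈`. -/
theorem mulAut_or_quaternion_eight {R : Type*} [Group R] [Finite R] (hR : IsPGroup 2 R)
    (huniq : ∀ x y : R, orderOf x = 2 → orderOf y = 2 → x = y) :
    IsPGroup 2 (MulAut R) ∨ Nonempty (R ≃* QuaternionGroup 2) := by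
  rcases ZStar.cyclic_or_quaternion hR huniq with hc | ⟨m, ⟨f⟩⟩
  · exact Or.inl (SmallTwo.isPGroup_mulAut_cyclic hR hc)
  rcases Nat.lt_or_ge m 2 with hm | hm
  · interval_cases m
    · haveI : IsCyclic (QuaternionGroup (2 ^ 0)) := QuaternionGroup.quaternionGroup_one_isCyclic
      haveI : IsCyclic R := isCyclic_of_surjective f.symm f.symm.surjective
      exact Or.inl (SmallTwo.isPGroup_mulAut_cyclic hR inferInstance)
    · exact Or.inr ⟨f⟩
  refine Or.inl (IsPGroup.of_equiv ?_ (MulAut.congr f).symm)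
  haveI : NeZero (2 ^ m) := ⟨by positivity⟩
  have ho : orderOf (QuaternionGroup.a 1 : QuaternionGroup (2 ^ m)) = 2 ^ (m + 1) := by
    rw [QuaternionGroup.orderOf_a_one, pow_succ']
  refine Fusion.isPGroup_mulAut_of_cyclic_index_two _ ho (by omega) ?_ ?_
  · have h1 := Subgroup.card_mul_index (Subgroup.zpowers (QuaternionGroup.a 1 : QuaternionGroup (2 ^ m)))
    rw [Nat.card_zpowers, ho, Nat.card_eq_fintype_card (α := QuaternionGroup (2 ^ m)), QuaternionGroup.card,
      show 4 * 2 ^ m = 2 ^ (m + 1) * 2 by rw [pow_succ]; ring] at h1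
    exact Nat.eq_of_mul_eq_mul_left (by positivity) h1
  · rintro (i | i) hx
    · refine absurd ⟨(i.val : ℤ), ?_⟩ hx
      show QuaternionGroup.a 1 ^ (i.val : ℤ) = _
      rw [zpow_natCast, QuaternionGroup.a_one_pow, ZMod.natCast_zmod_val]
    · rw [QuaternionGroup.orderOf_xa]
      calc 4 < 2 ^ 3 := by norm_num
        _ ≤ 2 ^ (m + 1) := Nat.pow_le_pow_right two_pos (by omega)

end CfsgLib.Invol
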