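import Mathlib
import Cfsg.Prelude.Def_TwoFusion

/-!
Two involutions `x`, `y` and the dihedral group they generate; isolated involutions.
-/

set_option autoImplicit false

namespace CfsgLib.Invol

variable {G : Type*} [Group G]

theorem mul_self_of_orderOf_two {x : G} (hx : orderOf x = 2) : x * x = 1 := by
  rw [← pow_two, ← hx, pow_orderOf_eq_one]

theorem inv_of_orderOf_two {x : G} (hx : orderOf x = 2) : x⁻¹ = x :=
  inv_eq_of_mul_eq_one_right (mul_self_of_orderOf_two hx)

theorem ne_one_of_orderOf_two {x : G} (hx : orderOf x = 2) : x ≠ 1 := by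
  rintro rfl; simp at hx

theorem orderOf_two_of_mul_self {x : G} (h : x * x = 1) (h1 : x ≠ 1) : orderOf x = 2 :=
  orderOf_eq_prime (by rw [pow_two, h]) h1

theorem conj_orderOf_two {x : G} (hx : orderOf x = 2) (g : G) : orderOf (g * x * g⁻¹) = 2 := by
  rw [← hx]; exact (SemiconjBy.orderOf_eq g (x := x) (y := g * x * g⁻¹) (by simp [SemiconjBy, mul_assoc])).symm

variable {x y : G}

theorem conj_prod (hx : orderOf x = 2) (hy : orderOf y = 2) : x * (x * y) * x⁻¹ = (x * y)⁻¹ := by
  rw [mul_inv_rev, inv_of_orderOf_two hx, inv_of_orderOf_two hy, ← mul_assoc,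
    mul_self_of_orderOf_two hx, one_mul]

theorem zpow_mul_left (hx : orderOf x = 2) (hy : orderOf y = 2) (k : ℤ) :
    (x * y) ^ k * x = x * (x * y) ^ (-k) := by
  have h : (x * (x * y) * x⁻¹) ^ (-k) = x * (x * y) ^ (-k) * x⁻¹ := conj_zpow
  rw [conj_prod hx hy, inv_zpow', neg_neg] at h
  rw [h, inv_mul_cancel_right]

theorem right_eq (hx : orderOf x = 2) : y = x * (x * y) := by
  rw [← mul_assoc, mul_self_of_orderOf_two hx, one_mul]

theorem left_mul_zpow_mul_self (hx : orderOf x = 2) (hy : orderOf y = 2) (i j : ℤ) :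
    (x * (x * y) ^ i) * (x * (x * y) ^ j) = (x * y) ^ (j - i) := by
  rw [mul_assoc, ← mul_assoc _ x, zpow_mul_left hx hy, mul_assoc, ← zpow_add, ← mul_assoc,
    mul_self_of_orderOf_two hx, one_mul]
  congr 1; ring

theorem zpow_mul_zpow (hx : orderOf x = 2) (hy : orderOf y = 2) (i j : ℤ) :
    (x * y) ^ i * (x * (x * y) ^ j) = x * (x * y) ^ (j - i) := by
  rw [← mul_assoc, zpow_mul_left hx hy, mul_assoc, ← zpow_add]
  congr 2; ring

theorem conj_left (hx : orderOf x = 2) (hy : orderOf y = 2) (k : ℤ) :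
    (x * y) ^ k * x * ((x * y) ^ k)⁻¹ = x * (x * y) ^ (-(2 * k)) := by
  rw [zpow_mul_left hx hy, ← zpow_neg, mul_assoc, ← zpow_add]
  congr 2; ring

theorem conj_right (hx : orderOf x = 2) (hy : orderOf y = 2) (k : ℤ) :
    (x * y) ^ k * y * ((x * y) ^ k)⁻¹ = x * (x * y) ^ (1 - 2 * k) := by
  have e : (x * y) ^ k * y = x * (x * y) ^ (1 - k) := by
    have h := zpow_mul_zpow hx hy k 1
    rwa [zpow_one, ← right_eq hx] at h
  rw [e, ← zpow_neg, mul_assoc, ← zpow_add]
  congr 2; ring

theorem zpow_mem_closure (x y : G) (k : ℤ) :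
    (x * y) ^ k ∈ Subgroup.closure ({x, y} : Set G) :=
  zpow_mem (mul_mem (Subgroup.subset_closure (by simp)) (Subgroup.subset_closure (by simp))) k

theorem mem_closure_pair_iff (hx : orderOf x = 2) (hy : orderOf y = 2) {d : G} :
    d ∈ Subgroup.closure ({x, y} : Set G) ↔ ∃ k : ℤ, d = (x * y) ^ k ∨ d = x * (x * y) ^ k := by
  constructor
  · intro hd
    induction hd using Subgroup.closure_induction with
    | mem z hz =>
      rcases hz with rfl | hz
      · exact ⟨0, Or.inr (by simp)⟩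
      · rw [Set.mem_singleton_iff] at hz
        subst hz
        exact ⟨1, Or.inr (by rw [zpow_one, ← right_eq hx])⟩
    | one => exact ⟨0, Or.inl (by simp)⟩
    | mul a b _ _ ha hb =>
      obtain ⟨i, rfl | rfl⟩ := ha <;> obtain ⟨j, rfl | rfl⟩ := hb
      · exact ⟨i + j, Or.inl (by rw [zpow_add])⟩
      · exact ⟨j - i, Or.inr (zpow_mul_zpow hx hy i j)⟩
      · exact ⟨i + j, Or.inr (by rw [mul_assoc, zpow_add])⟩
      · exact ⟨j - i, Or.inl (left_mul_zpow_mul_self hx hy i j)⟩
    | inv a _ ha =>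
      obtain ⟨i, rfl | rfl⟩ := ha
      · exact ⟨-i, Or.inl (by rw [zpow_neg])⟩
      · refine ⟨i, Or.inr (inv_eq_of_mul_eq_one_right ?_)⟩
        rw [left_mul_zpow_mul_self hx hy, sub_self, zpow_zero]
  · rintro ⟨k, rfl | rfl⟩
    · exact zpow_mem_closure x y k
    · exact mul_mem (Subgroup.subset_closure (by simp)) (zpow_mem_closure x y k)

theorem conj_left_eq (hx : orderOf x = 2) (hy : orderOf y = 2) {d : G}
    (hd : d ∈ Subgroup.closure ({x, y} : Set G)) :
    ∃ j : ℤ, d * x * d⁻¹ = x * (x * y) ^ (2 * j) := by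
  obtain ⟨k, rfl | rfl⟩ := (mem_closure_pair_iff hx hy).mp hd
  · exact ⟨-k, by rw [conj_left hx hy]; congr 2; ring⟩
  · refine ⟨k, ?_⟩
    rw [show x * (x * y) ^ k * x * (x * (x * y) ^ k)⁻¹
        = x * ((x * y) ^ k * x * ((x * y) ^ k)⁻¹) * x⁻¹ by group, conj_left hx hy,
      ← mul_assoc, mul_self_of_orderOf_two hx, one_mul, inv_of_orderOf_two hx, zpow_mul_left hx hy,
      neg_neg]

/-- If the product of two involutions has odd order, a power of it conjugates one to the other. -/
theorem exists_zpow_conj_of_odd (hx : orderOf x = 2) (hy : orderOf y = 2)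
    (hodd : Odd (orderOf (x * y))) : ∃ k : ℤ, (x * y) ^ k * x * ((x * y) ^ k)⁻¹ = y := by
  obtain ⟨m, hm⟩ := hodd
  refine ⟨-((m : ℤ) + 1), ?_⟩
  rw [conj_left hx hy]
  have e : -(2 * -((m : ℤ) + 1)) = (orderOf (x * y) : ℤ) + 1 := by rw [hm]; push_cast; ring
  rw [e, zpow_add, zpow_natCast, pow_orderOf_eq_one, one_mul, zpow_one, ← right_eq hx]

theorem exists_mem_closure_conj_of_odd (hx : orderOf x = 2) (hy : orderOf y = 2)
    (hodd : Odd (orderOf (x * y))) :
    ∃ d ∈ Subgroup.closure ({x, y} : Set G), d * x * d⁻¹ = y := by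
  obtain ⟨k, hk⟩ := exists_zpow_conj_of_odd hx hy hodd
  exact ⟨_, zpow_mem_closure x y k, hk⟩

theorem conj_left_ne_of_even (hx : orderOf x = 2) (hy : orderOf y = 2)
    (heven : Even (orderOf (x * y))) {d : G} (hd : d ∈ Subgroup.closure ({x, y} : Set G)) :
    d * x * d⁻¹ ≠ y := by
  intro h
  obtain ⟨j, hj⟩ := conj_left_eq hx hy hd
  have h' : (x * y) ^ (2 * j) = x * y := by
    have := hj.symm.trans h
    calc (x * y) ^ (2 * j) = x * (x * (x * y) ^ (2 * j)) := by
          rw [← mul_assoc, mul_self_of_orderOf_two hx, one_mul]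
      _ = x * y := by rw [this]
  have h'' : (x * y) ^ (2 * j - 1) = 1 := by rw [zpow_sub_one, h', mul_inv_cancel]
  have := orderOf_dvd_iff_zpow_eq_one.mpr h''
  obtain ⟨a, ha⟩ := heven
  obtain ⟨b, hb⟩ := this
  rw [ha] at hb
  push_cast at hb
  have e : (↑a + ↑a) * b = 2 * ((a : ℤ) * b) := by ring
  omega

/-- The central involution of the dihedral group generated by two involutions. -/
noncomputable def centralInvol (x y : G) : G := (x * y) ^ (orderOf (x * y) / 2)

theorem orderOf_pos_prod [Finite G] (x y : G) : 0 < orderOf (x * y) := orderOf_pos _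

theorem centralInvol_zpow_neg (x y : G) (heven : Even (orderOf (x * y))) :
    (x * y) ^ (-((orderOf (x * y) / 2 : ℕ) : ℤ)) = centralInvol x y := by
  obtain ⟨a, ha⟩ := heven
  rw [zpow_neg, centralInvol, zpow_natCast, inv_eq_iff_mul_eq_one, ← pow_add]
  have e : orderOf (x * y) / 2 + orderOf (x * y) / 2 = orderOf (x * y) := by omega
  rw [e, pow_orderOf_eq_one]

theorem centralInvol_comm_left (hx : orderOf x = 2) (hy : orderOf y = 2)
    (heven : Even (orderOf (x * y))) : Commute (centralInvol x y) x := by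
  unfold Commute SemiconjBy
  conv_lhs => rw [centralInvol, ← zpow_natCast, zpow_mul_left hx hy, centralInvol_zpow_neg x y heven]

theorem centralInvol_comm_prod (x y : G) : Commute (centralInvol x y) (x * y) :=
  (Commute.refl (x * y)).pow_left _

theorem centralInvol_comm_right (hx : orderOf x = 2) (hy : orderOf y = 2)
    (heven : Even (orderOf (x * y))) : Commute (centralInvol x y) y := by
  have := (centralInvol_comm_left hx hy heven).mul_right (centralInvol_comm_prod x y)
  rwa [← right_eq (y := y) hx] at this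

theorem orderOf_centralInvol [Finite G] (x y : G) (heven : Even (orderOf (x * y))) :
    orderOf (centralInvol x y) = 2 := by
  obtain ⟨a, ha⟩ := heven
  have hpos := orderOf_pos (x * y)
  rw [centralInvol, orderOf_pow_of_dvd (by omega) ⟨2, by omega⟩]
  rw [ha, show (a + a) / 2 = a by omega, show a + a = 2 * a by ring, Nat.mul_div_cancel _ (by omega)]

theorem centralInvol_ne_one [Finite G] (x y : G) (heven : Even (orderOf (x * y))) :
    centralInvol x y ≠ 1 :=
  ne_one_of_orderOf_two (orderOf_centralInvol x y heven)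

theorem centralInvol_mem_closure (x y : G) :
    centralInvol x y ∈ Subgroup.closure ({x, y} : Set G) := by
  rw [centralInvol, ← zpow_natCast]; exact zpow_mem_closure x y _

theorem exists_conj_left_mul_centralInvol (hx : orderOf x = 2) (hy : orderOf y = 2)
    (h4 : 4 ∣ orderOf (x * y)) :
    ∃ d ∈ Subgroup.closure ({x, y} : Set G), d * x * d⁻¹ = x * centralInvol x y := by
  obtain ⟨a, ha⟩ := h4
  refine ⟨(x * y) ^ (-(a : ℤ)), zpow_mem_closure x y _, ?_⟩
  rw [conj_left hx hy, centralInvol, ← zpow_natCast, ha]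
  congr 2
  rw [show 4 * a / 2 = 2 * a by omega]; push_cast; ring

/-- For even product order, `x * w` is conjugate in `⟨x, y⟩` to `x` or to `y`. -/
theorem left_mul_centralInvol_isConj (hx : orderOf x = 2) (hy : orderOf y = 2)
    (heven : Even (orderOf (x * y))) :
    IsConj x (x * centralInvol x y) ∨ IsConj y (x * centralInvol x y) := by
  obtain ⟨a, ha⟩ := heven
  rcases Nat.even_or_odd a with ⟨b, hb⟩ | ⟨b, hb⟩
  · obtain ⟨d, -, hd⟩ := exists_conj_left_mul_centralInvol hx hy ⟨b, by omega⟩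
    exact Or.inl (isConj_iff.mpr ⟨d, hd⟩)
  · refine Or.inr (isConj_iff.mpr ⟨(x * y) ^ (-(b : ℤ)), ?_⟩)
    rw [conj_right hx hy, centralInvol, ← zpow_natCast, ha]
    congr 2
    rw [show (a + a) / 2 = 2 * b + 1 by omega]; push_cast; ring

theorem isConj_of_odd (hx : orderOf x = 2) (hy : orderOf y = 2) (hodd : Odd (orderOf (x * y))) :
    IsConj x y := by
  obtain ⟨k, hk⟩ := exists_zpow_conj_of_odd hx hy hodd
  exact isConj_iff.mpr ⟨_, hk⟩

/-- Two non-conjugate involutions commute with a common involution. -/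
theorem even_of_not_isConj (hx : orderOf x = 2) (hy : orderOf y = 2) (h : ¬ IsConj x y) :
    Even (orderOf (x * y)) := by
  by_contra he
  exact h (isConj_of_odd hx hy (Nat.not_even_iff_odd.mp he))

theorem exists_common_commuting_invol [Finite G] (hx : orderOf x = 2) (hy : orderOf y = 2)
    (heven : Even (orderOf (x * y))) : ∃ w : G, orderOf w = 2 ∧ Commute w x ∧ Commute w y :=
  ⟨_, orderOf_centralInvol x y heven, centralInvol_comm_left hx hy heven,
    centralInvol_comm_right hx hy heven⟩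

/-- An element of odd order inverting `p` forces `p ^ 2 = 1`. -/
theorem sq_eq_one_of_odd_inverts {a p : G} (ha : Odd (orderOf a)) (h : a * p * a⁻¹ = p⁻¹) :
    p * p = 1 := by
  have key : ∀ n : ℕ, a ^ n * p * (a ^ n)⁻¹ = if Even n then p else p⁻¹ := by
    intro n
    induction n with
    | zero => simp
    | succ n ih =>
      rw [pow_succ', show a * a ^ n * p * (a * a ^ n)⁻¹ = a * (a ^ n * p * (a ^ n)⁻¹) * a⁻¹ by group,
        ih]
      by_cases hn : Even n
      · simp [hn, h, Nat.even_add_one]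
      · simp only [hn, if_false, Nat.even_add_one, not_false_iff, if_true]
        rw [show a * p⁻¹ * a⁻¹ = (a * p * a⁻¹)⁻¹ by group, h, inv_inv]
  have := key (orderOf a)
  rw [if_neg (Nat.not_even_iff_odd.mpr ha), pow_orderOf_eq_one] at this
  simp at this
  exact mul_eq_one_iff_eq_inv.mpr this

theorem eq_one_of_odd_of_sq {p : G} (hp : Odd (orderOf p)) (h : p * p = 1) : p = 1 := by
  have h2 : orderOf p ∣ 2 := orderOf_dvd_of_pow_eq_one (by rw [pow_two, h])
  rcases (Nat.dvd_prime Nat.prime_two).mp h2 with h1 | h1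
  · exact orderOf_eq_one_iff.mp h1
  · rw [h1] at hp; exact absurd hp (by decide)

theorem odd_orderOf_of_dvd {a b : G} (ha : Odd (orderOf a)) (h : orderOf b ∣ orderOf a) :
    Odd (orderOf b) := ha.of_dvd_nat h

/-! ### Isolated involutions -/

theorem isolated_conj {z : G} (hz : Cfsg.IsIsolatedInvolution z) (g : G) :
    Cfsg.IsIsolatedInvolution (g * z * g⁻¹) := by
  refine ⟨conj_orderOf_two hz.1 g, fun h hc => ?_⟩
  have e : g * ((g⁻¹ * h * g) * z * (g⁻¹ * h * g)⁻¹) * g⁻¹ = h * (g * z * g⁻¹) * h⁻¹ := by group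
  have : Commute z ((g⁻¹ * h * g) * z * (g⁻¹ * h * g)⁻¹) := by
    rw [← e] at hc
    simpa [MulAut.conj_apply, mul_assoc] using hc.map (MulAut.conj g⁻¹).toMonoidHom
  rw [← e, hz.2 _ this]

theorem isolated_odd [Finite G] {z : G} (hz : Cfsg.IsIsolatedInvolution z) {u v : G}
    (hu : IsConj z u) (hv : IsConj z v) : Odd (orderOf (u * v)) := by
  by_contra hne
  have he := Nat.not_odd_iff_even.mp hne
  obtain ⟨g, rfl⟩ := isConj_iff.mp hu
  obtain ⟨h, rfl⟩ := isConj_iff.mp hv
  have hu2 := conj_orderOf_two hz.1 g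
  have hv2 := conj_orderOf_two hz.1 h
  have hc := centralInvol_comm_left hu2 hv2 he
  have hi := isolated_conj hz g
  set u := g * z * g⁻¹
  have hconj : IsConj u (u * centralInvol u (h * z * h⁻¹)) := by
    rcases left_mul_centralInvol_isConj hu2 hv2 he with h1 | h1
    · exact h1
    · exact ((isConj_iff.mpr ⟨g, rfl⟩ : IsConj z u).symm.trans (isConj_iff.mpr ⟨h, rfl⟩)).trans h1
  obtain ⟨k, hk⟩ := isConj_iff.mp hconj
  have := hi.2 k (by rw [hk]; exact (Commute.refl u).mul_right hc.symm)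
  rw [hk] at this
  exact centralInvol_ne_one _ _ he (mul_eq_left.mp this)

theorem isolated_eq_of_mem_twoGroup [Finite G] {z : G} (hz : Cfsg.IsIsolatedInvolution z)
    {P : Subgroup G} (hP : IsPGroup 2 P) (hzP : z ∈ P) (g : G) (hg : g * z * g⁻¹ ∈ P) :
    g * z * g⁻¹ = z := by
  have hodd := isolated_odd hz (IsConj.refl z) (isConj_iff.mpr ⟨g, rfl⟩)
  obtain ⟨k, hk⟩ := IsPGroup.iff_orderOf.mp hP ⟨z * (g * z * g⁻¹), mul_mem hzP hg⟩
  rw [← Subgroup.orderOf_coe] at hk
  simp only at hk
  rw [hk] at hodd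
  have hk0 : k = 0 := by
    by_contra h
    exact Nat.not_even_iff_odd.mpr hodd (Even.pow_of_ne_zero (by decide) h)
  rw [hk0, pow_zero, orderOf_eq_one_iff, mul_eq_one_iff_eq_inv, eq_inv_iff_mul_eq_one] at hk
  calc g * z * g⁻¹ = (z * z) * (g * z * g⁻¹) := by rw [mul_self_of_orderOf_two hz.1, one_mul]
    _ = z * (z * (g * z * g⁻¹)) := by rw [mul_assoc]
    _ = z := by rw [hk, mul_one]

theorem isolated_of_sylow [Finite G] (P : Sylow 2 G) {u : G} (hu : orderOf u = 2) (huP : u ∈ P)
    (hiso : ∀ g : G, g * u * g⁻¹ ∈ P → g * u * g⁻¹ = u) : Cfsg.IsIsolatedInvolution u := by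
  refine ⟨hu, fun g hc => ?_⟩
  set K := Subgroup.centralizer ({u} : Set G) with hK
  have hPK : (P : Subgroup G) ≤ K := by
    intro p hp
    rw [hK, Subgroup.mem_centralizer_singleton_iff]
    exact mul_inv_eq_iff_eq_mul.mp (hiso p (mul_mem (mul_mem hp huP) (inv_mem hp)))
  have hvK : g * u * g⁻¹ ∈ K := by
    rw [hK, Subgroup.mem_centralizer_singleton_iff]; exact hc.symm.eq
  have hv2 : IsPGroup 2 (Subgroup.zpowers (⟨_, hvK⟩ : K)) := by
    refine IsPGroup.of_card (n := 1) ?_
    rw [Nat.card_zpowers, ← Subgroup.orderOf_coe, pow_one]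
    exact conj_orderOf_two hu g
  obtain ⟨Q, hQ⟩ := hv2.exists_le_sylow
  obtain ⟨c, hcQ⟩ := MulAction.exists_smul_eq K Q (P.subtype hPK)
  have hmem : c * ⟨_, hvK⟩ * c⁻¹ ∈ (P.subtype hPK : Subgroup K) := by
    rw [← hcQ]
    exact Subgroup.smul_mem_pointwise_smul _ (MulAut.conj c) _ (hQ (Subgroup.mem_zpowers _))
  have hmem' : (c : G) * (g * u * g⁻¹) * (c : G)⁻¹ ∈ P := by
    exact hmem
  have e : (c : G) * (g * u * g⁻¹) * (c : G)⁻¹ = ((c : G) * g) * u * ((c : G) * g)⁻¹ := by group
  have h1 := hiso ((c : G) * g) (e ▸ hmem')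
  rw [← e] at h1
  have hcu : (c : G)⁻¹ * u * (c : G) = u := by
    rw [mul_assoc, ← Subgroup.mem_centralizer_singleton_iff.mp c.2, ← mul_assoc, inv_mul_cancel,
      one_mul]
  calc g * u * g⁻¹ = (c : G)⁻¹ * ((c : G) * (g * u * g⁻¹) * (c : G)⁻¹) * c := by group
    _ = u := by rw [h1, hcu]

/-! ### Counting -/

theorem card_isConj_mul_card_centralizer (t : G) :
    Nat.card {v : G // IsConj t v} * Nat.card (Subgroup.centralizer ({t} : Set G)) = Nat.card G := by
  have e : Nat.card {v : G // IsConj t v} = (MulAction.stabilizer (ConjAct G) t).index := by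
    rw [MulAction.index_stabilizer, ← Nat.card_coe_set_eq]
    refine Nat.card_congr (Equiv.setCongr ?_)
    ext v
    simp only [ConjAct.mem_orbit_conjAct]
    exact isConj_comm
  rw [e, Subgroup.nat_card_centralizer_nat_card_stabilizer, mul_comm, Subgroup.card_mul_index]
  rfl

end CfsgLib.Invol
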