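import Mathlib
import Cfsg.Agent.Lib.Invol.Dihedral
import Cfsg.Prelude.Def_Involutions

/-!
# Strongly embedded subgroups: involutions, swappers, transitivity
-/

set_option autoImplicit false

namespace CfsgLib.Invol

variable {G : Type*} [Group G] [Finite G] {H : Subgroup G}

theorem strongly_mem_of_conj_mem (hH : Cfsg.IsStronglyEmbedded H) {s g : G} (hs : orderOf s = 2)
    (hsH : s ∈ H) (hg : g * s * g⁻¹ ∈ H) : g ∈ H := by
  by_contra hgH
  have h := hH.2.2 g hgH
  have hmem : g * s * g⁻¹ ∈ H ⊓ H.map (MulAut.conj g).toMonoidHom := ⟨hg, s, hsH, rfl⟩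
  have h2 : 2 ∣ Nat.card ↥(H ⊓ H.map (MulAut.conj g).toMonoidHom) := by
    rw [← conj_orderOf_two hs g]
    exact (Subgroup.orderOf_coe ⟨_, hmem⟩).symm ▸ orderOf_dvd_natCard _
  exact Nat.not_even_iff_odd.mpr h (even_iff_two_dvd.mpr h2)

theorem strongly_commute_mem (hH : Cfsg.IsStronglyEmbedded H) {s g : G} (hs : orderOf s = 2)
    (hsH : s ∈ H) (hg : Commute g s) : g ∈ H :=
  strongly_mem_of_conj_mem hH hs hsH (by rwa [hg.eq, mul_inv_cancel_right])

/-- An involution interchanging the fixed points of `s ∈ H` and `u ∉ H`. -/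
theorem strongly_exists_swapper (hH : Cfsg.IsStronglyEmbedded H) {s u : G} (hs : orderOf s = 2)
    (hsH : s ∈ H) (hu : orderOf u = 2) (huH : u ∉ H) :
    ∃ r : G, orderOf r = 2 ∧ r * s * r⁻¹ = u := by
  have hodd : Odd (orderOf (s * u)) := by
    by_contra he
    rw [Nat.not_odd_iff_even] at he
    have h2 := orderOf_centralInvol s u he
    have h3 : centralInvol s u ∈ H :=
      strongly_commute_mem hH hs hsH (centralInvol_comm_left hs hu he)
    exact huH (strongly_commute_mem hH h2 h3 (centralInvol_comm_right hs hu he).symm)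
  obtain ⟨k, hk⟩ := exists_zpow_conj_of_odd hs hu hodd
  refine ⟨(s * u) ^ k * s, orderOf_two_of_mul_self ?_ ?_, ?_⟩
  · rw [mul_assoc, ← mul_assoc s, left_mul_zpow_mul_self' hs hu, ← zpow_add, add_neg_cancel, zpow_zero]
  · intro h1
    have e : (s * u) ^ k = s := (mul_eq_one_iff_eq_inv.mp h1).trans (inv_of_orderOf_two hs)
    have h3 : ((s * u) ^ k) ^ orderOf (s * u) = 1 := by
      rw [← zpow_natCast, ← zpow_mul, mul_comm, zpow_mul, zpow_natCast, pow_orderOf_eq_one, one_zpow]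
    rw [e] at h3
    have := orderOf_dvd_of_pow_eq_one h3
    rw [hs] at this
    exact Nat.not_even_iff_odd.mpr hodd (even_iff_two_dvd.mpr this)
  · rw [mul_inv_rev, show (s * u) ^ k * s * s * (s⁻¹ * ((s * u) ^ k)⁻¹) =
      (s * u) ^ k * s * ((s * u) ^ k)⁻¹ by group, hk]
where
  left_mul_zpow_mul_self' {x y : G} (hx : orderOf x = 2) (hy : orderOf y = 2) {k : ℤ} :
      x * (x * y) ^ k * x = (x * y) ^ (-k) := by
    have h := conj_prod hx hy
    have h2 : x * (x * y) ^ k * x⁻¹ = (x * y) ^ (-k) := by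
      rw [← conj_zpow, h, inv_zpow, zpow_neg]
    rwa [inv_of_orderOf_two hx] at h2

theorem strongly_exists_invol (hH : Cfsg.IsStronglyEmbedded H) : ∃ s ∈ H, orderOf s = 2 := by
  have : Fact (Nat.Prime 2) := ⟨Nat.prime_two⟩
  obtain ⟨s, hs⟩ := exists_prime_orderOf_dvd_card' (G := H) 2 (even_iff_two_dvd.mp hH.2.1)
  exact ⟨s, s.2, (Subgroup.orderOf_coe s).trans hs⟩

theorem strongly_exists_invol_not_mem (hH : Cfsg.IsStronglyEmbedded H) :
    ∃ u : G, orderOf u = 2 ∧ u ∉ H := by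
  obtain ⟨s, hsH, hs⟩ := strongly_exists_invol hH
  obtain ⟨g, hg⟩ : ∃ g : G, g ∉ H := by
    by_contra hn
    push Not at hn
    exact hH.1 (eq_top_iff.mpr fun g _ => hn g)
  exact ⟨g * s * g⁻¹, conj_orderOf_two hs g, fun h => hg (strongly_mem_of_conj_mem hH hs hsH h)⟩

/-- All involutions are conjugate. -/
theorem strongly_isConj (hH : Cfsg.IsStronglyEmbedded H) {a b : G} (ha : orderOf a = 2)
    (hb : orderOf b = 2) : IsConj a b := by
  obtain ⟨s, hsH, hs⟩ := strongly_exists_invol hH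
  obtain ⟨u, hu, huH⟩ := strongly_exists_invol_not_mem hH
  have key : ∀ x : G, orderOf x = 2 → IsConj s x := by
    intro x hx
    by_cases hxH : x ∈ H
    · obtain ⟨r, -, hr⟩ := strongly_exists_swapper hH hs hsH hu huH
      obtain ⟨r', -, hr'⟩ := strongly_exists_swapper hH hx hxH hu huH
      exact (isConj_iff.mpr ⟨r, hr⟩).trans (isConj_iff.mpr ⟨r', hr'⟩ : IsConj x u).symm
    · obtain ⟨r, -, hr⟩ := strongly_exists_swapper hH hs hsH hx hxH
      exact isConj_iff.mpr ⟨r, hr⟩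
  exact (key a ha).symm.trans (key b hb)

/-- The intersection with the conjugate by an outside involution is transitive on involutions. -/
theorem strongly_inter_transitive (hH : Cfsg.IsStronglyEmbedded H) {u s t : G} (hu : orderOf u = 2)
    (huH : u ∉ H) (hs : orderOf s = 2) (hsH : s ∈ H) (ht : orderOf t = 2) (htH : t ∈ H) :
    ∃ d ∈ (H ⊓ H.map (MulAut.conj u).toMonoidHom), d * s * d⁻¹ = t := by
  set v := u * s * u⁻¹
  have hv : orderOf v = 2 := conj_orderOf_two hs u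
  have hvH : v ∉ H := fun h => huH (strongly_mem_of_conj_mem hH hs hsH h)
  have hui := inv_of_orderOf_two hu
  have key : ∀ x : G, orderOf x = 2 → x ∈ H →
      ∃ r : G, r⁻¹ = r ∧ r * x * r⁻¹ = v ∧ u * r ∈ H := by
    intro x hx hxH
    obtain ⟨r, hr2, hr⟩ := strongly_exists_swapper hH hx hxH hv hvH
    refine ⟨r, inv_of_orderOf_two hr2, hr, strongly_mem_of_conj_mem hH hx hxH ?_⟩
    rw [show u * r * x * (u * r)⁻¹ = u * (r * x * r⁻¹) * u⁻¹ by group, hr]
    rw [show u * v * u⁻¹ = (u * u) * s * (u * u)⁻¹ by simp only [v]; group,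
      mul_self_of_orderOf_two hu]
    simpa using hsH
  obtain ⟨r₁, hi₁, hr₁, h₁⟩ := key s hs hsH
  obtain ⟨r₂, hi₂, hr₂, h₂⟩ := key t ht htH
  refine ⟨r₂ * r₁, ⟨?_, u * (r₂ * r₁) * u, ?_, ?_⟩, ?_⟩
  · have := mul_mem (inv_mem h₂) h₁
    rwa [mul_inv_rev, hi₂, hui, mul_assoc, ← mul_assoc u, mul_self_of_orderOf_two hu, one_mul] at this
  · have := mul_mem h₂ (inv_mem h₁)
    rw [mul_inv_rev, hi₁, hui] at this
    show _ ∈ H
    rw [show u * (r₂ * r₁) * u = u * r₂ * (r₁ * u) by group]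
    exact this
  · show u * (u * (r₂ * r₁) * u) * u⁻¹ = r₂ * r₁
    rw [hui, show u * (u * (r₂ * r₁) * u) * u = (u * u) * (r₂ * r₁) * (u * u) by group,
      mul_self_of_orderOf_two hu, one_mul, mul_one]
  · rw [show r₂ * r₁ * s * (r₂ * r₁)⁻¹ = r₂ * (r₁ * s * r₁⁻¹) * r₂⁻¹ by group, hr₁, ← hr₂,
      show r₂ * (r₂ * t * r₂⁻¹) * r₂⁻¹ = (r₂ * r₂) * t * (r₂ * r₂)⁻¹ by group,
      mul_eq_one_iff_eq_inv.mpr hi₂.symm]
    simp

open Classical in
/-- Two distinct cosets are swapped by as many involutions as lie in `H`. -/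
theorem strongly_card_swappers (hH : Cfsg.IsStronglyEmbedded H) (x y : G ⧸ H) (hxy : x ≠ y) :
    Nat.card {i : G // orderOf i = 2 ∧ i • x = y} = Nat.card {t : G // orderOf t = 2 ∧ t ∈ H} := by
  obtain ⟨a, rfl⟩ := QuotientGroup.mk_surjective x
  suffices hbase : ∀ z : G ⧸ H, z ≠ QuotientGroup.mk (1 : G) →
      Nat.card {i : G // orderOf i = 2 ∧ i • (QuotientGroup.mk (1 : G) : G ⧸ H) = z} =
        Nat.card {t : G // orderOf t = 2 ∧ t ∈ H} by
    have hne : a⁻¹ • y ≠ QuotientGroup.mk (1 : G) := fun h => hxy (by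
      rw [inv_smul_eq_iff] at h
      rw [h]
      show (QuotientGroup.mk a : G ⧸ H) = QuotientGroup.mk (a * 1)
      rw [mul_one])
    rw [← hbase _ hne]
    refine Nat.card_congr
      { toFun := fun i => ⟨a⁻¹ * i.1 * a, ?_, ?_⟩, invFun := fun i => ⟨a * i.1 * a⁻¹, ?_, ?_⟩,
        left_inv := fun i => Subtype.ext (by simp [mul_assoc]),
        right_inv := fun i => Subtype.ext (by simp [mul_assoc]) }
    · simpa using conj_orderOf_two i.2.1 a⁻¹
    · rw [mul_smul, mul_smul, MulAction.Quotient.smul_mk, smul_eq_mul, mul_one, i.2.2]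
    · exact conj_orderOf_two i.2.1 a
    · rw [mul_smul, mul_smul, MulAction.Quotient.smul_mk, smul_eq_mul, inv_mul_cancel]
      have := i.2.2
      rw [eq_inv_smul_iff] at this
      exact this
  clear hxy y a
  have := Fintype.ofFinite G
  have := Fintype.ofFinite (G ⧸ H)
  set T := {t : G // orderOf t = 2 ∧ t ∈ H}
  set o : G ⧸ H := QuotientGroup.mk (1 : G)
  have hoH : ∀ i : G, i • o = o ↔ i ∈ H := fun i => by
    show (QuotientGroup.mk (i * 1) : G ⧸ H) = QuotientGroup.mk 1 ↔ _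
    rw [QuotientGroup.eq, mul_one, mul_one, inv_mem_iff]
  have hlow : ∀ z : G ⧸ H, z ≠ o → Nat.card T ≤ Nat.card {i : G // orderOf i = 2 ∧ i • o = z} := by
    intro z hz
    obtain ⟨g, rfl⟩ := QuotientGroup.mk_surjective z
    have hgH : g ∉ H := fun h => hz ((QuotientGroup.eq).mpr (by simpa using inv_mem h))
    obtain ⟨s₀, hs₀H, hs₀⟩ := strongly_exists_invol hH
    have hu : orderOf (g * s₀ * g⁻¹) = 2 := conj_orderOf_two hs₀ g
    have huH : g * s₀ * g⁻¹ ∉ H := fun h => hgH (strongly_mem_of_conj_mem hH hs₀ hs₀H h)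
    choose r hr2 hr using fun t : T => strongly_exists_swapper hH t.2.1 t.2.2 hu huH
    refine Nat.card_le_card_of_injective (fun t => ⟨r t, hr2 t, ?_⟩) fun t t' h => ?_
    · show (QuotientGroup.mk (r t * 1) : G ⧸ H) = QuotientGroup.mk g
      rw [mul_one, QuotientGroup.eq]
      have : g⁻¹ * r t ∈ H := strongly_mem_of_conj_mem hH t.2.1 t.2.2 (by
        rw [show g⁻¹ * r t * t.1 * (g⁻¹ * r t)⁻¹ = g⁻¹ * (r t * t.1 * (r t)⁻¹) * g by group, hr t]
        simpa [mul_assoc] using hs₀H)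
      simpa using inv_mem this
    · simp only [Subtype.mk.injEq] at h
      have := (hr t).trans (hr t').symm
      rw [h] at this
      exact Subtype.ext (mul_left_cancel (mul_right_cancel this))
  set e : (G ⧸ H) → ℕ := fun z => Nat.card {i : G // orderOf i = 2 ∧ i • o = z} with he
  have hsum : ∑ z : G ⧸ H, e z = Nat.card {i : G // orderOf i = 2} := by
    rw [he, ← Nat.card_sigma]
    exact Nat.card_congr
      { toFun := fun p => ⟨p.2.1, p.2.2.1⟩, invFun := fun i => ⟨i.1 • o, i.1, i.2, rfl⟩,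
        left_inv := fun ⟨z, i, h1, h2⟩ => by subst h2; rfl, right_inv := fun i => rfl }
  have hupper : Nat.card {i : G // orderOf i = 2} ≤ Nat.card (G ⧸ H) * Nat.card T := by
    rw [← Nat.card_prod]
    refine Nat.card_le_card_of_surjective
      (fun p : (G ⧸ H) × T => ⟨p.1.out * p.2.1 * p.1.out⁻¹, conj_orderOf_two p.2.2.1 _⟩) fun i => ?_
    obtain ⟨s₀, hs₀H, hs₀⟩ := strongly_exists_invol hH
    obtain ⟨g, hg⟩ := isConj_iff.mp (strongly_isConj hH hs₀ i.2)
    obtain ⟨h, hh⟩ := QuotientGroup.mk_out_eq_mul H g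
    refine ⟨(QuotientGroup.mk g, ⟨(h : G)⁻¹ * s₀ * h, ?_, ?_⟩), Subtype.ext ?_⟩
    · simpa using conj_orderOf_two hs₀ (h : G)⁻¹
    · exact mul_mem (mul_mem (inv_mem h.2) hs₀H) h.2
    · show (QuotientGroup.mk g : G ⧸ H).out * _ * _ = i.1
      rw [hh, ← hg]
      group
  have ho : e o = Nat.card T :=
    Nat.card_congr (Equiv.subtypeEquivRight fun i => and_congr_right fun _ => hoH i)
  intro z hz
  refine le_antisymm ?_ (hlow z hz)
  by_contra hlt
  push Not at hlt
  have : ∑ _z : G ⧸ H, Nat.card T < ∑ z : G ⧸ H, e z := Finset.sum_lt_sum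
    (fun w _ => by
      by_cases hw : w = o
      · rw [hw, ho]
      · exact hlow w hw) ⟨z, Finset.mem_univ _, hlt⟩
  rw [Finset.sum_const, Finset.card_univ, ← Nat.card_eq_fintype_card, smul_eq_mul, hsum] at this
  omega

end CfsgLib.Invol

namespace CfsgLib.Invol

/-- Centralisers and fusion criterion. -/
theorem strongly_iff_centralizer_fusion {G : Type*} [Group G] [Finite G] {H : Subgroup G}
    (hH : H ≠ ⊤) (heven : Even (Nat.card H)) :
    Cfsg.IsStronglyEmbedded H ↔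
      ((∀ t ∈ H, orderOf t = 2 → Subgroup.centralizer ({t} : Set G) ≤ H) ∧
        (∀ t ∈ H, ∀ s ∈ H, orderOf t = 2 → orderOf s = 2 → IsConj t s →
          ∃ h ∈ H, h * t * h⁻¹ = s)) := by
  constructor
  · intro h
    refine ⟨fun t ht ht2 c hc => strongly_commute_mem h ht2 ht
      (Subgroup.mem_centralizer_singleton_iff.mp hc), fun t ht s hs ht2 _ hconj => ?_⟩
    obtain ⟨g, hg⟩ := isConj_iff.mp hconj
    exact ⟨g, strongly_mem_of_conj_mem h ht2 ht (hg ▸ hs), hg⟩
  · rintro ⟨hC, hF⟩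
    refine ⟨hH, heven, fun g hg => ?_⟩
    by_contra hodd
    rw [Nat.not_odd_iff_even] at hodd
    have : Fact (Nat.Prime 2) := ⟨Nat.prime_two⟩
    obtain ⟨⟨y, hy, x, hx, hxy⟩, h2⟩ := exists_prime_orderOf_dvd_card' 2 (even_iff_two_dvd.mp hodd)
    rw [← Subgroup.orderOf_coe] at h2
    have hy2 : orderOf y = 2 := h2
    have hxy' : g * x * g⁻¹ = y := hxy
    have hx2 : orderOf x = 2 := by
      have h1 := conj_orderOf_two hy2 g⁻¹
      rwa [← hxy', show g⁻¹ * (g * x * g⁻¹) * g⁻¹⁻¹ = x by group] at h1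
    obtain ⟨h, hh, he⟩ := hF x hx y hy hx2 hy2 (isConj_iff.mpr ⟨g, hxy'⟩)
    have hc : h⁻¹ * g ∈ H := hC x hx hx2 (Subgroup.mem_centralizer_singleton_iff.mpr (by
      apply mul_inv_eq_iff_eq_mul.mp
      rw [show h⁻¹ * g * x * (h⁻¹ * g)⁻¹ = h⁻¹ * (g * x * g⁻¹) * h by group, hxy', ← he]
      group))
    exact hg (by simpa using mul_mem hh hc)

end CfsgLib.Invol
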