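import Cfsg.Agent.Lib.Invol.ElementaryCentralizer
import Cfsg.Agent.Lib.SL2.PSL

/-!
# Groups with elementary abelian involution centralizers are `PSL(2, 2ⁿ)`

The field is built on the Sylow 2-subgroup `T`, the multiplication coming from the two-point
stabilizer; the cosets of the normalizer are the projective line.
-/

set_option autoImplicit false

namespace CfsgLib.Invol.ElemCent

open scoped MatrixGroups

variable {G : Type*} [Group G] [Finite G] {T : Sylow 2 G}

section Field

variable (hT : Hyp T) {u : G} (hu : orderOf u = 2) (huH : u ∉ borel T)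
include hT hu huH

theorem exists_field : ∃ (F : Type) (_ : Field F) (_ : Finite F) (ψ : F → G),
    Function.Injective ψ ∧ (∀ x, ψ x ∈ T) ∧ (∀ t ∈ T, ∃ x, ψ x = t) ∧
      (∀ x y, ψ (x + y) = ψ x * ψ y) ∧ CharP F 2 ∧
      ∀ d ∈ twoPt T u, ∃ c : F, c ≠ 0 ∧ ∀ x, d * ψ x * d⁻¹ = ψ (c * x) := by
  classical
  have : Fintype G := Fintype.ofFinite G
  let _ : CommGroup (T : Subgroup G) :=
    { (inferInstance : Group (T : Subgroup G)) with
      mul_comm := fun a b => Subtype.ext (comm hT a.2 b.2) }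
  let A := Additive (T : Subgroup G)
  let c : twoPt T u → AddMonoid.End A := fun d =>
    AddMonoidHom.mk' (fun a => Additive.ofMul ⟨(d : G) * (a.toMul : G) * (d : G)⁻¹,
        conj_mem_sylow (Subgroup.mem_inf.mp d.2).1 a.toMul.2⟩)
      fun a b => Subtype.ext (show (d : G) * ((a.toMul : G) * (b.toMul : G)) * (d : G)⁻¹ =
        ((d : G) * (a.toMul : G) * (d : G)⁻¹) * ((d : G) * (b.toMul : G) * (d : G)⁻¹) by group)
  obtain ⟨s, hsH, hs2⟩ := strongly_exists_invol (strong hT)
  let t₀ : A := Additive.ofMul ⟨s, invol_mem hs2 hsH⟩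
  have hne : ∀ {a : A}, a ≠ 0 → (a.toMul : G) ≠ 1 := fun {a} h h' => h (Subtype.ext h')
  have ht₀ : t₀ ≠ 0 := fun h => ne_one_of_orderOf_two hs2
    (congrArg (fun a : A => ((a.toMul : (T : Subgroup G)) : G)) h)
  have htr : ∀ a b : A, a ≠ 0 → b ≠ 0 → ∃ d, c d a = b := fun a b ha hb => by
    obtain ⟨d, hd, h⟩ := twoPt_trans hT hu huH a.toMul.2 (hne ha) b.toMul.2 (hne hb)
    exact ⟨⟨d, hd⟩, Subtype.ext h⟩
  have hcc : ∀ d e : twoPt T u, c d * c e = c e * c d := fun d e => by
    refine AddMonoidHom.ext fun a => Subtype.ext ?_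
    show (d : G) * ((e : G) * (a.toMul : G) * (e : G)⁻¹) * (d : G)⁻¹ =
      (e : G) * ((d : G) * (a.toMul : G) * (d : G)⁻¹) * (e : G)⁻¹
    rw [show (d : G) * ((e : G) * (a.toMul : G) * (e : G)⁻¹) * (d : G)⁻¹ =
      ((d : G) * e) * (a.toMul : G) * ((d : G) * e)⁻¹ by group, twoPt_comm hT hu huH d.2 e.2]
    group
  let K : Subring (AddMonoid.End A) := Subring.centralizer (Set.range c)
  have hcK : ∀ d, c d ∈ K := fun d => Subring.mem_centralizer_iff.mpr (by
    rintro _ ⟨e, rfl⟩; exact hcc e d)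
  have hev : ∀ φ : K, φ.1 t₀ = 0 → φ = 0 := fun φ hφ => by
    refine Subtype.ext (AddMonoidHom.ext fun a => ?_)
    by_cases ha : a = 0
    · rw [ha]; exact map_zero φ.1
    · obtain ⟨d, rfl⟩ := htr t₀ a ht₀ ha
      show φ.1 (c d t₀) = 0
      show (φ.1 * c d) t₀ = 0
      rw [← Subring.mem_centralizer_iff.mp φ.2 _ ⟨d, rfl⟩]
      show c d (φ.1 t₀) = 0
      rw [hφ, map_zero]
  have hshape : ∀ φ : K, φ = 0 ∨ ∃ d, φ.1 = c d := fun φ => by
    by_cases h : φ.1 t₀ = 0
    · exact Or.inl (hev φ h)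
    · obtain ⟨d, hd⟩ := htr t₀ _ ht₀ h
      have := hev (φ - ⟨c d, hcK d⟩) (by show φ.1 t₀ - c d t₀ = 0; rw [hd, sub_self])
      exact Or.inr ⟨d, congrArg Subtype.val (sub_eq_zero.mp this)⟩
  haveI : Nontrivial K := ⟨⟨0, 1, fun h => ht₀ (congrArg (fun φ : K => φ.1 t₀) h).symm⟩⟩
  haveI : Finite (AddMonoid.End A) := Finite.of_injective (fun f : AddMonoid.End A => (f : A → A))
    fun f g h => AddMonoidHom.ext fun a => congrFun h a
  haveI : NoZeroDivisors K := ⟨fun {φ χ} h => by
    rcases hshape φ with h0 | ⟨d, hd⟩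
    · exact Or.inl h0
    right
    refine hev χ (?_ : χ.1 t₀ = 0)
    have h1 : c d (χ.1 t₀) = 0 := hd ▸ congrArg (fun f : K => f.1 t₀) h
    by_contra h2
    exact conj_ne_one (h := (d : G)) (hne h2)
      (congrArg (fun a : A => ((a.toMul : (T : Subgroup G)) : G)) h1)⟩
  let _ : CommRing K :=
    { (inferInstance : Ring K) with
      mul_comm := fun φ χ => by
        rcases hshape χ with rfl | ⟨d, hd⟩
        · rw [mul_zero, zero_mul]
        · refine Subtype.ext ?_
          show φ.1 * χ.1 = χ.1 * φ.1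
          rw [hd]
          exact (Subring.mem_centralizer_iff.mp φ.2 _ ⟨d, rfl⟩).symm }
  haveI : IsDomain K := NoZeroDivisors.to_isDomain K
  let _ : Fintype K := Fintype.ofFinite K
  let _ : Field K := Fintype.fieldOfDomain K
  let ev : K →+ A := AddMonoidHom.mk' (fun φ => φ.1 t₀) fun φ χ => rfl
  have hbij : Function.Bijective ev := by
    refine ⟨(injective_iff_map_eq_zero ev).mpr hev, fun a => ?_⟩
    by_cases ha : a = 0
    · exact ⟨0, ha ▸ map_zero ev⟩
    · obtain ⟨d, hd⟩ := htr t₀ a ht₀ ha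
      exact ⟨⟨c d, hcK d⟩, hd⟩
  obtain ⟨n, hn⟩ := IsPGroup.iff_card.mp T.2
  have hn0 : n ≠ 0 := by
    rintro rfl
    have h4 : 4 ≤ Nat.card (T : Subgroup G) := four_le hT
    omega
  haveI : Fact (Nat.Prime 2) := ⟨Nat.prime_two⟩
  let _ : Fintype (GaloisField 2 n) := Fintype.ofFinite _
  have hcard : Fintype.card (GaloisField 2 n) = Fintype.card K := by
    rw [← Nat.card_eq_fintype_card, ← Nat.card_eq_fintype_card, GaloisField.card 2 n hn0,
      Nat.card_eq_of_bijective ev hbij]
    exact hn.symm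
  let ε : GaloisField 2 n ≃+* K := FiniteField.ringEquivOfCardEq hcard
  refine ⟨GaloisField 2 n, inferInstance, inferInstance, fun x => ((ev (ε x)).toMul : G),
    fun x y h => ε.injective (hbij.1 (Additive.toMul.injective (Subtype.ext h))),
    fun x => (ev (ε x)).toMul.2, fun t ht => ?_, fun x y => ?_, inferInstance, fun d hd => ?_⟩
  · obtain ⟨φ, hφ⟩ := hbij.2 (Additive.ofMul ⟨t, ht⟩)
    exact ⟨ε.symm φ, by simp [hφ]⟩
  · show ((ev (ε (x + y))).toMul : G) = ((ev (ε x) + ev (ε y)).toMul : G)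
    rw [map_add, map_add]
  · refine ⟨ε.symm ⟨c ⟨d, hd⟩, hcK _⟩, fun h0 => ?_, fun x => ?_⟩
    · rw [map_eq_zero_iff _ ε.symm.injective] at h0
      exact conj_ne_one (h := d) (hne ht₀)
        (congrArg (fun φ : K => ((φ.1 t₀).toMul : G)) h0)
    · show d * ((ev (ε x)).toMul : G) * d⁻¹ = ((ev (ε (ε.symm _ * x))).toMul : G)
      rw [map_mul, RingEquiv.apply_symm_apply]
      rfl

end Field

section Line

theorem toGL_entry {F : Type} [Field F] {M : Matrix (Fin 2) (Fin 2) F} (h : M.det = 1) (i j : Fin 2) :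
    ((Matrix.SpecialLinearGroup.toGL (⟨M, h⟩ : SL(2, F)) : GL (Fin 2) F) :
      Matrix (Fin 2) (Fin 2) F) i j = M i j := rfl

variable (hT : Hyp T)
include hT

theorem faithful {g : G} (h : ∀ x : G ⧸ borel T, g • x = x) : g = 1 := by
  classical
  have := Fintype.ofFinite G
  have h3 : 2 < Fintype.card (G ⧸ borel T) := by
    have h4 := four_le hT
    rw [← Nat.card_eq_fintype_card, card_quotient hT]
    omega
  obtain ⟨a, b, c, hab, hac, hbc⟩ := Fintype.two_lt_card_iff.mp h3
  exact eq_one_of_three hT hab hac hbc (h a) (h b) (h c)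

theorem exists_psl_equiv : ∃ (F : Type) (_ : Field F) (_ : Fintype F),
    Fintype.card F = Nat.card T ∧
      Nonempty (G ≃* Matrix.ProjectiveSpecialLinearGroup (Fin 2) F) := by
  classical
  obtain ⟨u, hu, huH⟩ := strongly_exists_invol_not_mem (strong hT)
  obtain ⟨F, _, _, ψ, hinj, hmem, hsurj, hadd, hchar, hmul⟩ := exists_field hT hu huH
  letI : Fintype F := Fintype.ofFinite F
  have hcard : Nat.card F = Nat.card T := Nat.card_eq_of_bijective (fun x => (⟨ψ x, hmem x⟩ : T))
    ⟨fun x y h => hinj (congrArg Subtype.val h), fun t => by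
      obtain ⟨x, hx⟩ := hsurj t t.2
      exact ⟨x, Subtype.ext hx⟩⟩
  have h0 : ψ 0 = 1 := by
    have := hadd 0 0
    rw [add_zero] at this
    exact mul_eq_left.mp this.symm
  have hu0 : u • base T ≠ base T := fun h => huH (smul_base_self_iff.mp h)
  have hfix : ∀ h ∈ borel T, h • base T = base T := fun h hh => smul_base_self_iff.mpr hh
  have hsq : ∀ a : F, ∃ r, r * r = a := fun a => by
    obtain ⟨r, hr⟩ := (bijective_frobenius F 2).2 a
    exact ⟨r, by rw [← hr, frobenius_def, pow_two]⟩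
  -- the projective line
  let f : OnePoint F → G ⧸ borel T := fun p => p.elim (base T) fun x => ψ x • u • base T
  have hf : Function.Bijective f := by
    constructor
    · intro p q h
      have hne : ∀ x, ψ x • u • base T ≠ base T := fun x h' => hu0 (smul_left_cancel (ψ x)
        (h'.trans (hfix _ (le_borel T (hmem x))).symm))
      cases p <;> cases q
      · rfl
      · rename_i y; exact absurd h.symm (hne y)
      · rename_i x; exact absurd h (hne x)
      · rename_i x y
        obtain ⟨t, -, ht⟩ := sylow_regular hT hu0 (hne x)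
        exact congrArg OnePoint.some (hinj ((ht _ ⟨hmem x, rfl⟩).trans (ht _ ⟨hmem y, h.symm⟩).symm))
    · intro z
      by_cases hz : z = base T
      · exact ⟨OnePoint.infty, hz.symm⟩
      · obtain ⟨t, ⟨ht, htz⟩, -⟩ := sylow_regular hT hu0 hz
        obtain ⟨x, rfl⟩ := hsurj t ht
        exact ⟨(x : OnePoint F), htz⟩
  let e : OnePoint F ≃ G ⧸ borel T := Equiv.ofBijective f hf
  let φ : SL(2, F) →* Equiv.Perm (G ⧸ borel T) :=
    (e.permCongrHom.toMonoidHom.comp (MulAction.toPermHom (GL (Fin 2) F) (OnePoint F))).comp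
      Matrix.SpecialLinearGroup.toGL
  let η : G →* Equiv.Perm (G ⧸ borel T) := MulAction.toPermHom G (G ⧸ borel T)
  have hη : Function.Injective η := (injective_iff_map_eq_one η).mpr fun g hg =>
    faithful hT fun x => Equiv.congr_fun hg x
  have hφ : ∀ (s : SL(2, F)) (p : OnePoint F),
      φ s (e p) = e (Matrix.SpecialLinearGroup.toGL s • p) := fun s p => by
    simp [φ, Equiv.permCongr_apply]
  have key : ∀ (g : G) (s : SL(2, F)), (∀ p : OnePoint F,
      g • f p = f (Matrix.SpecialLinearGroup.toGL s • p)) → g ∈ φ.range.comap η := fun g s h => by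
    refine Subgroup.mem_comap.mpr ⟨s, Equiv.ext fun z => ?_⟩
    obtain ⟨p, rfl⟩ := e.surjective z
    rw [hφ]
    exact (h p).symm
  have htrans : ∀ a : F, ψ a ∈ φ.range.comap η := fun a => by
    refine key _ ⟨!![1, a; 0, 1], by simp [Matrix.det_fin_two]⟩ fun p => ?_
    cases p
    · exact (hfix _ (le_borel T (hmem a))).trans (by simp [f, toGL_entry, OnePoint.smul_infty_eq_ite])
    · rename_i x
      show ψ a • ψ x • u • base T = _
      rw [← mul_smul, ← hadd]
      simp [f, toGL_entry, OnePoint.smul_some_eq_ite, add_comm]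
  have hdil : ∀ d ∈ twoPt T u, d ∈ φ.range.comap η := fun d hd => by
    obtain ⟨c, hc, hcx⟩ := hmul d hd
    obtain ⟨r, rfl⟩ := hsq c
    have hr : r ≠ 0 := left_ne_zero_of_mul hc
    refine key _ ⟨!![r, 0; 0, r⁻¹], by simp [Matrix.det_fin_two, hr]⟩ fun p => ?_
    cases p
    · exact (hfix _ (mem_twoPt_iff.mp hd).1).trans (by simp [f, toGL_entry, OnePoint.smul_infty_eq_ite])
    · rename_i x
      show d • ψ x • u • base T = _
      have : d • ψ x • u • base T = ψ (r * r * x) • u • base T := by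
        rw [← mul_smul, show d * ψ x = (d * ψ x * d⁻¹) * d by group, hcx, mul_smul,
          (mem_twoPt_iff.mp hd).2]
      rw [this]
      simp [f, toGL_entry, OnePoint.smul_some_eq_ite, hr]
      ring_nf
  have huu : u * u = 1 := mul_self_of_orderOf_two hu
  have hu1 : u • ψ 1 • u • base T ≠ base T := fun h => by
    have h2 : ψ 1 • u • base T = u • base T := by
      conv_rhs => rw [← h, ← mul_smul, huu, one_smul]
    exact one_ne_zero (hinj ((sylow_semiregular hT (hmem 1) hu0 h2).trans h0.symm))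
  obtain ⟨k', hk⟩ : ∃ k : OnePoint F, f k = u • ψ 1 • u • base T := hf.2 _
  obtain ⟨k, rfl⟩ : ∃ k : F, (k : OnePoint F) = k' := by
    cases k'
    · exact absurd hk.symm hu1
    · exact ⟨_, rfl⟩
  change ψ k • u • base T = _ at hk
  have hk0 : k ≠ 0 := by
    rintro rfl
    rw [h0, one_smul] at hk
    have h3 : ψ 1 • u • base T = base T := (smul_left_cancel u hk).symm
    exact hu0 (smul_left_cancel (ψ 1) (h3.trans (hfix _ (le_borel T (hmem 1))).symm))
  have hswap : u ∈ φ.range.comap η := by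
    obtain ⟨r, hr⟩ := hsq k
    have hr0 : r ≠ 0 := left_ne_zero_of_mul (hr ▸ hk0)
    refine key _ ⟨!![0, r; r⁻¹, 0], by simp [Matrix.det_fin_two, hr0, CharTwo.neg_eq]⟩ fun p => ?_
    cases p
    · show u • base T = _
      simp [f, toGL_entry, OnePoint.smul_infty_eq_ite, hr0, h0]
    · rename_i x
      show u • ψ x • u • base T = _
      by_cases hx : x = 0
      · subst hx
        rw [h0, one_smul, ← mul_smul, huu, one_smul]
        simp [f, toGL_entry, OnePoint.smul_some_eq_ite]
      · have hx1 : ψ x ≠ 1 := fun h => hx (hinj (h.trans h0.symm))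
        have h11 : ψ 1 ≠ 1 := fun h => one_ne_zero (hinj (h.trans h0.symm))
        obtain ⟨d, hd, hdx⟩ := twoPt_trans hT hu huH (hmem 1) h11 (hmem x) hx1
        obtain ⟨c, hc, hcx⟩ := hmul d⁻¹ (inv_mem hd)
        have hcx' : c * x = 1 := hinj (by rw [← hcx, ← hdx]; group)
        have h4 : u • ψ x • u • base T = ψ (c * k) • u • base T := by
          have e1 : ψ x • u • base T = d • ψ 1 • u • base T := by
            rw [← hdx, mul_smul, mul_smul]
            have := (mem_twoPt_iff.mp (inv_mem hd)).2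
            rw [this]
          rw [e1, ← mul_smul u d, show u * d = (u * d * u⁻¹) * u by group, inverts hT hu huH hd,
            mul_smul, ← hk, ← mul_smul, show d⁻¹ * ψ k = (d⁻¹ * ψ k * d⁻¹⁻¹) * d⁻¹ by group, hcx,
            mul_smul, (mem_twoPt_iff.mp (inv_mem hd)).2]
        rw [h4, eq_inv_of_mul_eq_one_left hcx', ← hr]
        simp [f, toGL_entry, OnePoint.smul_some_eq_ite, hr0, hx]
        field_simp
  have hle : ∀ g : G, g ∈ φ.range.comap η := by
    have hH : ∀ g ∈ borel T, g ∈ φ.range.comap η := fun g hg => by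
      obtain ⟨t, ht, d, hd, rfl⟩ := decomp hT hu huH hg
      obtain ⟨a, rfl⟩ := hsurj t ht
      exact mul_mem (htrans a) (hdil d hd)
    intro g
    by_cases hg : g ∈ borel T
    · exact hH g hg
    · obtain ⟨t, ⟨ht, htg⟩, -⟩ := sylow_regular hT hu0 (fun h => hg (smul_base_self_iff.mp h))
      obtain ⟨a, rfl⟩ := hsurj t ht
      rw [← mul_smul, smul_base_eq_iff] at htg
      rw [← mul_inv_cancel_left (ψ a * u) g]
      exact mul_mem (mul_mem (htrans a) hswap) (hH _ htg)
  have hSL : Nat.card SL(2, F) = Nat.card G := by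
    rw [CfsgLib.SL2.card_SL_two', card_group hT, hcard]
    ring
  have hrange : η.range = φ.range := by
    refine Subgroup.eq_of_le_of_card_ge (fun _ ⟨g, hg⟩ => hg ▸ hle g) ?_
    rw [← Nat.card_congr (MonoidHom.ofInjective hη).toEquiv, ← hSL]
    exact Nat.card_le_card_of_surjective φ.rangeRestrict φ.rangeRestrict_surjective
  have hφinj : Function.Injective φ.rangeRestrict :=
    ((Nat.bijective_iff_surjective_and_card φ.rangeRestrict).mpr
      ⟨φ.rangeRestrict_surjective, by
        rw [← hrange, ← Nat.card_congr (MonoidHom.ofInjective hη).toEquiv, hSL]⟩).1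
  have hproj : Function.Bijective (CfsgLib.SL2.proj : SL(2, F) →*
      Matrix.ProjectiveSpecialLinearGroup (Fin 2) F) := by
    refine ⟨(MonoidHom.ker_eq_bot_iff _).mp ?_, CfsgLib.SL2.proj_surjective⟩
    rw [QuotientGroup.ker_mk']
    refine (Subgroup.card_eq_one).mp ?_
    rw [CfsgLib.SL2.card_center, hcard]
    haveI : Fact (Nat.Prime 2) := ⟨Nat.prime_two⟩
    obtain ⟨n, hn⟩ := IsPGroup.iff_card.mp T.2
    have h4 : 4 ≤ Nat.card (T : Subgroup G) := four_le hT
    show Nat.gcd 2 (Nat.card (T : Subgroup G) - 1) = 1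
    refine (Nat.prime_two.coprime_iff_not_dvd.mpr ?_ : Nat.Coprime 2 _)
    rw [hn] at h4 ⊢
    rcases n with _ | n
    · omega
    · rw [pow_succ]; omega
  refine ⟨F, inferInstance, inferInstance, by rw [← Nat.card_eq_fintype_card, hcard], ⟨?_⟩⟩
  exact (((MonoidHom.ofInjective hη).trans (MulEquiv.subgroupCongr hrange)).trans
    (MulEquiv.ofBijective φ.rangeRestrict ⟨hφinj, φ.rangeRestrict_surjective⟩).symm).trans
    (MulEquiv.ofBijective _ hproj)

end Line

end CfsgLib.Invol.ElemCent
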