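import Cfsg.Agent.Lib.Invol.Dihedral
import Cfsg.Agent.Lib.Transfer.Cyclic
import Cfsg.Agent.Lib.Transfer.Focal
import Cfsg.Agent.Lib.Transfer.Frobenius

/-!
# Fusion in a Klein four Sylow 2-subgroup
-/

set_option autoImplicit false

namespace CfsgLib.Invol

variable {G : Type*} [Group G] [Finite G]

/-- With a Klein four Sylow subgroup there is a normal complement or one class of involutions. -/
theorem klein_complement_or_one_class (P : Sylow 2 G) (hP : IsKleinFour (P : Subgroup G)) :
    (∃ N : Subgroup G, N.Normal ∧ Subgroup.IsComplement' N (P : Subgroup G)) ∨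
      ∀ s t : G, orderOf s = 2 → orderOf t = 2 → IsConj s t := by
  classical
  haveI := hP
  have hab : IsMulCommutative (P : Subgroup G) := ⟨⟨fun a b => IsKleinFour.isMulCommutative.is_comm.comm a b⟩⟩
  set N := Subgroup.normalizer ((P : Subgroup G) : Set G)
  by_cases hC : N ≤ Subgroup.centralizer ((P : Subgroup G) : Set G)
  · obtain ⟨Q, K, hK, hc⟩ := Transfer.hasNormalPComplement_of_normalizer_le_centralizer P hC
    refine Or.inl ⟨K, hK, Subgroup.isComplement'_of_coprime ?_ ?_⟩
    · rw [P.card_eq_multiplicity, ← Q.card_eq_multiplicity]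
      exact hc.card_mul_card
    · rw [← hc.index_eq_card, Nat.coprime_comm, P.card_eq_multiplicity]
      exact ((Nat.prime_two.coprime_iff_not_dvd).mpr Q.not_dvd_index).pow_left _
  refine Or.inr ?_
  obtain ⟨n, hn, hnc⟩ := SetLike.not_le_iff_exists.mp hC
  rw [Subgroup.mem_centralizer_iff] at hnc
  push Not at hnc
  obtain ⟨x, hxP, hx⟩ := hnc
  -- pass to an element of odd order
  obtain ⟨e, m, hm, -, hq, hpart⟩ := Transfer.exists_pow_coprime_part (p := 2) n
  have h2P : n ^ m ∈ (P : Subgroup G) := by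
    have h2 := (Transfer.isPGroup_zpowers (p := 2) ⟨e, hpart⟩).to_sup_of_normal_right'
      P.2 (Subgroup.zpowers_le.mpr (pow_mem hn m))
    rw [← P.is_maximal' h2 le_sup_right]
    exact Subgroup.mem_sup_left (Subgroup.mem_zpowers _)
  set g := n ^ 2 ^ e with hg
  have hgN : g ∈ N := pow_mem hn _
  have hgodd : Odd (orderOf g) := Nat.coprime_two_right.mp hq
  have hgx : g * x * g⁻¹ ≠ x := by
    intro h
    apply hx
    have h1 : Commute g x := mul_inv_eq_iff_eq_mul.mp h
    have h2 : Commute (n ^ m) x :=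
      congrArg Subtype.val (hab.is_comm.comm ⟨_, h2P⟩ ⟨x, hxP⟩)
    have hgcd : m.Coprime (2 ^ e) :=
      ((Nat.prime_two.coprime_iff_not_dvd).mpr hm).symm.pow_right e
    have hb := Nat.gcd_eq_gcd_ab m (2 ^ e)
    rw [hgcd.gcd_eq_one] at hb
    have h3 : n = (n ^ m) ^ m.gcdA (2 ^ e) * g ^ m.gcdB (2 ^ e) := by
      rw [hg, ← zpow_natCast, ← zpow_natCast, ← zpow_mul, ← zpow_mul, ← zpow_add, ← hb]
      simp
    rw [h3]
    exact ((h2.zpow_left _).mul_left (h1.zpow_left _)).eq.symm
  have hmem : ∀ y ∈ (P : Subgroup G), g * y * g⁻¹ ∈ (P : Subgroup G) := fun y hy =>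
    (Subgroup.mem_normalizer_iff.mp hgN y).mp hy
  set y := g * x * g⁻¹ with hy
  set z := g * y * g⁻¹ with hz
  have hx1 : x ≠ 1 := fun h => hgx (by simp [hy, h])
  have hinj : ∀ a b : G, g * a * g⁻¹ = g * b * g⁻¹ → a = b := fun a b h =>
    mul_left_cancel (mul_right_cancel h)
  have hzy : z ≠ y := fun h => hgx (hinj _ _ h)
  have hzx : z ≠ x := by
    intro h
    have hc : Commute (g * g) x := by
      refine mul_inv_eq_iff_eq_mul.mp ?_
      rw [show g * g * x * (g * g)⁻¹ = z by rw [hz, hy]; group, h]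
    obtain ⟨k, hk⟩ := exists_pow_eq_self_of_coprime (x := g) (n := 2)
      (Nat.coprime_two_left.mpr hgodd)
    have hc' : Commute g x := by
      rw [← hk, pow_two]
      exact hc.pow_left k
    exact hgx (mul_inv_eq_iff_eq_mul.mpr hc'.eq)
  have hsq : ∀ w : (P : Subgroup G), w * w = 1 := fun w => by
    have h := Monoid.pow_exponent_eq_one w
    rwa [IsKleinFour.exponent_two, pow_two] at h
  have hne1 : ∀ w ∈ (P : Subgroup G), w ≠ 1 → orderOf w = 2 := fun w hw hw1 =>
    orderOf_two_of_mul_self (congrArg Subtype.val (hsq ⟨w, hw⟩)) hw1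
  have hconj : ∀ w ∈ (P : Subgroup G), w ≠ 1 → IsConj x w := by
    intro w hw hw1
    by_cases h1 : w = x
    · rw [h1]
    by_cases h2 : w = y
    · exact h2 ▸ isConj_iff.mpr ⟨g, rfl⟩
    by_cases h3 : w = z
    · exact h3 ▸ isConj_iff.mpr ⟨g * g, by rw [hz, hy]; group⟩
    exfalso
    have hyP := hmem x hxP
    have hzP := hmem y hyP
    have hy1 : y ≠ 1 := fun h => hx1 (hinj x 1 (by rw [← hy, h]; group))
    have hz1 : z ≠ 1 := fun h => hy1 (hinj y 1 (by rw [← hz, h]; group))
    have hle : ({1, x, y, z, w} : Finset G).card ≤ 4 := by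
      rw [← IsKleinFour.card_four (G := (P : Subgroup G))]
      rw [← Fintype.card_coe, ← Nat.card_eq_fintype_card]
      refine Nat.card_le_card_of_injective (fun u => ⟨u.1, ?_⟩) fun a b hab => Subtype.ext
        (congrArg (fun v : (P : Subgroup G) => (v : G)) hab)
      obtain ⟨u, hu⟩ := u
      simp only [Finset.mem_insert, Finset.mem_singleton] at hu
      rcases hu with rfl | rfl | rfl | rfl | rfl <;> first | exact one_mem _ | assumption
    rw [Finset.card_insert_of_notMem, Finset.card_insert_of_notMem, Finset.card_insert_of_notMem,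
      Finset.card_insert_of_notMem, Finset.card_singleton] at hle
    · omega
    · simp only [Finset.mem_singleton]; exact Ne.symm h3
    · simp only [Finset.mem_insert, Finset.mem_singleton, not_or]; exact ⟨Ne.symm hzy, Ne.symm h2⟩
    · simp only [Finset.mem_insert, Finset.mem_singleton, not_or]
      exact ⟨Ne.symm hgx, Ne.symm hzx, Ne.symm h1⟩
    · simp only [Finset.mem_insert, Finset.mem_singleton, not_or]
      exact ⟨Ne.symm hx1, Ne.symm hy1, Ne.symm hz1, Ne.symm hw1⟩
  have hall : ∀ t : G, orderOf t = 2 → IsConj x t := by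
    intro t ht
    obtain ⟨T, hT⟩ := (Transfer.isPGroup_zpowers (p := 2) (x := t) ⟨1, ht⟩).exists_le_sylow
    obtain ⟨c, hc⟩ := MulAction.exists_smul_eq G T P
    have hct : c * t * c⁻¹ ∈ (P : Subgroup G) := by
      rw [← hc]
      exact Subgroup.smul_mem_pointwise_smul _ (MulAut.conj c) _ (hT (Subgroup.mem_zpowers t))
    refine (hconj _ hct fun h => ne_one_of_orderOf_two ht (conj_eq_one_iff.mp h)).trans ?_
    exact isConj_iff.mpr ⟨c⁻¹, by group⟩
  exact fun s t hs ht => (hall s hs).symm.trans (hall t ht)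

/-- With a normal complement the three involutions of the Klein four group are not fused. -/
theorem klein_eq_of_isConj {P : Sylow 2 G} (hP : IsKleinFour (P : Subgroup G)) {N : Subgroup G}
    [N.Normal] (hc : Subgroup.IsComplement' N (P : Subgroup G)) {s t : G}
    (hs : s ∈ (P : Subgroup G)) (ht : t ∈ (P : Subgroup G)) (h : IsConj s t) : s = t := by
  haveI := hP
  obtain ⟨g, rfl⟩ := isConj_iff.mp h
  obtain ⟨⟨n, p⟩, hnp, -⟩ := hc.existsUnique g
  simp only at hnp
  have hps : (p : G) * s = s * p :=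
    congrArg Subtype.val (IsKleinFour.isMulCommutative.is_comm.comm (p : (P : Subgroup G)) ⟨s, hs⟩)
  have hgs : g * s * g⁻¹ = (n : G) * s * (n : G)⁻¹ := by
    rw [← hnp, show (n : G) * p * s * ((n : G) * p)⁻¹ = n * (p * s) * (p : G)⁻¹ * (n : G)⁻¹ by group,
      hps]
    group
  have hN : g * s * g⁻¹ * s⁻¹ ∈ N := by
    rw [hgs, show (n : G) * s * (n : G)⁻¹ * s⁻¹ = n * (s * (n : G)⁻¹ * s⁻¹) by group]
    exact mul_mem n.2 (Subgroup.Normal.conj_mem ‹N.Normal› _ (inv_mem n.2) s)
  have h1 : g * s * g⁻¹ * s⁻¹ ∈ N ⊓ (P : Subgroup G) :=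
    Subgroup.mem_inf.mpr ⟨hN, Subgroup.mul_mem _ ht (Subgroup.inv_mem _ hs)⟩
  rw [disjoint_iff.mp hc.disjoint, Subgroup.mem_bot] at h1
  exact (mul_inv_eq_one.mp h1).symm

/-- The number of classes of involutions. -/
theorem klein_class_count (P : Sylow 2 G) (hP : IsKleinFour (P : Subgroup G)) :
    ((∃ N : Subgroup G, N.Normal ∧ Subgroup.IsComplement' N (P : Subgroup G)) ∧
        Nat.card {C : ConjClasses G // ∃ t : G, orderOf t = 2 ∧ ConjClasses.mk t = C} = 3) ∨
      ((¬ ∃ N : Subgroup G, N.Normal ∧ Subgroup.IsComplement' N (P : Subgroup G)) ∧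
        Nat.card {C : ConjClasses G // ∃ t : G, orderOf t = 2 ∧ ConjClasses.mk t = C} = 1) := by
  classical
  haveI := hP
  have hsq : ∀ w : (P : Subgroup G), w * w = 1 := fun w => by
    have h := Monoid.pow_exponent_eq_one w
    rwa [IsKleinFour.exponent_two, pow_two] at h
  have hord : ∀ w : {w : (P : Subgroup G) // w ≠ 1}, orderOf ((w : (P : Subgroup G)) : G) = 2 :=
    fun w => orderOf_two_of_mul_self (congrArg Subtype.val (hsq w.1))
      fun h => w.2 (Subtype.ext h)
  let f : {w : (P : Subgroup G) // w ≠ 1} →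
      {C : ConjClasses G // ∃ t : G, orderOf t = 2 ∧ ConjClasses.mk t = C} :=
    fun w => ⟨ConjClasses.mk ((w : (P : Subgroup G)) : G), _, hord w, rfl⟩
  have hsurj : Function.Surjective f := by
    rintro ⟨C, t, ht, rfl⟩
    obtain ⟨T, hT⟩ := (Transfer.isPGroup_zpowers (p := 2) (x := t) ⟨1, ht⟩).exists_le_sylow
    obtain ⟨c, hc⟩ := MulAction.exists_smul_eq G T P
    have hct : c * t * c⁻¹ ∈ (P : Subgroup G) := by
      rw [← hc]
      exact Subgroup.smul_mem_pointwise_smul _ (MulAut.conj c) _ (hT (Subgroup.mem_zpowers t))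
    refine ⟨⟨⟨_, hct⟩, fun h => ne_one_of_orderOf_two ht
      (conj_eq_one_iff.mp (congrArg Subtype.val h))⟩, Subtype.ext ?_⟩
    exact ConjClasses.mk_eq_mk_iff_isConj.mpr (isConj_iff.mpr ⟨c⁻¹, by group⟩)
  have h3 : Nat.card {w : (P : Subgroup G) // w ≠ 1} = 3 := by
    haveI := Fintype.ofFinite (P : Subgroup G)
    rw [Nat.card_eq_fintype_card, Fintype.card_subtype_compl, Fintype.card_subtype_eq,
      ← Nat.card_eq_fintype_card, IsKleinFour.card_four]
  by_cases hN : ∃ N : Subgroup G, N.Normal ∧ Subgroup.IsComplement' N (P : Subgroup G)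
  · refine Or.inl ⟨hN, ?_⟩
    obtain ⟨N, hNn, hc⟩ := hN
    rw [← h3]
    refine (Nat.card_eq_of_bijective f ⟨fun a b hab => ?_, hsurj⟩).symm
    exact Subtype.ext (Subtype.ext (klein_eq_of_isConj hP hc a.1.2 b.1.2
      (ConjClasses.mk_eq_mk_iff_isConj.mp (congrArg Subtype.val hab))))
  · refine Or.inr ⟨hN, ?_⟩
    have hone := (klein_complement_or_one_class P hP).resolve_left hN
    rw [Nat.card_eq_one_iff_unique]
    refine ⟨⟨fun a b => ?_⟩, ?_⟩
    · obtain ⟨C, s, hs, rfl⟩ := a
      obtain ⟨D, t, ht, rfl⟩ := b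
      exact Subtype.ext (ConjClasses.mk_eq_mk_iff_isConj.mpr (hone s t hs ht))
    · have : Nonempty {w : (P : Subgroup G) // w ≠ 1} := by
        by_contra h
        rw [not_nonempty_iff] at h
        rw [Nat.card_of_isEmpty] at h3
        omega
      exact this.map f

end CfsgLib.Invol
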