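import Cfsg.Agent.Lib.Invol.AICField
import Cfsg.Agent.Lib.Char.TwoGroupLinear

/-!
# Finite groups with abelian involution centralisers

If the centraliser of every involution is abelian and a Sylow 2-subgroup is neither cyclic nor
normal, then the group is a central extension of `PSL(2, 2^n)` by a group of odd order. The proof
is by induction: modulo an odd central element the hypotheses are inherited, and without one the
centraliser of a non-identity element of an involution centraliser `A` lies in the normaliser of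
`A`, by induction and a count of involutions, so that the Zassenhaus classification applies.
-/

set_option autoImplicit false
set_option linter.unusedSectionVars false

namespace CfsgLib.Invol.AIC

open CfsgLib.Invol.CASimple
open Matrix (ProjectiveSpecialLinearGroup)

universe u

/-- The centraliser of every involution is abelian. -/
def AbInvCent (G : Type u) [Group G] : Prop :=
  ∀ t a b : G, t * t = 1 → t ≠ 1 → Commute a t → Commute b t → Commute a b

/-- A central extension of `PSL(2, 2^n)`, `n ≥ 2`, by a group of odd order. -/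
def IsOddCover (G : Type u) [Group G] : Prop :=
  ∃ (F : Type) (_ : Field F) (_ : Fintype F) (f : ℕ), 2 ≤ f ∧ Fintype.card F = 2 ^ f ∧
    ∃ φ : G →* ProjectiveSpecialLinearGroup (Fin 2) F, Function.Surjective φ ∧
      φ.ker ≤ Subgroup.center G ∧ Odd (Nat.card φ.ker)

variable {G : Type u} [Group G] [Finite G]

theorem AbInvCent.subgroup (h : AbInvCent G) (H : Subgroup G) : AbInvCent H :=
  fun t a b ht ht1 ha hb => Subtype.ext (h (t : G) (a : G) (b : G) (congrArg Subtype.val ht)
    (fun e => ht1 (Subtype.ext e)) (ha.map H.subtype) (hb.map H.subtype)).eq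

/-- An element of odd order that squares to one is trivial. -/
theorem eq_one_of_odd {x : G} (ho : Odd (orderOf x)) (hx : x * x = 1) : x = 1 := by
  have hd : orderOf x ∣ 2 := orderOf_dvd_of_pow_eq_one (by rw [pow_two, hx])
  rcases (Nat.dvd_prime Nat.prime_two).1 hd with e | e
  · exact orderOf_eq_one_iff.1 e
  · rw [e] at ho
    exact absurd ho (by decide)

/-- Above an element squaring to one, modulo a group of odd order, lies one squaring to one. -/
theorem exists_sq_lift {H : Type*} [Group H] (φ : G →* H) (hodd : Odd (Nat.card φ.ker)) {x : G}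
    (hx : φ x * φ x = 1) : ∃ n : ℕ, x ^ n * x ^ n = 1 ∧ φ (x ^ n) = φ x := by
  have hk : x * x ∈ φ.ker := by rw [MonoidHom.mem_ker, map_mul, hx]
  refine ⟨Nat.card φ.ker, ?_, ?_⟩
  · have := pow_card_eq_one' (x := (⟨x * x, hk⟩ : φ.ker))
    rw [← (Commute.refl x).mul_pow]
    exact congrArg Subtype.val this
  · obtain ⟨k, hk⟩ := hodd
    rw [hk, map_pow, pow_succ, pow_mul, pow_two, hx, one_pow, one_mul]

theorem mem_sylow_of_commute {T : Sylow 2 G} {x : G} (hc : ∀ y ∈ (T : Subgroup G), Commute x y)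
    {k : ℕ} (hx : x ^ 2 ^ k = 1) : x ∈ (T : Subgroup G) := by
  have hp : IsPGroup 2 (Subgroup.zpowers x) := by
    rintro ⟨y, hy⟩
    obtain ⟨j, rfl⟩ := Subgroup.mem_zpowers_iff.1 hy
    exact ⟨k, Subtype.ext (show (x ^ j) ^ 2 ^ k = 1 by
      rw [← zpow_natCast, ← _root_.zpow_mul, mul_comm, _root_.zpow_mul, zpow_natCast, hx, one_zpow])⟩
  have hn : Subgroup.zpowers x ≤ Subgroup.normalizer ((T : Subgroup G) : Set G) :=
    Subgroup.zpowers_le.2 (Subgroup.mem_normalizer_fintype fun y hy => by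
      rw [(hc y hy).eq, mul_inv_cancel_right]; exact hy)
  exact (T.3 (IsPGroup.to_sup_of_normal_left' T.2 hp hn) le_sup_left).le
    (Subgroup.mem_sup_right (Subgroup.mem_zpowers x))

theorem exists_pre (h : AbInvCent G) (T : Sylow 2 G) (hnc : ¬ IsCyclic (T : Subgroup G))
    (hnn : ¬ (T : Subgroup G).Normal) :
    ∃ (A : Subgroup G) (t : G), PreSetup A t ∧ (∀ a ∈ A, ∀ b ∈ A, Commute a b) ∧
      (T : Subgroup G) ≤ A ∧ 2 ≤ (invA A).ncard := by
  classical
  have : Fact (Nat.Prime 2) := ⟨Nat.prime_two⟩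
  have : Nontrivial (T : Subgroup G) := by
    by_contra hs
    rw [not_nontrivial_iff_subsingleton] at hs
    exact hnc isCyclic_of_subsingleton
  have := T.2.center_nontrivial
  obtain ⟨z, hz⟩ := exists_prime_orderOf_dvd_card' (G := Subgroup.center (T : Subgroup G)) 2
    (((T.2.to_subgroup _).card_eq_or_dvd).resolve_left (Finite.one_lt_card).ne')
  obtain ⟨hz2, hz1⟩ := involution_iff.1 hz
  obtain ⟨t, htdef⟩ : ∃ t, t = ((z : (T : Subgroup G)) : G) := ⟨_, rfl⟩
  have hsq : t * t = 1 := by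
    rw [htdef]
    exact congrArg (fun w : Subgroup.center (T : Subgroup G) => ((w : (T : Subgroup G)) : G)) hz2
  have hne : t ≠ 1 := by
    rw [htdef]
    exact fun e => hz1 (Subtype.ext (Subtype.ext e))
  have htT : t ∈ (T : Subgroup G) := htdef ▸ (z : (T : Subgroup G)).2
  have hTA : (T : Subgroup G) ≤ Subgroup.centralizer ({t} : Set G) := fun x hx => mem_cent.2 (by
    rw [htdef]
    exact congrArg Subtype.val ((Subgroup.mem_center_iff.1 z.2) ⟨x, hx⟩))
  have hab : ∀ a ∈ Subgroup.centralizer ({t} : Set G), ∀ b ∈ Subgroup.centralizer ({t} : Set G),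
      Commute a b := fun a ha b hb => h t a b hsq hne (mem_cent.1 ha) (mem_cent.1 hb)
  refine ⟨Subgroup.centralizer ({t} : Set G), t, ⟨fun x hx hx2 hx1 => ?_, hsq, hne, rfl, ?_, ?_⟩, hab,
    hTA, ?_⟩
  · ext y
    exact ⟨fun hy => mem_cent.2 (h x y t hx2 hx1 (mem_cent.1 hy) (mem_cent.1 hx).symm),
      fun hy => mem_cent.2 (hab y hy x hx)⟩
  · intro hn
    refine hnn ⟨fun x hx g => ?_⟩
    obtain ⟨k, hk⟩ := T.2 ⟨x, hx⟩
    refine mem_sylow_of_commute (fun y hy => hab _ (hn.conj_mem x (hTA hx) g) y (hTA hy)) (k := k) ?_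
    rw [conj_pow, show x ^ 2 ^ k = 1 from congrArg Subtype.val hk, mul_one, mul_inv_cancel]
  · exact fun hd => T.not_dvd_index (hd.trans (Subgroup.index_dvd_of_le hTA))
  · by_contra hlt
    push Not at hlt
    let _ : CommGroup (T : Subgroup G) :=
      { (inferInstance : Group (T : Subgroup G)) with
        mul_comm := fun a b => Subtype.ext (hab a (hTA a.2) b (hTA b.2)).eq }
    refine hnc (CfsgLib.Char.TwoGroupLinear.isCyclic_of_sq T.2 ?_)
    have hle : Nat.card {x : (T : Subgroup G) // x ^ 2 = 1} ≤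
        (insert 1 (invA (Subgroup.centralizer ({t} : Set G)))).ncard := by
      rw [← Nat.card_coe_set_eq]
      refine Nat.card_le_card_of_injective (fun x => ⟨((x.1 : (T : Subgroup G)) : G), ?_⟩)
        fun x y e => Subtype.ext (Subtype.ext (congrArg (fun w => (w.1 : G)) e))
      by_cases e : ((x.1 : (T : Subgroup G)) : G) = 1
      · exact Or.inl e
      · exact Or.inr ⟨hTA x.1.2, by rw [← pow_two]; exact congrArg Subtype.val x.2, e⟩
    have := hle.trans (Set.ncard_insert_le _ _)
    omega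

/-- Restriction of a set-up to a subgroup containing `A` and not normalising it. -/
theorem pre_subgroup {A : Subgroup G} {t : G} (hA : PreSetup A t) {M : Subgroup G} (hAM : A ≤ M)
    (hnN : ¬ M ≤ nA A) : PreSetup (A.subgroupOf M) (⟨t, hAM hA.t_mem⟩ : M) := by
  refine ⟨fun x hx hx2 hx1 => ?_, Subtype.ext hA.sq,
    fun e => hA.ne (congrArg Subtype.val e), ?_, fun hn => hnN ?_, ?_⟩
  · ext y
    rw [mem_cent, Subgroup.mem_subgroupOf,
      ← hA.invC x hx (congrArg Subtype.val hx2) (fun e => hx1 (Subtype.ext e)), mem_cent]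
    exact ⟨fun hy => hy.map M.subtype, fun hy => Subtype.ext hy.eq⟩
  · ext y
    rw [mem_cent, Subgroup.mem_subgroupOf]
    nth_rewrite 1 [hA.eq]
    rw [mem_cent]
    exact ⟨fun hy => Subtype.ext hy.eq, fun hy => hy.map M.subtype⟩
  · exact fun m hm => Subgroup.mem_normalizer_fintype fun a ha => hn.conj_mem ⟨a, hAM ha⟩ ha ⟨m, hm⟩
  · exact fun hd => hA.sylow (hd.trans (dvd_trans (dvd_mul_right _ M.index)
      (dvd_of_eq (Subgroup.relIndex_mul_index hAM))))

/-- Without odd central elements, and when the proper subgroups are as in the theorem, the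
normaliser of `A` contains the centraliser of each non-identity element of `A`. -/
theorem cle_of_ind {T : Sylow 2 G} {A : Subgroup G} {t : G}
    (hnc : ¬ IsCyclic (T : Subgroup G)) (hA : PreSetup A t) (hab : ∀ a ∈ A, ∀ b ∈ A, Commute a b)
    (hTA : (T : Subgroup G) ≤ A)
    (ind : ∀ H : Subgroup G, H ≠ ⊤ → ∀ P : Sylow 2 H, ¬ IsCyclic (P : Subgroup H) →
      ¬ (P : Subgroup H).Normal → IsOddCover H)
    (hZ : ∀ z ∈ Subgroup.center G, Odd (orderOf z) → z = 1) :
    ∀ x ∈ A, x ≠ 1 → Subgroup.centralizer ({x} : Set G) ≤ nA A := by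
  classical
  intro x hx hx1
  rcases Nat.even_or_odd (orderOf x) with ⟨k, hk⟩ | hxodd
  · -- a power of `x` is an involution
    have hk0 : k ≠ 0 := by
      rintro rfl
      exact (orderOf_pos x).ne' (by simpa using hk)
    have hs1 : x ^ k ≠ 1 := pow_ne_one_of_lt_orderOf hk0 (by omega)
    have hs2 : x ^ k * x ^ k = 1 := by rw [← pow_add, ← hk, pow_orderOf_eq_one]
    intro y hy
    exact Subgroup.le_normalizer (hA.mem_of_commute (pow_mem hx k) hs2 hs1 ((mem_cent.1 hy).pow_right k))
  by_contra hnN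
  obtain ⟨M, hMdef⟩ : ∃ M, M = Subgroup.centralizer ({x} : Set G) := ⟨_, rfl⟩
  rw [← hMdef] at hnN
  have hAM : A ≤ M := fun a ha => hMdef ▸ mem_cent.2 (hab a ha x hx)
  have hMt : M ≠ ⊤ := fun e => hx1 (hZ x (Subgroup.mem_center_iff.2 fun g =>
    (mem_cent.1 (hMdef ▸ e ▸ Subgroup.mem_top g : g ∈ Subgroup.centralizer ({x} : Set G))).eq) hxodd)
  have hTM : (T : Subgroup G) ≤ M := hTA.trans hAM
  obtain ⟨F, _, _, f, hf, hF, φ, hφ, hker, hKodd⟩ := ind M hMt (T.subtype hTM)
    (fun hc => hnc ((Subgroup.subgroupOfEquivOfLe hTM).isCyclic.1 hc)) (fun hn => hnN fun m hm => by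
      obtain ⟨k, hk⟩ : ∃ k : ℕ, t ^ 2 ^ k = 1 := ⟨1, by rw [pow_one, pow_two, hA.sq]⟩
      have htT := mem_sylow_of_commute (T := T) (fun y hy => hab t hA.t_mem y (hTA hy)) hk
      exact hA.mem_nA_of_conj_invol hA.t_mem hA.sq hA.ne
        (hTA (hn.conj_mem ⟨t, hTM htT⟩ htT ⟨m, hm⟩)))
  have : CharP F 2 := charP_two_of_card hF
  have hq : 4 ≤ Nat.card F := by
    rw [Nat.card_eq_fintype_card, hF]
    exact Nat.pow_le_pow_right two_pos hf
  have hM := pre_subgroup hA hAM hnN
  -- the kernel lies in `A`, and `A` maps to elements squaring to one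
  have hKA : ∀ k ∈ φ.ker, (k : G) ∈ A := fun k hk => by
    rw [hA.eq, mem_cent]
    exact (show Commute (⟨t, hAM hA.t_mem⟩ : M) k from Subgroup.mem_center_iff.1 (hker hk) _).symm.map M.subtype
  have hKo : ∀ k ∈ φ.ker, Odd (orderOf k) := fun k hk =>
    hKodd.of_dvd_nat (by rw [← Subgroup.orderOf_mk k hk]; exact orderOf_dvd_natCard _)
  have hφt : φ ⟨t, hAM hA.t_mem⟩ ≠ 1 := fun e => hA.ne (congrArg Subtype.val
    (eq_one_of_odd (hKo _ e) (Subtype.ext hA.sq : (⟨t, hAM hA.t_mem⟩ : M) * ⟨t, hAM hA.t_mem⟩ = 1)))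
  have hAsq : ∀ a ∈ A.subgroupOf M, φ a * φ a = 1 := fun a ha =>
    sq_of_comm_invol (by rw [← map_mul, show (⟨t, hAM hA.t_mem⟩ : M) * ⟨t, hAM hA.t_mem⟩ = 1 from
      Subtype.ext hA.sq, map_one]) hφt ((hM.comm_invol ha hM.t_mem hM.sq).map φ)
  -- an involution of `M` that is conjugated into `M` by `g` forces `g ∈ M`
  have hse : ∀ g s : G, s ∈ M → s * s = 1 → s ≠ 1 → g * s * g⁻¹ ∈ M → g ∈ M := by
    intro g s hs hs2 hs1 hgs
    have h2 : g * s * g⁻¹ * (g * s * g⁻¹) = 1 := by
      rw [show g * s * g⁻¹ * (g * s * g⁻¹) = g * (s * s) * g⁻¹ by group, hs2, mul_one, mul_inv_cancel]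
    obtain ⟨m, hm⟩ := isConj_iff.1 (hM.one_class (s := ⟨s, hs⟩) (Subtype.ext hs2)
      fun e => hs1 (congrArg Subtype.val e))
    obtain ⟨l, hl⟩ := isConj_iff.1 (hM.one_class (s := ⟨g * s * g⁻¹, hgs⟩) (Subtype.ext h2)
      fun e => hs1 (conj_eq_one_iff.1 (congrArg Subtype.val e)))
    have hm' : (m : G) * t * (m : G)⁻¹ = s := congrArg Subtype.val hm
    have hl' : (l : G) * t * (l : G)⁻¹ = g * m * t * (g * m)⁻¹ := by
      have e : (l : G) * t * (l : G)⁻¹ = g * s * g⁻¹ := congrArg Subtype.val hl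
      rw [e, ← hm']; group
    have := hAM (hA.eq.symm ▸ conj_t_eq_iff.1 hl' : (l : G)⁻¹ * (g * m) ∈ A)
    have := mul_mem (mul_mem l.2 this) (inv_mem m.2)
    rwa [mul_inv_cancel_left, mul_inv_cancel_right] at this
  -- count the involutions outside `M`
  let V := {y : G // (y * y = 1 ∧ y ≠ 1) ∧ y ∉ M}
  let C := {c : G ⧸ M // c ≠ QuotientGroup.mk 1}
  let ψ : V → C := fun y => ⟨QuotientGroup.mk y.1, fun e => y.2.2 (by
    simpa using QuotientGroup.eq.1 e.symm)⟩
  have hsplit : A.index = Nat.card V + (A.subgroupOf M).index := by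
    rw [← hA.card_invol, ← hM.card_invol,
      ← Nat.card_congr (Equiv.sumCompl fun y : {y : G // y * y = 1 ∧ y ≠ 1} => (y : G) ∈ M),
      Nat.card_sum, add_comm]
    congr 1
    · exact Nat.card_congr (Equiv.subtypeSubtypeEquivSubtypeInter _ fun y : G => y ∉ M)
    · exact Nat.card_congr
        { toFun := fun y => ⟨⟨y.1.1, y.2⟩, Subtype.ext y.1.2.1, fun e => y.1.2.2 (congrArg Subtype.val e)⟩
          invFun := fun y => ⟨⟨y.1.1, congrArg Subtype.val y.2.1, fun e => y.2.2 (Subtype.ext e)⟩, y.1.2⟩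
          left_inv := fun y => rfl
          right_inv := fun y => rfl }
  have hC : Nat.card C + 1 = M.index := by
    rw [Subgroup.index_eq_card, ← Nat.card_congr (Equiv.sumCompl fun c : G ⧸ M => c = QuotientGroup.mk 1),
      Nat.card_sum,
      show Nat.card {c : G ⧸ M // c = QuotientGroup.mk 1} = 1 from
        Nat.card_eq_one_iff_unique.2 ⟨⟨fun a b => Subtype.ext (a.2.trans b.2.symm)⟩, ⟨⟨_, rfl⟩⟩⟩]
    show Nat.card C + 1 = 1 + Nat.card C
    omega
  have hVC : Nat.card V = Nat.card C * (A.subgroupOf M).index := by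
    have e : (A.subgroupOf M).index * M.index = A.index := Subgroup.relIndex_mul_index hAM
    rw [← hC, hsplit, Nat.mul_add, mul_one] at e
    rw [mul_comm]
    omega
  obtain ⟨c, hc⟩ : ∃ c : C, (A.subgroupOf M).index ≤ Nat.card {y : V // ψ y = c} := by
    have : Nonempty C := by
      refine (Nat.card_pos_iff.1 ?_).1
      have : M.index ≠ 1 := fun e => hMt (Subgroup.index_eq_one.1 e)
      have : M.index ≠ 0 := Subgroup.index_ne_zero_of_finite
      omega
    let _ := Fintype.ofFinite C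
    obtain ⟨c, -, hc⟩ := Finset.exists_le_of_sum_le (Finset.univ_nonempty (α := C))
      (f := fun _ => (A.subgroupOf M).index) (g := fun c => Nat.card {y : V // ψ y = c}) (le_of_eq (by
        rw [← Nat.card_sigma, Nat.card_congr (Equiv.sigmaFiberEquiv ψ), hVC, Finset.sum_const,
          Finset.card_univ, smul_eq_mul, Nat.card_eq_fintype_card (α := C)]))
    exact ⟨c, hc⟩
  obtain ⟨⟨⟨v, ⟨hv2, hv1⟩, hvM⟩, hvc⟩⟩ : Nonempty {y : V // ψ y = c} := (Nat.card_pos_iff.1
    (lt_of_lt_of_le (Nat.pos_of_ne_zero Subgroup.index_ne_zero_of_finite) hc)).1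
  have hvi : v⁻¹ = v := inv_eq_of_mul_eq_one_right hv2
  -- the differences from `v` lie in `M` and are inverted by `v`
  let R : Subgroup (ProjectiveSpecialLinearGroup (Fin 2) F) :=
    ((M.map (MulAut.conj v).toMonoidHom).subgroupOf M).map φ
  have hd : ∀ y : {y : V // ψ y = c}, v * y.1.1 ∈ M := fun y => by
    have := QuotientGroup.eq.1 (congrArg Subtype.val (hvc.trans y.2.symm))
    rwa [hvi] at this
  have hconjmem : ∀ m : G, v * m * v ∈ M → m ∈ M.map (MulAut.conj v).toMonoidHom := fun m hm =>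
    ⟨_, hm, by
      show v * (v * m * v) * v⁻¹ = m
      rw [hvi, show v * (v * m * v) * v = (v * v) * m * (v * v) by group, hv2, one_mul, mul_one]⟩
  have hR : (A.subgroupOf M).index ≤ Nat.card R := by
    refine hc.trans (Nat.card_le_card_of_injective (fun y => (⟨φ ⟨v * y.1.1, hd y⟩,
      ⟨⟨v * y.1.1, hd y⟩, hconjmem _ ?_, rfl⟩⟩ : R)) ?_)
    · have e : v * (v * y.1.1) * v = (v * y.1.1)⁻¹ := by
        rw [mul_inv_rev, hvi, inv_eq_of_mul_eq_one_right y.1.2.1.1, ← mul_assoc v v, hv2, one_mul]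
      change v * (v * y.1.1) * v ∈ M
      rw [e]; exact inv_mem (hd y)
    · intro y z e
      have e' : φ ⟨v * y.1.1, hd y⟩ = φ ⟨v * z.1.1, hd z⟩ := congrArg Subtype.val e
      have hk : (⟨v * y.1.1, hd y⟩ : M)⁻¹ * ⟨v * z.1.1, hd z⟩ ∈ φ.ker := by
        rw [MonoidHom.mem_ker, map_mul, map_inv, e', inv_mul_cancel]
      have hyi := inv_eq_of_mul_eq_one_right y.1.2.1.1
      have hw : (((⟨v * y.1.1, hd y⟩ : M)⁻¹ * ⟨v * z.1.1, hd z⟩ : M) : G) = y.1.1 * z.1.1 := by
        show (v * y.1.1)⁻¹ * (v * z.1.1) = _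
        rw [mul_inv_rev, hvi, hyi, mul_assoc, ← mul_assoc v v, hv2, one_mul]
      have hw1 : y.1.1 * z.1.1 = 1 := by
        have hsq : y.1.1 * z.1.1 * (y.1.1 * z.1.1) = 1 := sq_eq_one_of_inverted hab hA.sylow
          y.1.2.1.1 (hw ▸ hKA _ hk) (by
            rw [mul_inv_rev, hyi, inv_eq_of_mul_eq_one_right z.1.2.1.1, ← mul_assoc, y.1.2.1.1, one_mul])
        have ho := hKo _ hk
        rw [← Subgroup.orderOf_coe, hw] at ho
        exact eq_one_of_odd ho hsq
      exact Subtype.ext (Subtype.ext (by rw [eq_inv_of_mul_eq_one_left hw1,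
        inv_eq_of_mul_eq_one_right z.1.2.1.1]))
  -- `R` is proper, so too small
  have hRt : R ≠ ⊤ := by
    intro e
    obtain ⟨y, hy, hyt⟩ := (e ▸ Subgroup.mem_top (φ ⟨t, hAM hA.t_mem⟩) : φ ⟨t, hAM hA.t_mem⟩ ∈ R)
    obtain ⟨n, hn2, hnφ⟩ := exists_sq_lift φ hKodd (x := y) (by
      rw [hyt, ← map_mul, show (⟨t, hAM hA.t_mem⟩ : M) * ⟨t, hAM hA.t_mem⟩ = 1 from Subtype.ext hA.sq,
        map_one])
    have hy1 : ((y ^ n : M) : G) ≠ 1 := fun e' => hφt (by
      rw [← hyt, ← hnφ, show y ^ n = 1 from Subtype.ext e', map_one])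
    obtain ⟨m, hm, hmy⟩ := Subgroup.mem_subgroupOf.1 (pow_mem hy n)
    change v * m * v⁻¹ = ((y ^ n : M) : G) at hmy
    refine hvM (hse v m hm ?_ (fun e' => hy1 (by rw [← hmy, e', mul_one, mul_inv_cancel]))
      (by rw [hmy]; exact (y ^ n).2))
    have e2 : ((y ^ n : M) : G) * ((y ^ n : M) : G) = 1 := congrArg Subtype.val hn2
    rw [← hmy, show v * m * v⁻¹ * (v * m * v⁻¹) = v * (m * m) * v⁻¹ by group] at e2
    exact conj_eq_one_iff.1 e2
  have : Fact (Nat.Prime 2) := ⟨Nat.prime_two⟩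
  have hlow := CfsgLib.SL2.succ_le_index hRt (by
    have he : Even (Nat.card F) := by
      rw [Nat.card_eq_fintype_card, hF]; exact Nat.even_pow.2 ⟨even_two, by omega⟩
    obtain ⟨j, hj⟩ := he
    simp only [Finset.mem_insert, Finset.mem_singleton, not_or]
    omega)
  have hup : Nat.card ((A.subgroupOf M).map φ) ≤ Nat.card F := card_le_of_sq fun z hz => by
    obtain ⟨a, ha, rfl⟩ := hz
    exact hAsq a ha
  have e : Nat.card R * R.index = Nat.card ((A.subgroupOf M).map φ) * (A.subgroupOf M).index := by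
    rw [← Subgroup.index_map_eq (H := A.subgroupOf M) hφ (fun k hk => hKA k hk), Subgroup.card_mul_index,
      Subgroup.card_mul_index]
  have hpos : 0 < Nat.card R := Nat.card_pos
  have h1 := Nat.mul_le_mul_left (Nat.card R) hlow
  have h2 := Nat.mul_le_mul hup hR
  rw [Nat.mul_add, mul_one, e] at h1
  rw [mul_comm (Nat.card F) (Nat.card R)] at h2
  omega

/-- An odd central element: the quotient by it is again of the same sort. -/
theorem cover_of_quotient (h : AbInvCent G) (T : Sylow 2 G) (hnc : ¬ IsCyclic (T : Subgroup G))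
    (hnn : ¬ (T : Subgroup G).Normal) {A : Subgroup G} {t : G} (hA : PreSetup A t)
    (hab : ∀ a ∈ A, ∀ b ∈ A, Commute a b)
    (hTA : (T : Subgroup G) ≤ A) {z : G} (hz : z ∈ Subgroup.center G) (hzo : Odd (orderOf z))
    [(Subgroup.zpowers z).Normal]
    (ind : AbInvCent (G ⧸ Subgroup.zpowers z) → ∀ P : Sylow 2 (G ⧸ Subgroup.zpowers z),
      ¬ IsCyclic (P : Subgroup (G ⧸ Subgroup.zpowers z)) →
      ¬ (P : Subgroup (G ⧸ Subgroup.zpowers z)).Normal → IsOddCover (G ⧸ Subgroup.zpowers z)) :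
    IsOddCover G := by
  classical
  let π := QuotientGroup.mk' (Subgroup.zpowers z)
  have hZ0 : ∀ c ∈ Subgroup.zpowers z, c ∈ Subgroup.center G := fun c hc =>
    Subgroup.zpowers_le.2 hz hc
  have hZodd : Odd (Nat.card π.ker) := by
    rw [QuotientGroup.ker_mk', Nat.card_zpowers]; exact hzo
  have hπ : ∀ a b : G, π a = π b → a⁻¹ * b ∈ Subgroup.zpowers z := fun a b e => QuotientGroup.eq.1 e
  have hZo : ∀ c ∈ Subgroup.zpowers z, Odd (orderOf c) := fun c hc =>
    hzo.of_dvd_nat (by
      rw [← Nat.card_zpowers z, ← Subgroup.orderOf_mk c hc]; exact orderOf_dvd_natCard _)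
  -- commuting with an involution lifts
  have hlift : ∀ s y : G, s * s = 1 → π (y * s) = π (s * y) → Commute y s := by
    intro s y hs e
    obtain ⟨c, hc, hcdef⟩ : ∃ c ∈ Subgroup.zpowers z, y * s = s * y * c :=
      ⟨(s * y)⁻¹ * (y * s), hπ _ _ e.symm, by rw [mul_inv_cancel_left]⟩
    have hsc : Commute s c := Subgroup.mem_center_iff.1 (hZ0 c hc) s
    have hyc : Commute y c := Subgroup.mem_center_iff.1 (hZ0 c hc) y
    have hcc : c * c = 1 := by
      have e1 : y * s * s = y := by rw [mul_assoc, hs, mul_one]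
      rw [hcdef, mul_assoc, ← hsc.eq, ← mul_assoc, mul_assoc s y s, hcdef,
        show s * (s * y * c) * c = (s * s) * y * (c * c) by group, hs, one_mul] at e1
      exact mul_left_cancel (e1.trans (mul_one y).symm)
    rw [eq_one_of_odd (hZo c hc) hcc, mul_one] at hcdef
    exact hcdef
  have hQ : AbInvCent (G ⧸ Subgroup.zpowers z) := by
    intro x a b hx hx1 ha hb
    obtain ⟨x₀, rfl⟩ := QuotientGroup.mk'_surjective (Subgroup.zpowers z) x
    obtain ⟨a, rfl⟩ := QuotientGroup.mk'_surjective (Subgroup.zpowers z) a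
    obtain ⟨b, rfl⟩ := QuotientGroup.mk'_surjective (Subgroup.zpowers z) b
    obtain ⟨n, hn2, hnπ⟩ := exists_sq_lift π hZodd (x := x₀) hx
    have hn1 : x₀ ^ n ≠ 1 := fun e => hx1 (hnπ.symm.trans (by rw [e, map_one]))
    refine (h (x₀ ^ n) a b hn2 hn1 (hlift _ a hn2 ?_) (hlift _ b hn2 ?_)).map π
    · rw [map_mul, map_mul, hnπ]; exact ha.eq
    · rw [map_mul, map_mul, hnπ]; exact hb.eq
  have hinj : Function.Injective (π.comp (T : Subgroup G).subtype) := by
    rw [injective_iff_map_eq_one]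
    intro x hx
    obtain ⟨k, hk⟩ := T.2 x
    have hmem : (x : G) ∈ Subgroup.zpowers z := (QuotientGroup.eq_one_iff _).1 hx
    have hd : orderOf (x : G) ∣ 2 ^ k := orderOf_dvd_of_pow_eq_one (congrArg Subtype.val hk)
    have ho := Nat.Coprime.pow_right k (Nat.coprime_two_right.2 (hZo _ hmem))
    exact Subtype.ext (orderOf_eq_one_iff.1 (Nat.dvd_one.1 (ho.dvd_of_dvd_mul_right (by rwa [one_mul]))))
  let P : Sylow 2 (G ⧸ Subgroup.zpowers z) := T.mapSurjective (QuotientGroup.mk'_surjective _)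
  have hP : (P : Subgroup (G ⧸ Subgroup.zpowers z)) = (T : Subgroup G).map π := rfl
  have hPc : ¬ IsCyclic (P : Subgroup (G ⧸ Subgroup.zpowers z)) := fun hc => by
    refine hnc (isCyclic_of_injective
      ((π.comp (T : Subgroup G).subtype).codRestrict (P : Subgroup (G ⧸ Subgroup.zpowers z))
        fun x => hP ▸ Subgroup.mem_map_of_mem π x.2) fun x y e => hinj (congrArg Subtype.val e))
  have hPn : ¬ (P : Subgroup (G ⧸ Subgroup.zpowers z)).Normal := fun hn => by
    refine hnn ⟨fun x hx g => ?_⟩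
    obtain ⟨k, hk⟩ := T.2 ⟨x, hx⟩
    refine mem_sylow_of_commute (fun y hy => ?_) (k := k)
      (by rw [conj_pow, show x ^ 2 ^ k = 1 from congrArg Subtype.val hk, mul_one, mul_inv_cancel])
    have hm : π (g * x * g⁻¹) ∈ (P : Subgroup (G ⧸ Subgroup.zpowers z)) := by
      rw [map_mul, map_mul, map_inv]
      exact hn.conj_mem _ (hP ▸ Subgroup.mem_map_of_mem π hx) _
    rw [hP] at hm
    obtain ⟨w, hw, hwe⟩ := hm
    have hc : Commute ((g * x * g⁻¹)⁻¹ * w) y :=
      (Subgroup.mem_center_iff.1 (hZ0 _ (hπ _ _ hwe.symm)) y).symm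
    have hwy : Commute w y := hab w (hTA hw) y (hTA hy)
    have := hwy.mul_left hc.inv_left
    rwa [mul_inv_rev, inv_inv, ← mul_assoc, mul_inv_cancel, one_mul] at this
  obtain ⟨F, iF, iF', f, hf, hF, φ, hφ, hker, hodd⟩ := ind hQ P hPc hPn
  have : CharP F 2 := charP_two_of_card hF
  refine ⟨F, iF, iF', f, hf, hF, φ.comp π, hφ.comp (QuotientGroup.mk'_surjective _), ?_, ?_⟩
  · -- the kernel commutes with all involutions, which together with it generate the group
    have hcom : ∀ k ∈ (φ.comp π).ker, ∀ s : G, s * s = 1 → Commute k s := fun k hk s hs =>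
      hlift s k hs (by rw [map_mul, map_mul]; exact (Subgroup.mem_center_iff.1 (hker hk) _).symm)
    have : IsSimpleGroup (ProjectiveSpecialLinearGroup (Fin 2) F) := isSimple (by
      rw [Nat.card_eq_fintype_card, hF]
      have := Nat.pow_le_pow_right two_pos hf
      omega)
    let I : Subgroup G := Subgroup.normalClosure {t}
    have hI : (I.map (φ.comp π)) = ⊤ := by
      have hn : (I.map (φ.comp π)).Normal :=
        Subgroup.Normal.map inferInstance _ (hφ.comp (QuotientGroup.mk'_surjective _))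
      refine hn.eq_bot_or_eq_top.resolve_left fun e => ?_
      have ht : φ (π t) = 1 := Subgroup.mem_bot.1
        (e ▸ Subgroup.mem_map_of_mem (φ.comp π) (Subgroup.subset_normalClosure rfl))
      have ho : Odd (orderOf (π t)) := hodd.of_dvd_nat (by
        rw [← Subgroup.orderOf_mk (π t) (MonoidHom.mem_ker.2 ht)]; exact orderOf_dvd_natCard _)
      have h1 : π t = 1 := eq_one_of_odd ho (by rw [← map_mul, hA.sq, map_one])
      exact hA.ne (eq_one_of_odd (hZo t ((QuotientGroup.eq_one_iff _).1 h1)) hA.sq)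
    have hcomI : ∀ k ∈ (φ.comp π).ker, ∀ i ∈ I, Commute k i := by
      intro k hk i hi
      have : I ≤ Subgroup.centralizer ({k} : Set G) := by
        refine (Subgroup.closure_le _).2 fun y hy => ?_
        obtain ⟨s, hs, hsy⟩ := Group.mem_conjugatesOfSet_iff.1 hy
        rw [Set.mem_singleton_iff] at hs
        subst hs
        obtain ⟨g, rfl⟩ := isConj_iff.1 hsy
        exact mem_cent.2 (hcom k hk _ (by
          rw [show g * s * g⁻¹ * (g * s * g⁻¹) = g * (s * s) * g⁻¹ by group, hA.sq, mul_one,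
            mul_inv_cancel])).symm
      exact (mem_cent.1 (this hi)).symm
    intro k hk
    refine Subgroup.mem_center_iff.2 fun g => ?_
    obtain ⟨i, hi, hie⟩ := (hI.symm ▸ Subgroup.mem_top (φ (π g)) : φ (π g) ∈ I.map (φ.comp π))
    have hk' : i⁻¹ * g ∈ (φ.comp π).ker := by
      rw [MonoidHom.mem_ker, map_mul, map_inv, hie]; exact inv_mul_cancel _
    have hkk : Commute k (i⁻¹ * g) :=
      hab k (hA.eq ▸ mem_cent.2 (hcom k hk t hA.sq)) _ (hA.eq ▸ mem_cent.2 (hcom _ hk' t hA.sq))
    have := (hcomI k hk i hi).mul_right hkk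
    rw [mul_inv_cancel_left] at this
    exact this.eq.symm
  · have hle : π.ker ≤ (φ.comp π).ker := fun c hc => by
      rw [MonoidHom.mem_ker, MonoidHom.comp_apply, MonoidHom.mem_ker.1 hc, map_one]
    have e : (φ.comp π).ker = φ.ker.comap π := (MonoidHom.comap_ker φ π).symm
    have := Subgroup.relIndex_mul_relIndex ⊥ π.ker (φ.comp π).ker bot_le hle
    rw [Subgroup.relIndex_bot_left, Subgroup.relIndex_bot_left] at this
    rw [← this]
    refine hZodd.mul ?_
    have e2 : π.ker.relIndex (φ.comp π).ker = Nat.card φ.ker := by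
      rw [← MonoidHom.comap_bot π, e, Subgroup.relIndex_comap,
        Subgroup.map_comap_eq_self_of_surjective (QuotientGroup.mk'_surjective _),
        Subgroup.relIndex_bot_left]
    rw [e2]; exact hodd

theorem isOddCover_of_card : ∀ (n : ℕ) (G : Type u) [Group G] [Finite G], Nat.card G = n →
    AbInvCent G → ∀ T : Sylow 2 G, ¬ IsCyclic (T : Subgroup G) → ¬ (T : Subgroup G).Normal →
      IsOddCover G := by
  intro n
  induction n using Nat.strong_induction_on with
  | _ n ih =>
    intro G _ _ hn h T hnc hnn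
    obtain ⟨A, t, hA, hab, hTA, hinv⟩ := exists_pre h T hnc hnn
    by_cases hZ : ∀ z ∈ Subgroup.center G, Odd (orderOf z) → z = 1
    · have hS : Setup A t := ⟨hA, cle_of_ind hnc hA hab hTA (fun H hH => by
        have hlt : Nat.card H < n := hn ▸ lt_of_le_of_ne (Nat.card_le_card_of_injective _ H.subtype_injective)
          (fun e => hH (Subgroup.eq_top_of_card_eq H e))
        exact ih _ hlt H rfl (h.subgroup H)) hZ⟩
      obtain ⟨F, iF, iF', f, hf, hF, -, -, ⟨e⟩⟩ := hS.classify_of_two_le hab hinv T hTA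
      refine ⟨F, iF, iF', f, hf, hF, e.toMonoidHom, e.surjective, ?_, ?_⟩ <;>
        rw [(MonoidHom.ker_eq_bot_iff e.toMonoidHom).2 e.injective]
      · exact bot_le
      · rw [Subgroup.card_bot]; exact odd_one
    · push Not at hZ
      obtain ⟨z, hz, hzo, hz1⟩ := hZ
      have : (Subgroup.zpowers z).Normal := ⟨fun c hc g => by
        rw [Subgroup.mem_center_iff.1 (Subgroup.zpowers_le.2 hz hc) g, mul_inv_cancel_right]; exact hc⟩
      have hlt : Nat.card (G ⧸ Subgroup.zpowers z) < n := by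
        rw [← hn, ← Subgroup.index_eq_card]
        have hm := (Subgroup.zpowers z).index_mul_card
        have h2 : 1 < Nat.card (Subgroup.zpowers z) := by
          rw [Nat.card_zpowers]
          have := orderOf_pos z
          have : orderOf z ≠ 1 := fun e => hz1 (orderOf_eq_one_iff.1 e)
          omega
        rw [← hm]
        exact lt_mul_of_one_lt_right (Nat.pos_of_ne_zero Subgroup.index_ne_zero_of_finite) h2
      exact cover_of_quotient h T hnc hnn hA hab hTA hz hzo (ih _ hlt _ rfl)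

/-- A group with abelian involution centralisers and a Sylow 2-subgroup neither cyclic nor normal
is a central extension of `PSL(2, 2^n)` by a group of odd order. -/
theorem isOddCover (h : AbInvCent G) (T : Sylow 2 G) (hnc : ¬ IsCyclic (T : Subgroup G))
    (hnn : ¬ (T : Subgroup G).Normal) : IsOddCover G :=
  isOddCover_of_card _ G rfl h T hnc hnn

end CfsgLib.Invol.AIC
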