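import Cfsg.Agent.Lib.Invol.SelfNormalizingSetup
import Cfsg.Agent.Lib.SL2.Large

/-!
# `PSL(2, 2^n)` with `2^n - 1` prime, and self-normalising non-abelian subgroups
-/

set_option autoImplicit false
set_option linter.unusedSectionVars false
set_option linter.style.haveILetI false

namespace CfsgLib.Invol.SelfNorm

open CfsgLib.Invol.CASimple
open scoped MatrixGroups

universe u

variable {G : Type u} [Group G] [Finite G]

theorem psl_equiv_of_card {K F : Type*} [Field K] [Field F] [Finite K] [Finite F]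
    (h : Nat.card K = Nat.card F) :
    Nonempty (Matrix.ProjectiveSpecialLinearGroup (Fin 2) K ≃* Matrix.ProjectiveSpecialLinearGroup (Fin 2) F) := by
  obtain ⟨f⟩ := CfsgLib.SL2.nonempty_ringHom_of_pow_card (F := F) (K := K) 1 (by rw [pow_one]; exact h)
  refine ⟨MulEquiv.ofBijective (CfsgLib.SL2.pslMap f) ((Nat.bijective_iff_injective_and_card _).2
    ⟨CfsgLib.SL2.pslMap_injective f, ?_⟩)⟩
  have h1 := CfsgLib.SL2.card_PSL (F := K)
  have h2 := CfsgLib.SL2.card_PSL (F := F)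
  rw [h] at h1
  rw [← h2] at h1
  exact Nat.eq_of_mul_eq_mul_left (Nat.gcd_pos_of_pos_left _ two_pos) h1

theorem not_isMulCommutative_iff : ¬ IsMulCommutative G ↔ NC (⊤ : Subgroup G) := by
  constructor
  · intro h
    by_contra hn
    exact h ⟨⟨fun a b => commute_of_not_nc hn (Subgroup.mem_top a) (Subgroup.mem_top b)⟩⟩
  · rintro ⟨a, -, b, -, hab⟩ h
    exact hab (h.is_comm.comm a b)

theorem sn_iff : (∀ H : Subgroup G, ¬ IsMulCommutative H → Subgroup.normalizer (H : Set G) = H) ↔ SN G := by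
  constructor
  · intro h H hH g hg
    have hnc : ¬ IsMulCommutative H := fun hc => by
      obtain ⟨a, ha, b, hb, hab⟩ := hH
      exact hab (congrArg Subtype.val (hc.is_comm.comm (⟨a, ha⟩ : H) ⟨b, hb⟩))
    rw [← h H hnc]
    exact Subgroup.mem_normalizer_fintype fun x hx => hg x hx
  · intro hS H hH
    have hnc : NC H := by
      by_contra hn
      exact hH ⟨⟨fun a b => Subtype.ext (commute_of_not_nc hn a.2 b.2).eq⟩⟩
    exact le_antisymm (fun g hg => hS H hnc g fun x hx => (Subgroup.mem_normalizer_iff.1 hg x).1 hx)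
      Subgroup.le_normalizer

variable [IsSimpleGroup G]

/-- The set-up data of a simple group with transitive commuting. -/
theorem ca_data (hna : NC (⊤ : Subgroup G)) (hCA : CA G) :
    ∃ (A : Subgroup G) (t : G) (f : ℕ), Setup A t ∧ 2 ≤ f ∧ (invA A).ncard + 1 = 2 ^ f ∧
      (∀ a ∈ A, a * a = 1) ∧ Nat.card G = (2 ^ f + 1) * 2 ^ f * (2 ^ f - 1) ∧
      ∃ (F : Type) (_ : Field F) (_ : Fintype F), Fintype.card F = 2 ^ f ∧
        Nonempty (G ≃* Matrix.ProjectiveSpecialLinearGroup (Fin 2) F) := by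
  have hna' := not_isMulCommutative_iff.2 hna
  obtain ⟨T, A, t, h, hTA, htT⟩ := exists_setup hna' hCA
  obtain ⟨F, iF, iF', f, hf, hF, hA, hinv, ⟨e⟩⟩ := h.classify (h.abelian_of_ca hCA) hna' T hTA htT
  refine ⟨A, t, f, h, hf, hinv.trans hA, fun a ha => ?_, ?_, F, iF, iF', hF, ⟨e⟩⟩
  · by_cases ha1 : a = 1
    · rw [ha1, one_mul]
    · have heq : invA A = {y | y ∈ A ∧ y ≠ 1} := Set.eq_of_subset_of_ncard_le
        (fun y hy => ⟨hy.1, hy.2.2⟩) (by
          have : ({y | y ∈ A ∧ y ≠ 1} : Set G) = (A : Set G) \ {1} := rfl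
          rw [this]
          have h1 := Set.ncard_sdiff_singleton_add_one (s := (A : Set G)) (one_mem A) (Set.toFinite _)
          rw [← Nat.card_coe_set_eq (A : Set G)] at h1
          change _ = Nat.card A at h1
          omega) (Set.toFinite _)
      exact (heq ▸ (show a ∈ {y | y ∈ A ∧ y ≠ 1} from ⟨ha, ha1⟩) : a ∈ invA A).2.1
  · rw [Nat.card_congr e.toEquiv]
    have h1 := CfsgLib.SL2.card_PSL (F := F)
    have hg : Nat.gcd 2 (Nat.card F - 1) = 1 := by
      rw [Nat.card_eq_fintype_card, hF]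
      refine (Nat.Prime.coprime_iff_not_dvd Nat.prime_two).2 fun hd => ?_
      have : 2 ∣ 2 ^ f := dvd_pow_self 2 (by omega)
      have : 1 ≤ 2 ^ f := Nat.one_le_two_pow
      omega
    rw [hg, one_mul, Nat.card_eq_fintype_card (α := F), hF] at h1
    rw [h1]
    ring

theorem isPrime_of_sn (hna : NC (⊤ : Subgroup G)) (hS : SN G) :
    ∃ f : ℕ, 2 ≤ f ∧ (2 ^ f - 1).Prime ∧ ∃ (F : Type) (_ : Field F) (_ : Fintype F),
      Fintype.card F = 2 ^ f ∧ Nonempty (G ≃* Matrix.ProjectiveSpecialLinearGroup (Fin 2) F) := by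
  obtain ⟨A, t, f, h, hf, hq, -, -, hF⟩ := ca_data hna (ca_of_sn hna hS)
  refine ⟨f, hf, ?_, hF⟩
  obtain ⟨u, hu, -, huN⟩ := h.exists_outside
  obtain ⟨hinv, hsur⟩ := h.hsub_invert hu huN
  have h4 : 2 ^ 2 ≤ 2 ^ f := Nat.pow_le_pow_right two_pos hf
  have hcardH : Nat.card (hsub A u) = 2 ^ f - 1 := by
    rw [h.hsub_card hu huN]; omega
  obtain ⟨r, hr, hrd⟩ := Nat.exists_prime_and_dvd (n := Nat.card (hsub A u)) (by omega)
  have : Fact r.Prime := ⟨hr⟩
  obtain ⟨⟨x, hx⟩, hxo⟩ := exists_prime_orderOf_dvd_card' r hrd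
  rw [← Subgroup.orderOf_coe] at hxo
  have hx1 : x ≠ 1 := fun e => by
    subst e
    rw [show ((⟨1, hx⟩ : hsub A u) : G) = 1 from rfl, orderOf_one] at hxo
    exact hr.one_lt.ne hxo
  let L : Subgroup G := A ⊔ Subgroup.zpowers x
  have hLle : L ≤ nA A := sup_le Subgroup.le_normalizer (Subgroup.zpowers_le.2 hx.1)
  have hLnc : NC L := by
    refine ⟨t, Subgroup.mem_sup_left h.t_mem, x, Subgroup.mem_sup_right (Subgroup.mem_zpowers x), fun hc => hx1 ?_⟩
    exact h.hsub_inf hu huN (h.mem_of_commute h.t_mem h.sq h.ne hc.symm) hx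
  have hN : nA A ≤ L := by
    intro g hg
    obtain ⟨k, hk, hkA⟩ := hsur g hg
    refine hS L hLnc g fun z hz => ?_
    have hgA : ∀ a ∈ A, g * a * g⁻¹ ∈ L := fun a ha =>
      Subgroup.mem_sup_left ((Subgroup.mem_normalizer_iff.1 hg a).1 ha)
    have hgx : g * x * g⁻¹ ∈ L := by
      obtain ⟨a, ha, rfl⟩ : ∃ a ∈ A, g = k * a :=
        ⟨(g⁻¹ * k)⁻¹, inv_mem hkA, by group⟩
      have hkx : k * x = x * k := (h.hsub_comm hu huN hk hx).eq
      rw [show k * a * x * (k * a)⁻¹ = (k * a * k⁻¹) * (k * x * k⁻¹) * (k * a⁻¹ * k⁻¹) by group,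
        hkx, mul_inv_cancel_right]
      exact mul_mem (mul_mem (Subgroup.mem_sup_left ((Subgroup.mem_normalizer_iff.1 hk.1 a).1 ha))
        (Subgroup.mem_sup_right (Subgroup.mem_zpowers x)))
        (Subgroup.mem_sup_left ((Subgroup.mem_normalizer_iff.1 hk.1 _).1 (inv_mem ha)))
    have hle : L ≤ L.comap (MulAut.conj g).toMonoidHom :=
      sup_le (fun a ha => hgA a ha) (Subgroup.zpowers_le.2 hgx)
    exact hle hz
  have hH : hsub A u = Subgroup.zpowers x := by
    refine le_antisymm (fun y hy => ?_) (Subgroup.zpowers_le.2 hx)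
    obtain ⟨a, ha, z, hz, e⟩ : ∃ a ∈ A, ∃ z ∈ Subgroup.zpowers x, a * z = y := by
      have hyL : y ∈ A ⊔ Subgroup.zpowers x := hN hy.1
      rw [← SetLike.mem_coe, Subgroup.coe_mul_of_right_le_normalizer_left A (Subgroup.zpowers x)
        (Subgroup.zpowers_le.2 hx.1)] at hyL
      exact hyL
    have hzH : z ∈ hsub A u := Subgroup.zpowers_le.2 hx hz
    have ha1 := h.hsub_inf hu huN ha (by
      have := mul_mem hy (inv_mem hzH)
      rwa [← e, mul_inv_cancel_right] at this)
    rw [← e, ha1, one_mul]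
    exact hz
  rw [hH, Nat.card_zpowers, hxo] at hcardH
  rwa [← hcardH]

/-! ### The converse -/

/-- In an even characteristic `SL₂`, commuting non-scalar elements of equal trace are equal or
inverse. -/
theorem eq_or_inv_of_commute {F : Type*} [Field F] [CharP F 2] {x y : SL(2, F)}
    (hx : CfsgLib.SL2.NonScalar (x : Matrix (Fin 2) (Fin 2) F)) (hxy : Commute x y)
    (ht : (x : Matrix (Fin 2) (Fin 2) F).trace ≠ 0)
    (htr : (y : Matrix (Fin 2) (Fin 2) F).trace = (x : Matrix (Fin 2) (Fin 2) F).trace) :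
    y = x ∨ y = x⁻¹ := by
  obtain ⟨a, b, hab, hn⟩ := CfsgLib.SL2.exists_coords hx (CfsgLib.SL2.mem_cent_iff.2 hxy.eq)
  set τ := (x : Matrix (Fin 2) (Fin 2) F).trace
  have hb : b = 1 := by
    rw [hab, Matrix.trace_add, Matrix.trace_smul, Matrix.trace_smul, Matrix.trace_one, Fintype.card_fin] at htr
    simp only [smul_eq_mul, Nat.cast_ofNat, CharTwo.two_eq_zero, mul_zero, zero_add] at htr
    exact mul_right_cancel₀ ht (htr.trans (one_mul τ).symm)
  subst hb
  rw [one_smul] at hab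
  simp only [mul_one] at hn
  have ha : a * (a + τ) = 0 := by linear_combination hn
  rcases mul_eq_zero.1 ha with e | e
  · left
    refine Subtype.ext ?_
    rw [hab, e, zero_smul, zero_add]
  · right
    rw [CharTwo.add_eq_zero] at e
    refine Subtype.ext ?_
    rw [hab, e, Matrix.SpecialLinearGroup.coe_inv, Matrix.adjugate_fin_two]
    ext i j
    fin_cases i <;> fin_cases j <;>
      simp [τ, Matrix.trace_fin_two, CharTwo.neg_eq] <;> grind [CharTwo.add_self_eq_zero]

variable {A : Subgroup G} {t : G}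

/-- A group with a transitive action by conjugation on the involutions of `A`. -/
theorem exists_conj_pow (h : Setup A t) {n : G} {r : ℕ} (hr : r.Prime) (hn : n ∈ nA A) (hnA : n ∉ A)
    (hcard : (invA A).ncard = r) (hord : orderOf n = r) {s : G} (hs : s ∈ invA A) :
    ∃ i : ℕ, n ^ i * t * (n ^ i)⁻¹ = s := by
  classical
  let f : Fin r → G := fun i => n ^ (i : ℕ) * t * (n ^ (i : ℕ))⁻¹
  have hf : ∀ i, f i ∈ invA A := fun i => h.conj_t_mem (pow_mem hn _)
  have hinj : Function.Injective f := by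
    intro i j e
    by_contra hne
    wlog hlt : (i : ℕ) < j generalizing i j with H
    · exact H e.symm (fun e' => hne e'.symm) (lt_of_le_of_ne (not_lt.1 hlt) fun e' => hne (Fin.ext e'.symm))
    have hc := conj_t_eq_iff.1 e
    rw [← h.eq, show (n ^ (i : ℕ))⁻¹ * n ^ (j : ℕ) = n ^ ((j : ℕ) - i) by
      rw [inv_mul_eq_iff_eq_mul, ← pow_add, Nat.add_sub_cancel' hlt.le]] at hc
    have hcop : ((j : ℕ) - i).Coprime r := ((Nat.Prime.coprime_iff_not_dvd hr).2 fun hd => by
      have := Nat.le_of_dvd (by omega) hd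
      have := j.2
      omega).symm
    obtain ⟨m, hm⟩ := exists_pow_eq_self_of_coprime (x := n) (by rw [hord]; exact hcop)
    exact hnA (hm ▸ pow_mem hc m)
  have himg : Set.range f = invA A := Set.eq_of_subset_of_ncard_le (Set.range_subset_iff.2 hf)
    (by rw [Set.ncard_range_of_injective hinj, Nat.card_fin, hcard]) (Set.toFinite _)
  obtain ⟨i, hi⟩ := (himg ▸ hs : s ∈ Set.range f)
  exact ⟨i, hi⟩

/-- The data for the converse: `2^f - 1` is prime. -/
theorem sn_of_data (h : Setup A t) {r : ℕ} (hr : r.Prime) (_hr2 : r ≠ 2) (hcard : (invA A).ncard = r)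
    (hexp : ∀ a ∈ A, a * a = 1) (hCA : CA G) {H : Subgroup G} (hnc : NC H) (htH : t ∈ H)
    {g : G} (hg : ∀ x ∈ H, g * x * g⁻¹ ∈ H) : g ∈ H := by
  -- elements of `N` outside `A` have order `r`
  have hord : ∀ n ∈ nA A, n ∉ A → orderOf n = r := by
    intro n hn hnA
    have hk : n ^ r ∈ A := by
      have := pow_card_eq_one' (x := ((QuotientGroup.mk ⟨n, hn⟩) : (nA A) ⧸ A.subgroupOf (nA A)))
      rw [h.card_invA, hcard, ← QuotientGroup.mk_pow, QuotientGroup.eq_one_iff] at this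
      simpa [Subgroup.mem_subgroupOf] using this
    have h1 : n ^ r = 1 := by
      by_contra hne
      exact hnA (h.mem_of_commute hk (hexp _ hk) hne ((Commute.refl n).pow_right r))
    exact orderOf_eq_prime_iff (hp := ⟨hr⟩) |>.2 ⟨h1, fun e => hnA (e ▸ one_mem A)⟩
  -- if `H` meets `N` outside `A`, it contains `A`
  have hfull : ∀ n ∈ H, n ∈ nA A → n ∉ A → A ≤ H := by
    intro n hnH hn hnA a ha
    by_cases ha1 : a = 1
    · exact ha1 ▸ one_mem H
    obtain ⟨i, hi⟩ := exists_conj_pow h hr hn hnA hcard (hord n hn hnA) ⟨ha, hexp a ha, ha1⟩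
    exact hi ▸ mul_mem (mul_mem (pow_mem hnH i) htH) (inv_mem (pow_mem hnH i))
  by_cases hHN : H ≤ nA A
  · -- then `H = N`
    obtain ⟨n, hnH, hnA⟩ : ∃ n ∈ H, n ∉ A := by
      by_contra hle
      push Not at hle
      obtain ⟨a, ha, b, hb, hab⟩ := hnc
      exact hab (h.abelian_of_ca hCA a (hle a ha) b (hle b hb))
    have hAH := hfull n hnH (hHN hnH) hnA
    have hHeq : H = nA A := by
      refine le_antisymm hHN fun x hx => ?_
      by_cases hxA : x ∈ A
      · exact hAH hxA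
      · obtain ⟨i, hi⟩ := exists_conj_pow h hr (hHN hnH) hnA hcard (hord n (hHN hnH) hnA) (h.conj_t_mem hx)
        have hc := conj_t_eq_iff.1 hi
        rw [← h.eq] at hc
        have := mul_mem (pow_mem hnH i) (hAH hc)
        rwa [mul_inv_cancel_left] at this
    rw [hHeq]
    have hgt := hg t htH
    rw [hHeq] at hgt
    exact h.mem_nA_of_conj h.t_mem h.ne (h.invol_mem hgt (by
      rw [show g * t * g⁻¹ * (g * t * g⁻¹) = g * (t * t) * g⁻¹ by group, h.sq, mul_one, mul_inv_cancel]))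
  · -- the involutions of `H` are conjugate in `H`
    obtain ⟨k, hkH, hkN⟩ := Set.not_subset.1 hHN
    have hvA : k * t * k⁻¹ ∉ A := fun e => hkN (h.mem_nA_of_conj h.t_mem h.ne e)
    have hvH : k * t * k⁻¹ ∈ H := mul_mem (mul_mem hkH htH) (inv_mem hkH)
    have hconj : ∀ s ∈ H, s * s = 1 → s ≠ 1 → ∃ l ∈ H, l * t * l⁻¹ = s := by
      intro s hsH hs hs1
      have hv2 : k * t * k⁻¹ * (k * t * k⁻¹) = 1 := by
        rw [show k * t * k⁻¹ * (k * t * k⁻¹) = k * (t * t) * k⁻¹ by group, h.sq, mul_one, mul_inv_cancel]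
      have hv1 : k * t * k⁻¹ ≠ 1 := fun e => h.ne (conj_eq_one_iff.1 e)
      have link : ∀ a b : G, a ∈ H → b ∈ H → a * a = 1 → b * b = 1 → a ≠ 1 → ¬ Commute a b →
          ∃ l ∈ H, l * a * l⁻¹ = b := by
        intro a b ha hb ha2 hb2 ha1 hab
        rcases conj_or_link (G := H) (s := ⟨a, ha⟩) (t := ⟨b, hb⟩) (Subtype.ext ha2) (Subtype.ext hb2) with
          hc | ⟨w, hw1, -, hwa, hwb⟩
        · obtain ⟨l, hl⟩ := isConj_iff.1 hc
          exact ⟨l, l.2, congrArg Subtype.val hl⟩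
        · exact absurd (hCA w a b (fun e => hw1 (Subtype.ext e)) (hwa.symm.map H.subtype)
            (hwb.symm.map H.subtype)) hab
      by_cases hsA : s ∈ A
      · obtain ⟨l, hl, e⟩ := link (k * t * k⁻¹) s hvH hsH hv2 hs hv1
          fun hc => hvA (h.mem_of_commute hsA hs hs1 hc)
        exact ⟨l * k, mul_mem hl hkH, by rw [← e]; group⟩
      · exact link t s htH hsH h.sq hs h.ne fun hc => hsA (h.mem_of_commute h.t_mem h.sq h.ne hc.symm)
    obtain ⟨l, hlH, hl⟩ := hconj (g * t * g⁻¹) (hg t htH)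
      (by rw [show g * t * g⁻¹ * (g * t * g⁻¹) = g * (t * t) * g⁻¹ by group, h.sq, mul_one, mul_inv_cancel])
      (fun e => h.ne (conj_eq_one_iff.1 e))
    have hc := conj_t_eq_iff.1 hl
    rw [← h.eq] at hc
    suffices ha : l⁻¹ * g ∈ H by
      have := mul_mem hlH ha
      rwa [mul_inv_cancel_left] at this
    by_contra ha
    obtain ⟨a, hadef⟩ : ∃ a, a = l⁻¹ * g := ⟨_, rfl⟩
    rw [← hadef] at hc ha
    have hnone : ∀ n ∈ H, n ∈ nA A → n ∈ A := fun n hnH hn => by
      by_contra hnA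
      exact ha (hfull n hnH hn hnA hc)
    -- `a` normalises `H`
    have haH : ∀ x ∈ H, a * x * a⁻¹ ∈ H := fun x hx => by
      rw [hadef, show l⁻¹ * g * x * (l⁻¹ * g)⁻¹ = l⁻¹ * (g * x * g⁻¹) * l⁻¹⁻¹ by group]
      exact mul_mem (mul_mem (inv_mem hlH) (hg x hx)) (inv_mem (inv_mem hlH))
    have ha2 : a * a = 1 := hexp a hc
    have ha1 : a ≠ 1 := fun e => ha (e ▸ one_mem H)
    have hai : a⁻¹ = a := inv_eq_of_mul_eq_one_right ha2
    -- an involution in `H a` is conjugate to `t` under the group `H ⊔ ⟨a⟩`, which normalises `H`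
    let H2 : Subgroup G := H ⊔ Subgroup.zpowers a
    have hn : H2 ≤ Subgroup.normalizer (H : Set G) :=
      sup_le Subgroup.le_normalizer (Subgroup.zpowers_le.2 (Subgroup.mem_normalizer_fintype fun x hx => haH x hx))
    have hH2 : ∀ s ∈ H2, s * s = 1 → s ≠ 1 → s ∈ A → s ∈ H := by
      intro s hs2 hs hs1 hsA
      have hne : ¬ Commute (k * t * k⁻¹) s := fun hc => hvA (h.mem_of_commute hsA hs hs1 hc)
      rcases conj_or_link (G := H2) (s := ⟨k * t * k⁻¹, Subgroup.mem_sup_left hvH⟩) (t := ⟨s, hs2⟩)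
        (Subtype.ext (by
          show k * t * k⁻¹ * (k * t * k⁻¹) = 1
          rw [show k * t * k⁻¹ * (k * t * k⁻¹) = k * (t * t) * k⁻¹ by group, h.sq, mul_one, mul_inv_cancel]))
        (Subtype.ext hs) with hcj | ⟨w, hw1, -, hwa, hwb⟩
      · obtain ⟨m, hm⟩ := isConj_iff.1 hcj
        have e : (m : G) * (k * t * k⁻¹) * (m : G)⁻¹ = s := congrArg Subtype.val hm
        exact e ▸ (Subgroup.mem_normalizer_iff.1 (hn m.2) _).1 hvH
      · exact absurd (hCA w _ s (fun e => hw1 (Subtype.ext e)) (hwa.symm.map H2.subtype)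
          (hwb.symm.map H2.subtype)) hne
    exact ha (hH2 a (Subgroup.mem_sup_right (Subgroup.mem_zpowers a)) ha2 ha1 hc)

end CfsgLib.Invol.SelfNorm

namespace CfsgLib.Invol.SelfNorm

open CfsgLib.Invol.CASimple
open scoped MatrixGroups commutatorElement

variable {G : Type*} [Group G] [Finite G]

/-- A non-trivial finite solvable group has a non-trivial abelian normal subgroup. -/
theorem exists_abelian_normal {H : Type*} [Group H] [Finite H] [Nontrivial H] (hs : Group.IsSolvable H) :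
    ∃ M : Subgroup H, M.Normal ∧ M ≠ ⊥ ∧ ∀ a ∈ M, ∀ b ∈ M, Commute a b := by
  classical
  have hex : ∃ n, derivedSeries H n = ⊥ := hs.solvable
  rcases Nat.eq_zero_or_pos (Nat.find hex) with h0 | h0
  · have := Nat.find_spec hex
    rw [h0, derivedSeries_zero] at this
    exact absurd this top_ne_bot
  · refine ⟨derivedSeries H (Nat.find hex - 1), derivedSeries_normal H _,
      Nat.find_min hex (by omega), fun a ha b hb => ?_⟩
    have h1 : ⁅a, b⁆ ∈ derivedSeries H (Nat.find hex - 1 + 1) := by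
      rw [derivedSeries_succ]
      exact Subgroup.commutator_mem_commutator ha hb
    rw [show Nat.find hex - 1 + 1 = Nat.find hex by omega, Nat.find_spec hex, Subgroup.mem_bot] at h1
    exact commutatorElement_eq_one_iff_commute.1 h1

/-- In `PSL(2, q)`, `q` even, a subgroup of odd order is self-normalising unless abelian: such a
subgroup is abelian. -/
theorem odd_subgroup_comm {F : Type*} [Field F] [Fintype F] [CharP F 2] (φ : G ≃* SL(2, F)) (hCA : CA G)
    {H : Subgroup G} (hodd : Odd (Nat.card H)) : ¬ NC H := by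
  intro hnc
  have hne : Nontrivial H := by
    obtain ⟨a, ha, b, hb, hab⟩ := hnc
    exact ⟨⟨a, ha⟩, 1, fun e => hab (by rw [show a = 1 from congrArg Subtype.val e]; exact Commute.one_left b)⟩
  have hsol : Group.IsSolvable H := Cfsg.Agent.S0182.result hodd fun x hx a ha b hb => by
    have := hCA x a b (fun e => hx (Subtype.ext e)) ((mem_cent.1 ha).map H.subtype) ((mem_cent.1 hb).map H.subtype)
    exact Subtype.ext this.eq
  obtain ⟨M, hMn, hMne, hMab⟩ := exists_abelian_normal hsol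
  obtain ⟨x, hxM, hx1⟩ := M.ne_bot_iff_exists_ne_one.1 hMne |>.elim fun z hz =>
    (⟨z.1, z.2, fun e => hz (Subtype.ext e)⟩ : ∃ x ∈ M, x ≠ (1 : H))
  have hxG : (x : G) ≠ 1 := fun e => hx1 (Subtype.ext e)
  have hoddx : ∀ y : H, Odd (orderOf (y : G)) := fun y => by
    rw [Subgroup.orderOf_coe]; exact hodd.of_dvd_nat (orderOf_dvd_natCard y)
  -- the eigenvalue argument
  have hns : CfsgLib.SL2.NonScalar ((φ x : SL(2, F)) : Matrix (Fin 2) (Fin 2) F) := by
    by_contra hn
    have := (CfsgLib.SL2.mem_center_iff_not_nonScalar _).2 hn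
    rw [CfsgLib.BrauerReynolds.center_SL_two_of_char_two, Subgroup.mem_bot] at this
    exact hxG (φ.map_eq_one_iff.1 this)
  have hτ : ((φ x : SL(2, F)) : Matrix (Fin 2) (Fin 2) F).trace ≠ 0 := by
    intro h0
    have hd := (φ x : SL(2, F)).det_coe
    rw [Matrix.det_fin_two] at hd
    rw [Matrix.trace_fin_two, CharTwo.add_eq_zero] at h0
    have hsq : (φ x : SL(2, F)) * φ x = 1 := by
      ext i j
      fin_cases i <;> fin_cases j <;> simp [Matrix.mul_apply, Fin.sum_univ_two] <;>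
        grind [CharTwo.add_self_eq_zero]
    rw [← map_mul, φ.map_eq_one_iff] at hsq
    obtain ⟨k, hk⟩ := hoddx x
    have h2 := pow_orderOf_eq_one (x : G)
    rw [hk, pow_succ, pow_mul, pow_two, hsq, one_pow, one_mul] at h2
    exact hxG h2
  -- every element of `H` centralises `x`
  have hcent : ∀ g : H, Commute (g : G) x := by
    intro g
    obtain ⟨y, hy⟩ : ∃ y : G, y = (g : G) * x * (g : G)⁻¹ := ⟨_, rfl⟩
    have hcom : Commute (x : G) y := by
      rw [hy]
      exact (hMab x hxM _ (hMn.conj_mem x hxM g)).map H.subtype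
    have htr : ((φ y : SL(2, F)) : Matrix (Fin 2) (Fin 2) F).trace = ((φ x : SL(2, F)) : Matrix (Fin 2) (Fin 2) F).trace := by
      rw [hy, map_mul, map_mul, map_inv, Matrix.SpecialLinearGroup.coe_mul, Matrix.trace_mul_comm,
        ← Matrix.SpecialLinearGroup.coe_mul, inv_mul_cancel_left]
    have h2 : (g : G) * ((g : G) * x * (g : G)⁻¹) * (g : G)⁻¹ = x := by
      rcases eq_or_inv_of_commute hns (hcom.map φ) hτ htr with e | e
      · have e' : y = x := φ.injective e
        rw [← hy, e', ← hy, e']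
      · have e' : y = (x : G)⁻¹ := φ.injective (by rw [e, map_inv])
        rw [← hy, e', ← conj_inv, ← hy, e', inv_inv]
    -- `g ^ 2` centralises `x`, and `g` is a power of it
    have h3 : Commute ((g : G) * g) x := by
      show (g : G) * g * x = x * ((g : G) * g)
      calc (g : G) * g * x = (g : G) * ((g : G) * x * (g : G)⁻¹) * (g : G)⁻¹ * ((g : G) * g) := by group
        _ = x * ((g : G) * g) := by rw [h2]
    obtain ⟨k, hk⟩ := hoddx g
    have hg : (g : G) = ((g : G) * g) ^ (k + 1) := by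
      rw [← pow_two, ← pow_mul, show 2 * (k + 1) = (2 * k + 1) + 1 by omega, ← hk, pow_succ,
        pow_orderOf_eq_one, one_mul]
    rw [hg]
    exact h3.pow_left _
  obtain ⟨a, ha, b, hb, hab⟩ := hnc
  exact hab (hCA x a b hxG (hcent ⟨a, ha⟩) (hcent ⟨b, hb⟩))

theorem card_eq_imp {m n : ℕ} (hm : 1 ≤ m) (hn : 1 ≤ n)
    (h : (2 ^ m + 1) * 2 ^ m * (2 ^ m - 1) = (2 ^ n + 1) * 2 ^ n * (2 ^ n - 1)) : m = n := by
  have mono : ∀ {a b : ℕ}, 1 ≤ a → a < b →
      (2 ^ a + 1) * 2 ^ a * (2 ^ a - 1) < (2 ^ b + 1) * 2 ^ b * (2 ^ b - 1) := by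
    intro a b ha hab
    have h1 : 2 ^ a < 2 ^ b := Nat.pow_lt_pow_right one_lt_two hab
    have h2 : 1 < 2 ^ a := Nat.one_lt_two_pow (by omega)
    exact Nat.mul_lt_mul'' (Nat.mul_lt_mul'' (by omega) h1) (by omega)
  rcases lt_trichotomy m n with hlt | heq | hgt
  · exact absurd h (mono hm hlt).ne
  · exact heq
  · exact absurd h.symm (mono hn hgt).ne

theorem sn_of_psl [IsSimpleGroup G] (hna : NC (⊤ : Subgroup G)) (hCA : CA G) {n : ℕ} (hn : 2 ≤ n)
    (hp : (2 ^ n - 1).Prime) {F : Type*} [Field F] [Fintype F] (hF : Fintype.card F = 2 ^ n)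
    (e : G ≃* Matrix.ProjectiveSpecialLinearGroup (Fin 2) F) : SN G := by
  classical
  have : Fact (Nat.Prime 2) := ⟨Nat.prime_two⟩
  have : CharP F 2 := charP_of_card_eq_prime_pow (f := n) hF
  obtain ⟨A, t, f, h, hf, hq, hexp, hG, -⟩ := ca_data hna hCA
  have hfn : f = n := by
    refine card_eq_imp (by omega) (by omega) (hG.symm.trans ?_)
    rw [Nat.card_congr e.toEquiv]
    have h1 := CfsgLib.SL2.card_PSL (F := F)
    have hg : Nat.gcd 2 (Nat.card F - 1) = 1 := by
      rw [Nat.card_eq_fintype_card, hF]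
      refine (Nat.Prime.coprime_iff_not_dvd Nat.prime_two).2 fun hd => ?_
      have : 2 ∣ 2 ^ n := dvd_pow_self 2 (by omega)
      have : 1 ≤ 2 ^ n := Nat.one_le_two_pow
      omega
    rw [hg, one_mul, Nat.card_eq_fintype_card (α := F), hF] at h1
    rw [h1]; ring
  subst hfn
  have hcard : (invA A).ncard = 2 ^ f - 1 := by omega
  have h4 : 2 ^ 2 ≤ 2 ^ f := Nat.pow_le_pow_right two_pos hf
  have hr2 : 2 ^ f - 1 ≠ 2 := by omega
  intro H hH g hg
  by_cases hev : 2 ∣ Nat.card H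
  · obtain ⟨⟨s, hs⟩, hso⟩ := exists_prime_orderOf_dvd_card' 2 hev
    rw [← Subgroup.orderOf_coe] at hso
    obtain ⟨hs2, hs1⟩ := involution_iff.1 hso
    obtain ⟨k, hk⟩ := isConj_iff.1 (h.one_class hs2 hs1)
    let H' : Subgroup G := H.map (MulAut.conj k⁻¹).toMonoidHom
    have hmem : ∀ z, z ∈ H' ↔ k * z * k⁻¹ ∈ H := fun z => by
      constructor
      · rintro ⟨y, hy, rfl⟩; simpa [MulAut.conj_apply, mul_assoc] using hy
      · exact fun hz => ⟨_, hz, by simp [MulAut.conj_apply, mul_assoc]⟩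
    have hnc : NC H' := by
      obtain ⟨a, ha, b, hb, hab⟩ := hH
      refine ⟨k⁻¹ * a * k, (hmem _).2 (by simpa [mul_assoc] using ha), k⁻¹ * b * k,
        (hmem _).2 (by simpa [mul_assoc] using hb), fun hc => hab ?_⟩
      show a * b = b * a
      calc a * b = k * (k⁻¹ * a * k * (k⁻¹ * b * k)) * k⁻¹ := by group
        _ = k * (k⁻¹ * b * k * (k⁻¹ * a * k)) * k⁻¹ := by rw [hc.eq]
        _ = b * a := by group
    have := sn_of_data h hp hr2 hcard hexp hCA hnc ((hmem t).2 (by rw [hk]; exact hs))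
      (g := k⁻¹ * g * k) fun z hz => (hmem _).2 (by
        have := hg _ ((hmem z).1 hz)
        rwa [show k * (k⁻¹ * g * k * z * (k⁻¹ * g * k)⁻¹) * k⁻¹ = g * (k * z * k⁻¹) * g⁻¹ by group])
    have := (hmem _).1 this
    rwa [show k * (k⁻¹ * g * k) * k⁻¹ = g by group] at this
  · have hbij : Function.Bijective (CfsgLib.SL2.proj (F := F)) :=
      ⟨(MonoidHom.ker_eq_bot_iff _).1 (by
        rw [QuotientGroup.ker_mk', CfsgLib.BrauerReynolds.center_SL_two_of_char_two]),
        CfsgLib.SL2.proj_surjective⟩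
    exact absurd hH (odd_subgroup_comm (e.trans (MulEquiv.ofBijective _ hbij).symm) hCA
      (Nat.odd_iff.2 (Nat.two_dvd_ne_zero.1 hev)))

end CfsgLib.Invol.SelfNorm
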