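import Cfsg.Agent.Lib.Invol.KleinCount
import Cfsg.Agent.Lib.Char.SquareRoots

/-!
# Frobenius-Schur indicators in the principal block for a Klein four Sylow 2-subgroup
-/

set_option autoImplicit false

namespace CfsgLib.Invol

open Cfsg
open scoped ComplexConjugate CfsgLib.Char

variable {G : Type*} [Group G] [Fintype G] {M : Ideal AlgInt}

/-- The indicators of the principal block, weighted by the values at an involution, cancel: an
involution is no square. -/
theorem klein_indicator_sum (hM : IsPModular 2 M) (P : Sylow 2 G)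
    (hP : IsKleinFour (P : Subgroup G)) (hone : ∀ s t : G, orderOf s = 2 → orderOf t = 2 → IsConj s t)
    {J : G} (hJP : J ∈ (P : Subgroup G)) (hJ : orderOf J = 2)
    [DecidablePred (· ∈ principalBlock M G)] :
    ∑ χ : IrrCharacter G with χ ∈ principalBlock M G,
      Char.indicator (χ : G → ℂ) * (χ : G → ℂ) J = 0 := by
  classical
  haveI := hP
  set O : Subgroup G := (pPrimeCore 2 (Subgroup.centralizer ({J} : Set G))).map
    (Subgroup.centralizer ({J} : Set G)).subtype with hO
  have hnone : ∀ r : O, Nat.card {x : G // x * x = J * (r : G)} = 0 := by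
    intro r
    have hodd : ¬ 2 ∣ orderOf (r : G) :=
      (Nat.prime_two.coprime_iff_not_dvd).mp (Transfer.coprime_orderOf_of_mem (p := 2) (by
        rw [hO, Subgroup.card_map_of_injective (Subgroup.subtype_injective _)]
        exact Transfer.pPrimeCore_coprime 2) r.2).symm
    have hc : Commute J (r : G) := (Subgroup.mem_centralizer_singleton_iff.mp
      (Subgroup.map_subtype_le _ r.2)).symm
    rw [Nat.card_eq_zero]
    refine Or.inl ⟨fun ⟨x, hx⟩ => ?_⟩
    set y := x ^ orderOf (r : G) with hy
    have hy2 : y * y = J := by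
      rw [hy, ← (Commute.refl x).mul_pow, hx, hc.mul_pow, pow_orderOf_eq_one, mul_one]
      obtain ⟨j, hj⟩ : ∃ j, orderOf (r : G) = 2 * j + 1 := ⟨orderOf (r : G) / 2, by omega⟩
      rw [hj, pow_succ, pow_mul, pow_two, mul_self_of_orderOf_two hJ, one_pow, one_mul]
    have hy4 : IsPGroup 2 (Subgroup.zpowers y) := by
      refine Transfer.isPGroup_zpowers ⟨2, orderOf_eq_prime_pow (n := 1) ?_ ?_⟩
      · rw [pow_one, pow_two, hy2]; exact ne_one_of_orderOf_two hJ
      · rw [show 2 ^ (1 + 1) = 2 * 2 by norm_num, pow_mul, pow_two y, hy2, pow_two,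
          mul_self_of_orderOf_two hJ]
    obtain ⟨T, hT⟩ := hy4.exists_le_sylow
    obtain ⟨c, hc'⟩ := MulAction.exists_smul_eq G T P
    have hyP : c * y * c⁻¹ ∈ (P : Subgroup G) := by
      rw [← hc']
      exact Subgroup.smul_mem_pointwise_smul _ (MulAut.conj c) _ (hT (Subgroup.mem_zpowers y))
    have h := Monoid.pow_exponent_eq_one (⟨_, hyP⟩ : (P : Subgroup G))
    rw [IsKleinFour.exponent_two] at h
    have h' : (c * y * c⁻¹) ^ 2 = 1 := congrArg Subtype.val h
    rw [conj_pow, pow_two, hy2, conj_eq_one_iff] at h'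
    exact ne_one_of_orderOf_two hJ h'
  have h0 : ∑ r : O, (Nat.card {x : G // x * x = J * (r : G)} : ℂ) = 0 :=
    Finset.sum_eq_zero fun r _ => by rw [hnone r, Nat.cast_zero]
  simp only [Char.SquareRoots.card_sqrt] at h0
  rw [Finset.sum_comm] at h0
  simp only [← Finset.mul_sum] at h0
  rw [Finset.sum_congr rfl fun χ _ => by rw [klein_coset_sum hM P hP hone hJP hJ χ, mul_ite, mul_zero],
    ← Finset.sum_filter,
    Finset.sum_congr rfl fun χ _ => mul_left_comm _ _ _, ← Finset.mul_sum, mul_eq_zero,
    or_iff_right (Nat.cast_ne_zero.mpr Nat.card_pos.ne')] at h0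
  exact h0

/-- The principal block is closed under complex conjugation. -/
theorem klein_conj_mem (hM : IsPModular 2 M) (P : Sylow 2 G)
    (hP : IsKleinFour (P : Subgroup G)) (hone : ∀ s t : G, orderOf s = 2 → orderOf t = 2 → IsConj s t)
    {J : G} (hJP : J ∈ (P : Subgroup G)) (hJ : orderOf J = 2) {χ : IrrCharacter G}
    (hχ : χ ∈ principalBlock M G) (hχJ : (χ : G → ℂ) J ≠ 0) :
    (⟨fun g => conj ((χ : G → ℂ) g), Char.isIrrCharacter_conj χ.2⟩ : IrrCharacter G) ∈
      principalBlock M G := by
  classical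
  by_contra hn
  have h1 := klein_coset_sum hM P hP hone hJP hJ χ
  have h2 := klein_coset_sum hM P hP hone hJP hJ
    (⟨fun g => conj ((χ : G → ℂ) g), Char.isIrrCharacter_conj χ.2⟩ : IrrCharacter G)
  rw [if_neg hn] at h2
  simp only [← map_sum] at h2
  rw [h1, if_pos hχ, map_mul, map_natCast, mul_eq_zero,
    or_iff_right (Nat.cast_ne_zero.mpr Nat.card_pos.ne')] at h2
  exact hχJ ((map_eq_zero _).mp h2)

end CfsgLib.Invol
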