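import Cfsg.Agent.Lib.Invol.KleinBlock
import Cfsg.Agent.Lib.ZStar.TwoElement
import Cfsg.Agent.Lib.Char.Counting

/-!
# The order formula for a Klein four Sylow 2-subgroup
-/

set_option autoImplicit false

namespace CfsgLib.Invol

open Cfsg
open scoped ComplexConjugate CfsgLib.Char

variable {G : Type*} [Group G] [Fintype G]

/-- A Klein four Sylow subgroup and one class of involutions, from the group order and the absence
of a normal 2-complement. -/
theorem klein_of_order {g₀ : ℕ} (hg₀ : Odd g₀) (hG : Nat.card G = 4 * g₀)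
    (hnc : ¬ ∃ N : Subgroup G, N.Normal ∧ Nat.card N = g₀) (P : Sylow 2 G) :
    IsKleinFour (P : Subgroup G) ∧ ∀ s t : G, orderOf s = 2 → orderOf t = 2 → IsConj s t := by
  classical
  have hP4 : Nat.card (P : Subgroup G) = 4 := by
    rw [P.card_eq_multiplicity, hG, Nat.factorization_mul (by norm_num) hg₀.pos.ne', Finsupp.add_apply,
      Nat.factorization_eq_zero_of_not_dvd (n := g₀) (fun h => Nat.not_even_iff_odd.mpr hg₀ (even_iff_two_dvd.mpr h)),
      show (4 : ℕ) = 2 ^ 2 by norm_num, Nat.prime_two.factorization_pow]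
    simp
  have hnpc : ¬ HasNormalPComplement 2 G := by
    rintro ⟨Q, N, hN, hc⟩
    refine hnc ⟨N, hN, ?_⟩
    have h := hc.card_mul_card
    rw [Q.card_eq_multiplicity, ← P.card_eq_multiplicity, hP4, hG, mul_comm] at h
    exact Nat.eq_of_mul_eq_mul_left (by norm_num) h
  have hK : IsKleinFour (P : Subgroup G) := by
    refine { card_four := hP4, exponent_two := ?_ }
    have hsq : ∀ x : (P : Subgroup G), x ^ 2 = 1 := by
      intro x
      by_contra hx
      apply hnpc
      refine ZStar.hasNormalPComplement_of_cyclic P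
        (isCyclic_of_orderOf_eq_card x ?_)
      rw [hP4]
      have hd : orderOf x ∣ 2 ^ 2 := (orderOf_dvd_natCard x).trans (hP4.trans (by norm_num)).dvd
      obtain ⟨k, hk, hk'⟩ := (Nat.dvd_prime_pow Nat.prime_two).mp hd
      rcases k with _ | _ | _ | k
      · have h1 : x = 1 := orderOf_eq_one_iff.mp (by simpa using hk')
        exact absurd (by rw [h1, one_pow]) hx
      · have h1 : orderOf x = 2 := by simpa using hk'
        have h2 := pow_orderOf_eq_one x
        rw [h1] at h2
        exact absurd h2 hx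
      · simpa using hk'
      · omega
    rcases (Nat.dvd_prime Nat.prime_two).mp (Monoid.exponent_dvd_of_forall_pow_eq_one hsq) with h | h
    · haveI := Monoid.exp_eq_one_iff.mp h
      have := (Nat.card_of_subsingleton (1 : (P : Subgroup G))).symm.trans hP4
      omega
    · exact h
  refine ⟨hK, (klein_complement_or_one_class P hK).resolve_left ?_⟩
  rintro ⟨N, hN, hc⟩
  exact hnpc ⟨P, N, hN, hc⟩

variable {M : Ideal AlgInt}

open Classical in
/-- The coset `J O(C(J))` sums. -/
theorem klein_coset_sum (hM : IsPModular 2 M) (P : Sylow 2 G)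
    (hP : IsKleinFour (P : Subgroup G)) (hone : ∀ s t : G, orderOf s = 2 → orderOf t = 2 → IsConj s t)
    {J : G} (hJP : J ∈ (P : Subgroup G)) (hJ : orderOf J = 2)
    [DecidablePred (· ∈ principalBlock M G)] (χ : IrrCharacter G) :
    ∑ r : ↥((pPrimeCore 2 (Subgroup.centralizer ({J} : Set G))).map
        (Subgroup.centralizer ({J} : Set G)).subtype), (χ : G → ℂ) (J * (r : G)) =
      if χ ∈ principalBlock M G then
        (Nat.card ↥((pPrimeCore 2 (Subgroup.centralizer ({J} : Set G))).map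
          (Subgroup.centralizer ({J} : Set G)).subtype) : ℂ) * (χ : G → ℂ) J
      else 0 := by
  classical
  haveI := hP
  have := Blocks.isPrime_of_isPModular hM
  obtain ⟨Z, α, -, hmemZ, -, -, hpm, -, hval, -⟩ := klein_block hM P hP hone
  set C := Subgroup.centralizer ({J} : Set G) with hC
  obtain ⟨Q, hQ4, hnpc⟩ := klein_centralizer P hP hJ hJP
  set O : Subgroup G := (pPrimeCore 2 C).map C.subtype with hO
  have hOC : O ≤ C := Subgroup.map_subtype_le _
  have hOodd : (Nat.card O).Coprime 2 := by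
    rw [hO, Subgroup.card_map_of_injective C.subtype_injective]
    exact Transfer.pPrimeCore_coprime 2
  have hregO : ∀ x : G, x ∈ C → ¬ 2 ∣ orderOf x → x ∈ O := by
    intro x hx hodd
    refine ⟨⟨x, hx⟩, ?_, rfl⟩
    show _ ∈ pPrimeCore 2 C
    rw [Transfer.pPrimeCore_eq_pResidual hnpc]
    refine Transfer.mem_pResidual_of_coprime ((Nat.prime_two.coprime_iff_not_dvd).mpr ?_).symm
    rwa [← Subgroup.orderOf_coe]
  have hOreg : ∀ x ∈ O, ¬ 2 ∣ orderOf x := fun x hx =>
    (Nat.prime_two.coprime_iff_not_dvd).mp (Transfer.coprime_orderOf_of_mem hOodd hx).symm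
  have hJO : ∀ o ∈ O, J * o = o * J := fun o ho =>
    (Subgroup.mem_centralizer_singleton_iff.mp (hOC ho)).symm
  by_cases hχ : χ ∈ principalBlock M G
  · rw [if_pos hχ, Finset.sum_congr rfl (g := fun _ => (χ : G → ℂ) J) fun r _ => ?_,
      Finset.sum_const, Finset.card_univ, nsmul_eq_mul, Nat.card_eq_fintype_card]
    rw [hval χ ((hmemZ χ).mpr hχ) J (by rw [hJ]), hval χ ((hmemZ χ).mpr hχ) _ ?_]
    rw [(show Commute J (r : G) from hJO _ r.2).orderOf_mul_eq_mul_orderOf_of_coprime
      (by rw [hJ]; exact (Nat.prime_two.coprime_iff_not_dvd).mpr (hOreg _ r.2)), hJ]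
    exact dvd_mul_right 2 _
  · rw [if_neg hχ]
    have h := Blocks.sum_regPart_mul_conj_eq_zero hM (x := J) ⟨1, by rw [hJ, pow_one]⟩ hχ
      (ψ := Blocks.trivIrr C) (Blocks.mem_blockOf_self (Blocks.trivIrr C))
    refine Eq.trans ?_ h
    rw [← Finset.sum_filter_add_sum_filter_not (Finset.univ : Finset C) (fun c : C => (c : G) ∈ O),
      Finset.sum_eq_zero (s := Finset.univ.filter fun c : C => ¬ (c : G) ∈ O) fun c hc => by
        rw [Blocks.regPart_of_singular fun hr => (Finset.mem_filter.mp hc).2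
          (hregO c c.2 (by rw [Subgroup.orderOf_coe]; exact hr)), zero_mul], add_zero]
    refine Finset.sum_bij (fun r _ => (⟨r, hOC r.2⟩ : C)) (fun r _ => by simp)
      (fun r _ r' _ e => Subtype.ext (congrArg (fun c : C => (c : G)) e))
      (fun c hc => ⟨⟨c, (Finset.mem_filter.mp hc).2⟩, Finset.mem_univ _, rfl⟩) fun r _ => ?_
    rw [Blocks.regPart_of_regular (show IsPRegular 2 (⟨r, hOC r.2⟩ : C) by
      rw [IsPRegular, ← Subgroup.orderOf_coe]; exact hOreg _ r.2)]
    simp [Blocks.trivIrr]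

/-- The order formula, in terms of the principal block. -/
theorem klein_order_formula (hM : IsPModular 2 M) (P : Sylow 2 G)
    (hP : IsKleinFour (P : Subgroup G)) (hone : ∀ s t : G, orderOf s = 2 → orderOf t = 2 → IsConj s t)
    {J : G} (hJP : J ∈ (P : Subgroup G)) (hJ : orderOf J = 2)
    [DecidablePred (· ∈ principalBlock M G)] :
    (Nat.card G : ℂ) * (∑ χ : IrrCharacter G with χ ∈ principalBlock M G,
      (χ : G → ℂ) J / (χ : G → ℂ) 1) =
      8 * (Nat.card (Subgroup.centralizer ({J} : Set G)) : ℂ) ^ 3 /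
        (Nat.card (Subgroup.centralizer ((P : Subgroup G) : Set G)) : ℂ) ^ 2 := by
  classical
  haveI := hP
  have := Blocks.isPrime_of_isPModular hM
  obtain ⟨Z, α, -, hmemZ, -, -, hpm, -, hval, -⟩ := klein_block hM P hP hone
  set C := Subgroup.centralizer ({J} : Set G) with hC
  obtain ⟨Q, hQ4, hnpc⟩ := klein_centralizer P hP hJ hJP
  set O : Subgroup G := (pPrimeCore 2 C).map C.subtype with hO
  have hOC : O ≤ C := Subgroup.map_subtype_le _
  have hOodd : (Nat.card O).Coprime 2 := by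
    rw [hO, Subgroup.card_map_of_injective C.subtype_injective]
    exact Transfer.pPrimeCore_coprime 2
  have hsq : ∀ w ∈ (P : Subgroup G), w * w = 1 := fun w hw => by
    have h := Monoid.pow_exponent_eq_one (⟨w, hw⟩ : (P : Subgroup G))
    rw [IsKleinFour.exponent_two, pow_two] at h
    exact congrArg Subtype.val h
  have hcomm : ∀ x ∈ (P : Subgroup G), ∀ y ∈ (P : Subgroup G), Commute x y := fun x hx y hy =>
    congrArg Subtype.val
      (IsKleinFour.isMulCommutative.is_comm.comm (⟨x, hx⟩ : (P : Subgroup G)) ⟨y, hy⟩)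
  have hPC : (P : Subgroup G) ≤ C := fun x hx =>
    Subgroup.mem_centralizer_singleton_iff.mpr (hcomm x hx J hJP).eq
  have hJJ := mul_self_of_orderOf_two hJ
  -- `C` is the semidirect product of `O` and `P`
  have hregO : ∀ x : G, x ∈ C → ¬ 2 ∣ orderOf x → x ∈ O := by
    intro x hx hodd
    refine ⟨⟨x, hx⟩, ?_, rfl⟩
    show _ ∈ pPrimeCore 2 C
    rw [Transfer.pPrimeCore_eq_pResidual hnpc]
    refine Transfer.mem_pResidual_of_coprime ((Nat.prime_two.coprime_iff_not_dvd).mpr ?_).symm
    rwa [← Subgroup.orderOf_coe]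
  have hOreg : ∀ x ∈ O, ¬ 2 ∣ orderOf x := fun x hx =>
    (Nat.prime_two.coprime_iff_not_dvd).mp (Transfer.coprime_orderOf_of_mem hOodd hx).symm
  have hconjO : ∀ c ∈ C, ∀ o ∈ O, c * o * c⁻¹ ∈ O := by
    rintro c hc _ ⟨o, ho, rfl⟩
    exact ⟨⟨c, hc⟩ * o * ⟨c, hc⟩⁻¹, (Transfer.pPrimeCore_normal 2 C).conj_mem o ho _, rfl⟩
  have hdisj : ∀ x ∈ (P : Subgroup G), x ∈ O → x = 1 := fun x hx hxO =>
    PSolvable.eq_one_of_mem_of_mem P.2 hOodd hx hxO
  have hCcard : Nat.card C = Nat.card O * 4 := by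
    obtain ⟨Q', N, hN, hc⟩ := id hnpc
    have hN2 : (Nat.card N).Coprime 2 := by
      refine Nat.Coprime.symm ((Nat.prime_two.coprime_iff_not_dvd).mpr ?_)
      rw [← hc.index_eq_card]
      exact Q'.not_dvd_index
    have hQ' : Nat.card Q' = 4 :=
      Q'.card_eq_multiplicity.trans (Q.card_eq_multiplicity.symm.trans hQ4)
    have hle : Nat.card N ≤ Nat.card O := by
      rw [hO, Subgroup.card_map_of_injective C.subtype_injective]
      exact Subgroup.card_le_of_le (Transfer.le_pPrimeCore hN hN2)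
    have h := hc.card_mul_card
    change Nat.card N * Nat.card Q' = Nat.card C at h
    rw [hQ'] at h
    have hdvd : Nat.card O * 4 ∣ Nat.card C := by
      refine (hOodd.pow_right 2).mul_dvd_of_dvd_of_dvd (Subgroup.card_dvd_of_le hOC) ?_
      rw [← h]
      exact dvd_mul_left _ _
    have hge := Nat.le_of_dvd Nat.card_pos hdvd
    have := Nat.mul_le_mul_right 4 hle
    omega
  have hfact : ∀ x ∈ C, ∃ o ∈ O, ∃ s ∈ (P : Subgroup G), x = o * s := by
    intro x hx
    let f : O × (P : Subgroup G) → C := fun v => ⟨(v.1 : G) * v.2, mul_mem (hOC v.1.2) (hPC v.2.2)⟩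
    have hf : Function.Injective f := by
      rintro ⟨o, s⟩ ⟨o', s'⟩ e
      have e' : (o : G) * s = o' * s' := congrArg Subtype.val e
      have h1 : (o' : G)⁻¹ * o = s' * (s : G)⁻¹ := by
        rw [eq_mul_inv_iff_mul_eq, mul_assoc, e', inv_mul_cancel_left]
      have h2 : (s' : G) * (s : G)⁻¹ = 1 := hdisj _ (mul_mem s'.2 (inv_mem s.2))
        (h1 ▸ mul_mem (inv_mem o'.2) o.2)
      have hs : (s' : G) = s := mul_inv_eq_one.mp h2
      have ho : (o : G) = o' := by rw [hs] at e'; exact mul_right_cancel e'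
      exact Prod.ext (Subtype.ext ho) (Subtype.ext hs.symm)
    have hbij : Function.Bijective f := (Nat.bijective_iff_injective_and_card f).mpr
      ⟨hf, by rw [Nat.card_prod, IsKleinFour.card_four (G := (P : Subgroup G)), hCcard]⟩
    obtain ⟨⟨o, s⟩, e⟩ := hbij.2 ⟨x, hx⟩
    exact ⟨o, o.2, s, s.2, (congrArg Subtype.val e).symm⟩
  -- the two other involutions of `P`
  haveI : Nontrivial (P : Subgroup G) :=
    Finite.one_lt_card_iff_nontrivial.mp (by rw [IsKleinFour.card_four]; norm_num)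
  obtain ⟨a, haP, ha1, haJ⟩ : ∃ a ∈ (P : Subgroup G), a ≠ 1 ∧ a ≠ J := by
    by_contra h
    push Not at h
    have hle : Nat.card (P : Subgroup G) ≤ Nat.card Bool := Nat.card_le_card_of_injective
      (fun w => decide (w = 1)) fun x y hxy => by
        simp only [decide_eq_decide] at hxy
        by_cases hx : x = 1
        · rw [hx, hxy.mp hx]
        · exact Subtype.ext ((h x x.2 fun e => hx (Subtype.ext e)).trans
            (h y y.2 fun e => hx (hxy.mpr (Subtype.ext e))).symm)
    rw [IsKleinFour.card_four, Nat.card_eq_fintype_card, Fintype.card_bool] at hle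
    omega
  set b := a * J with hb
  have hbP : b ∈ (P : Subgroup G) := mul_mem haP hJP
  have hb1 : b ≠ 1 := fun h => haJ (by
    rw [hb, mul_eq_one_iff_eq_inv, inv_of_orderOf_two hJ] at h; exact h)
  have hab : a ≠ b := fun h => ne_one_of_orderOf_two hJ (mul_eq_left.mp h.symm)
  have hbJ : b * J = a := by rw [hb, mul_assoc, hJJ, mul_one]
  have hfour : ∀ s ∈ (P : Subgroup G), s = 1 ∨ s = J ∨ s = a ∨ s = b := by
    intro s hs
    by_contra h
    push Not at h
    obtain ⟨h1, h2, h3, h4⟩ := h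
    have hle : ({1, J, a, b, s} : Finset G).card ≤ 4 := by
      rw [← IsKleinFour.card_four (G := (P : Subgroup G))]
      rw [← Fintype.card_coe, ← Nat.card_eq_fintype_card]
      refine Nat.card_le_card_of_injective (fun u => ⟨u.1, ?_⟩) fun x y hxy => Subtype.ext
        (congrArg (fun v : (P : Subgroup G) => (v : G)) hxy)
      obtain ⟨u, hu⟩ := u
      simp only [Finset.mem_insert, Finset.mem_singleton] at hu
      rcases hu with rfl | rfl | rfl | rfl | rfl <;> first | exact one_mem _ | assumption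
    rw [Finset.card_insert_of_notMem, Finset.card_insert_of_notMem, Finset.card_insert_of_notMem,
      Finset.card_insert_of_notMem, Finset.card_singleton] at hle
    · omega
    · simp only [Finset.mem_singleton]; exact Ne.symm h4
    · simp only [Finset.mem_insert, Finset.mem_singleton, not_or]; exact ⟨hab, Ne.symm h3⟩
    · simp only [Finset.mem_insert, Finset.mem_singleton, not_or]
      exact ⟨Ne.symm haJ, fun h => ha1 (mul_eq_right.mp h.symm), Ne.symm h2⟩
    · simp only [Finset.mem_insert, Finset.mem_singleton, not_or]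
      exact ⟨(ne_one_of_orderOf_two hJ).symm, Ne.symm ha1, Ne.symm hb1, Ne.symm h1⟩
  -- involutions in the cosets
  set X : G → Finset G := fun s => Finset.univ.filter fun u => orderOf u = 2 ∧ u * s⁻¹ ∈ O with hX
  have hmX : ∀ {s u}, u ∈ X s ↔ orderOf u = 2 ∧ u * s⁻¹ ∈ O := by intro s u; simp [hX]
  have hXC : ∀ {s u}, s ∈ (P : Subgroup G) → u ∈ X s → u ∈ C := by
    intro s u hs hu
    have h := mul_mem (hOC (hmX.mp hu).2) (hPC hs)
    rwa [inv_mul_cancel_right] at h
  set cO : ℕ := Nat.card ↥(O ⊓ Subgroup.centralizer ((P : Subgroup G) : Set G)) with hcO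
  have hcardX : ∀ s ∈ (P : Subgroup G), s ≠ 1 → s ≠ J → (X s).card * cO = Nat.card O := by
    intro s hs hs1 hsJ
    have hs2 : orderOf s = 2 := orderOf_two_of_mul_self (hsq s hs) hs1
    have hgen : ∀ o ∈ O, Commute o s → o ∈ Subgroup.centralizer ((P : Subgroup G) : Set G) := by
      intro o ho hos p hp
      have hoJ : Commute o J := Subgroup.mem_centralizer_singleton_iff.mp (hOC ho)
      rcases hfour p hp with e | e | e | e <;> rw [e]
      · simp
      · exact hoJ.eq.symm
      all_goals rcases hfour s hs with e' | e' | e' | e'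
      all_goals first | exact absurd e' hs1 | exact absurd e' hsJ | (rw [e'] at hos; exact hos.eq.symm) | skip
      · rw [e'] at hos
        have h := hos.mul_right hoJ
        rw [hbJ] at h
        exact h.eq.symm
      · rw [e'] at hos
        exact (hos.mul_right hoJ).eq.symm
    have hmap : ∀ o ∈ (Finset.univ : Finset O), (o : G) * s * (o : G)⁻¹ ∈ X s := by
      intro o _
      refine hmX.mpr ⟨conj_orderOf_two hs2 _, ?_⟩
      rw [show (o : G) * s * (o : G)⁻¹ * s⁻¹ = o * (s * (o : G)⁻¹ * s⁻¹) by group]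
      exact mul_mem o.2 (hconjO s (hPC hs) _ (inv_mem o.2))
    have h := Finset.card_eq_sum_card_fiberwise hmap
    rw [Finset.card_univ, ← Nat.card_eq_fintype_card] at h
    rw [h, Finset.sum_congr rfl (g := fun _ => cO) fun u hu => ?_, Finset.sum_const, smul_eq_mul]
    obtain ⟨hu2, huO⟩ := hmX.mp hu
    haveI : (pPrimeCore 2 C).Normal := Transfer.pPrimeCore_normal 2 C
    obtain ⟨⟨c, hc⟩, hcO', hcu⟩ := ZStar.exists_conj_eq_of_mul_mem (G := C) (K := pPrimeCore 2 C)
      (Transfer.pPrimeCore_coprime 2) (x := ⟨u, hXC hs hu⟩) (y := ⟨s, hPC hs⟩)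
      (Transfer.isPGroup_zpowers ⟨1, by rw [← Subgroup.orderOf_coe]; exact hu2⟩)
      (Transfer.isPGroup_zpowers ⟨1, by rw [← Subgroup.orderOf_coe]; exact hs2⟩)
      (by
        obtain ⟨w, hw, hwe⟩ := huO
        have : (⟨s, hPC hs⟩ : C) * (⟨u, hXC hs hu⟩ : C)⁻¹ = w⁻¹ := Subtype.ext (by
          show s * u⁻¹ = (w : G)⁻¹
          rw [show (w : G) = u * s⁻¹ from hwe]; group)
        rw [this]
        exact inv_mem hw)
    have hcO'' : c ∈ O := ⟨⟨c, hc⟩, hcO', rfl⟩
    have hcu' : c * s * c⁻¹ = u := congrArg Subtype.val hcu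
    rw [hcO, Nat.card_eq_fintype_card, ← Finset.card_univ]
    refine Finset.card_bij (fun o _ => (⟨c⁻¹ * o, Subgroup.mem_inf.mpr ⟨mul_mem (inv_mem hcO'') o.2,
        hgen _ (mul_mem (inv_mem hcO'') o.2) ?_⟩⟩ : ↥(O ⊓ Subgroup.centralizer ((P : Subgroup G) : Set G))))
      (fun _ _ => Finset.mem_univ _) (fun o _ o' _ e => ?_) (fun w _ => ?_)
    · rename_i ho
      have ho' : (o : G) * s * (o : G)⁻¹ = u := (Finset.mem_filter.mp ho).2
      rw [← hcu'] at ho'
      refine mul_inv_eq_iff_eq_mul.mp ?_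
      calc c⁻¹ * o * s * (c⁻¹ * o)⁻¹ = c⁻¹ * ((o : G) * s * (o : G)⁻¹) * c := by group
        _ = s := by rw [ho']; group
    · exact Subtype.ext (mul_left_cancel (congrArg Subtype.val e))
    · refine ⟨⟨c * w, mul_mem hcO'' w.2.1⟩, Finset.mem_filter.mpr ⟨Finset.mem_univ _, ?_⟩,
        Subtype.ext (inv_mul_cancel_left _ _)⟩
      show c * (w : G) * s * (c * (w : G))⁻¹ = u
      rw [← hcu', mul_assoc c, show (w : G) * s = s * w from (w.2.2 s hs).symm]
      group
  -- the centralizer of `P`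
  have hcP : Nat.card (Subgroup.centralizer ((P : Subgroup G) : Set G)) = cO * 4 := by
    have hPle : (P : Subgroup G) ≤ Subgroup.centralizer ((P : Subgroup G) : Set G) :=
      fun x hx y hy => (hcomm y hy x hx).eq
    rw [hcO, ← IsKleinFour.card_four (G := (P : Subgroup G)), ← Nat.card_prod]
    refine (Nat.card_eq_of_bijective
      (fun v : ↥(O ⊓ Subgroup.centralizer ((P : Subgroup G) : Set G)) × (P : Subgroup G) =>
        (⟨(v.1 : G) * v.2, mul_mem v.1.2.2 (hPle v.2.2)⟩ :
          Subgroup.centralizer ((P : Subgroup G) : Set G))) ⟨?_, ?_⟩).symm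
    · rintro ⟨o, s⟩ ⟨o', s'⟩ e
      have e' : (o : G) * s = o' * s' := congrArg Subtype.val e
      have h1 : (o' : G)⁻¹ * o = s' * (s : G)⁻¹ := by
        rw [eq_mul_inv_iff_mul_eq, mul_assoc, e', inv_mul_cancel_left]
      have h2 : (s' : G) * (s : G)⁻¹ = 1 := hdisj _ (mul_mem s'.2 (inv_mem s.2))
        (h1 ▸ mul_mem (inv_mem o'.2.1) o.2.1)
      have hs : (s' : G) = s := mul_inv_eq_one.mp h2
      have ho : (o : G) = o' := by rw [hs] at e'; exact mul_right_cancel e'
      exact Prod.ext (Subtype.ext ho) (Subtype.ext hs.symm)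
    · rintro ⟨x, hx⟩
      obtain ⟨o, ho, s, hs, rfl⟩ := hfact x
        (Subgroup.mem_centralizer_singleton_iff.mpr (hx J hJP).symm)
      have h : o * s * s⁻¹ ∈ Subgroup.centralizer ((P : Subgroup G) : Set G) :=
        Subgroup.mul_mem _ hx (Subgroup.inv_mem _ (hPle hs))
      rw [mul_inv_cancel_right] at h
      exact ⟨(⟨o, ho, h⟩, ⟨s, hs⟩), rfl⟩
  -- the pairs
  set T : O → Finset (G × G) := fun r =>
    Finset.univ.filter fun v => IsConj J v.1 ∧ IsConj J v.2 ∧ v.1 * v.2 = J * (r : G) with hT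
  have hJO : ∀ o ∈ O, J * o = o * J := fun o ho =>
    (Subgroup.mem_centralizer_singleton_iff.mp (hOC ho)).symm
  have hprod : ∀ {s s' u v}, s ∈ (P : Subgroup G) → s' ∈ (P : Subgroup G) → s * s' = J →
      u ∈ X s → v ∈ X s' → J * (u * v) ∈ O := by
    intro s s' u v hs hs' hss hu hv
    have he : J * (u * v) = J * (u * s⁻¹ * (s * (v * s'⁻¹) * s⁻¹)) * J⁻¹ * (J * (s * s')) := by group
    rw [he, hss, hJJ, mul_one]
    exact hconjO J (hPC hJP) _ (mul_mem (hmX.mp hu).2 (hconjO s (hPC hs) _ (hmX.mp hv).2))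
  have habJ : a * b = J := by rw [hb, ← mul_assoc, hsq a haP, one_mul]
  have hbaJ : b * a = J := by rw [(hcomm b hbP a haP).eq, habJ]
  have hdisjX : Disjoint (X a ×ˢ X b) (X b ×ˢ X a) := by
    rw [Finset.disjoint_left]
    rintro ⟨u, v⟩ h1 h2
    have h3 := (hmX.mp (Finset.mem_product.mp h1).1).2
    have h4 := (hmX.mp (Finset.mem_product.mp h2).1).2
    apply hab
    have h5 := mul_mem (inv_mem h4) h3
    rw [show (u * b⁻¹)⁻¹ * (u * a⁻¹) = b * a⁻¹ by group] at h5
    exact (mul_inv_eq_one.mp (hdisj _ (mul_mem hbP (inv_mem haP)) h5)).symm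
  have hcount : ∑ r : O, (T r).card = (X a ×ˢ X b ∪ X b ×ˢ X a).card := by
    rw [← Finset.card_sigma]
    refine Finset.card_bij (fun p _ => p.2) (fun p hp => ?_) (fun p hp q hq e => ?_) (fun v hv => ?_)
    · obtain ⟨r, u, v⟩ := p
      obtain ⟨h1, h2, h3⟩ := (Finset.mem_filter.mp (Finset.mem_sigma.mp hp).2).2
      simp only at h1 h2 h3 ⊢
      have hu : orderOf u = 2 := by
        obtain ⟨c, rfl⟩ := isConj_iff.mp h1; exact conj_orderOf_two hJ c
      have hv : orderOf v = 2 := by
        obtain ⟨c, rfl⟩ := isConj_iff.mp h2; exact conj_orderOf_two hJ c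
      -- `u` inverts `J r`, so it centralizes `J`
      have hrodd := hOreg _ r.2
      have hcomm' : Commute J (r : G) := hJO _ r.2
      have hinv : u * (J * (r : G)) * u⁻¹ = (J * (r : G))⁻¹ := by
        rw [← h3]; exact conj_prod hu hv
      have hpow : (J * (r : G)) ^ orderOf (r : G) = J := by
        rw [hcomm'.mul_pow, pow_orderOf_eq_one, mul_one]
        obtain ⟨j, hj⟩ : ∃ j, orderOf (r : G) = 2 * j + 1 := ⟨orderOf (r : G) / 2, by omega⟩
        rw [hj, pow_succ, pow_mul, pow_two, hJJ, one_pow, one_mul]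
      have huC : u ∈ C := by
        rw [hC, Subgroup.mem_centralizer_singleton_iff]
        refine mul_inv_eq_iff_eq_mul.mp ?_
        rw [← hpow, ← conj_pow, hinv, inv_pow, hpow, inv_of_orderOf_two hJ]
      have hve : v = u * (J * (r : G)) := by
        rw [← h3, ← mul_assoc, mul_self_of_orderOf_two hu, one_mul]
      obtain ⟨o, ho, s, hs, rfl⟩ := hfact u huC
      have hos : o * s * s⁻¹ ∈ O := by rwa [mul_inv_cancel_right]
      rcases hfour s hs with e | e | e | e <;> rw [e] at hu hve hos ⊢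
      · exfalso
        rw [mul_one] at hu
        exact hOreg o ho (by rw [hu])
      · exfalso
        have ho1 : o = 1 := by
          refine eq_one_of_odd_of_sq (Nat.not_even_iff_odd.mp fun h => hOreg o ho
            (even_iff_two_dvd.mp h)) ?_
          have h := mul_self_of_orderOf_two hu
          rwa [show o * J * (o * J) = o * (J * o) * J by group, hJO o ho,
            show o * (o * J) * J = o * o * (J * J) by group, hJJ, mul_one] at h
        rw [ho1, one_mul, ← mul_assoc, hJJ, one_mul] at hve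
        exact hOreg _ r.2 (by rw [← hve, hv])
      · refine Finset.mem_union_left _ (Finset.mem_product.mpr ⟨hmX.mpr ⟨hu, hos⟩, hmX.mpr ⟨hv, ?_⟩⟩)
        rw [hve, show o * a * (J * (r : G)) * b⁻¹ = o * ((a * J) * r * b⁻¹) by group, ← hb]
        exact mul_mem ho (hconjO b (hPC hbP) _ r.2)
      · refine Finset.mem_union_right _ (Finset.mem_product.mpr ⟨hmX.mpr ⟨hu, hos⟩, hmX.mpr ⟨hv, ?_⟩⟩)
        rw [hve, show o * b * (J * (r : G)) * a⁻¹ = o * ((b * J) * r * a⁻¹) by group, hbJ]
        exact mul_mem ho (hconjO a (hPC haP) _ r.2)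
    · obtain ⟨r, u, v⟩ := p
      obtain ⟨r', u', v'⟩ := q
      simp only [Prod.mk.injEq] at e
      obtain ⟨rfl, rfl⟩ := e
      have h3 := (Finset.mem_filter.mp (Finset.mem_sigma.mp hp).2).2.2.2
      have h3' := (Finset.mem_filter.mp (Finset.mem_sigma.mp hq).2).2.2.2
      rw [Subtype.ext (mul_left_cancel (h3.symm.trans h3') : (r : G) = r')]
    · obtain ⟨u, v⟩ := v
      have key : orderOf u = 2 ∧ orderOf v = 2 ∧ J * (u * v) ∈ O := by
        rcases Finset.mem_union.mp hv with h | h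
        · obtain ⟨h1, h2⟩ := Finset.mem_product.mp h
          exact ⟨(hmX.mp h1).1, (hmX.mp h2).1, hprod haP hbP habJ h1 h2⟩
        · obtain ⟨h1, h2⟩ := Finset.mem_product.mp h
          exact ⟨(hmX.mp h1).1, (hmX.mp h2).1, hprod hbP haP hbaJ h1 h2⟩
      obtain ⟨hu2, hv2, hr⟩ := key
      refine ⟨⟨⟨J * (u * v), hr⟩, u, v⟩, Finset.mem_sigma.mpr ⟨Finset.mem_univ _,
        Finset.mem_filter.mpr ⟨Finset.mem_univ _, hone J u hJ hu2, hone J v hJ hv2, ?_⟩⟩, rfl⟩
      show u * v = J * (J * (u * v))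
      rw [← mul_assoc, hJJ, one_mul]
  -- the character sum
  have hcl : ∀ r : O, ((T r).card : ℂ) =
      (C.index : ℂ) * (C.index : ℂ) / (Nat.card G : ℂ) * ∑ χ : IrrCharacter G,
        (χ : G → ℂ) J * (χ : G → ℂ) J / (χ : G → ℂ) 1 * conj ((χ : G → ℂ) (J * (r : G))) := by
    intro r
    have h := Char.class_mult J J (J * (r : G))
    rw [Nat.card_eq_fintype_card, Fintype.card_subtype] at h
    rw [show T r = _ from rfl, h]
    congr 1
    exact Finset.sum_congr rfl fun χ _ => by ring
  have hsum : ∀ χ : IrrCharacter G, ∑ r : O, (χ : G → ℂ) (J * (r : G)) =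
      if χ ∈ principalBlock M G then (Nat.card O : ℂ) * (χ : G → ℂ) J else 0 :=
    klein_coset_sum hM P hP hone hJP hJ
  have hL : ((∑ r : O, (T r).card : ℕ) : ℂ) = (C.index : ℂ) * (C.index : ℂ) / (Nat.card G : ℂ) *
      ((Nat.card O : ℂ) * ∑ χ : IrrCharacter G with χ ∈ principalBlock M G,
        (χ : G → ℂ) J / (χ : G → ℂ) 1) := by
    rw [Nat.cast_sum, Finset.sum_congr rfl fun r _ => hcl r, ← Finset.mul_sum, Finset.sum_comm]
    congr 1
    rw [Finset.mul_sum, Finset.sum_filter]
    refine Finset.sum_congr rfl fun χ _ => ?_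
    rw [← Finset.mul_sum, ← map_sum, hsum χ]
    split_ifs with hχ
    · have hJv := hval χ ((hmemZ χ).mpr hχ) J (by rw [hJ])
      rw [map_mul, map_natCast, hJv, map_intCast]
      rcases hpm χ ((hmemZ χ).mpr hχ) with h | h <;> rw [h] <;> push_cast <;> ring
    · rw [map_zero, mul_zero]
  rw [hcount, Finset.card_union_of_disjoint hdisjX, Finset.card_product, Finset.card_product] at hL
  push_cast at hL
  have hXa : ((X a).card : ℂ) * (cO : ℂ) = Nat.card O := by exact_mod_cast hcardX a haP ha1 haJ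
  have hXb : ((X b).card : ℂ) * (cO : ℂ) = Nat.card O := by
    exact_mod_cast hcardX b hbP hb1 fun h => ha1 (mul_eq_right.mp h)
  have hidx : (Nat.card C : ℂ) * (C.index : ℂ) = Nat.card G := by exact_mod_cast C.card_mul_index
  have hcP' : (Nat.card (Subgroup.centralizer ((P : Subgroup G) : Set G)) : ℂ) = cO * 4 := by
    exact_mod_cast hcP
  have hCc : (Nat.card C : ℂ) = Nat.card O * 4 := by exact_mod_cast hCcard
  rw [hcP', hCc]
  rw [hCc] at hidx
  have hG0 : (Nat.card G : ℂ) ≠ 0 := Nat.cast_ne_zero.mpr Nat.card_pos.ne'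
  have hO0 : (Nat.card O : ℂ) ≠ 0 := Nat.cast_ne_zero.mpr Nat.card_pos.ne'
  have hcO0 : (cO : ℂ) ≠ 0 := Nat.cast_ne_zero.mpr Nat.card_pos.ne'
  set S₀ : ℂ := ∑ χ : IrrCharacter G with χ ∈ principalBlock M G, (χ : G → ℂ) J / (χ : G → ℂ) 1
  rw [← hidx] at hL hG0 ⊢
  have hi0 : (C.index : ℂ) ≠ 0 := fun h => hG0 (by rw [h, mul_zero])
  field_simp at hL ⊢
  linear_combination ((cO : ℂ) ^ 2) * (-hL) + 8 *
    ((Nat.card O : ℂ) * hXa + (X a).card * (cO : ℂ) * hXb)

end CfsgLib.Invol
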