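import Cfsg.Agent.Lib.Invol.KleinSylow
import Cfsg.Agent.Lib.ZStar.Eight
import Cfsg.Agent.Lib.Blocks.PrincipalQuot
import Cfsg.Agent.Lib.Blocks.PrincipalColumn
import Cfsg.Agent.Lib.Blocks.Rank

/-!
# The principal 2-block for a Klein four Sylow subgroup with one class of involutions
-/

set_option autoImplicit false

namespace CfsgLib.Invol

open Cfsg
open scoped ComplexConjugate CfsgLib.Char

variable {G : Type*} [Group G] [Fintype G]

/-- The centralizer of an involution has a normal 2-complement and its Sylow 2-subgroup is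
the four group. -/
theorem klein_centralizer (P : Sylow 2 G) (hP : IsKleinFour (P : Subgroup G)) {z : G}
    (hz : orderOf z = 2) (hzP : z ∈ (P : Subgroup G)) :
    ∃ Q : Sylow 2 (Subgroup.centralizer ({z} : Set G)), Nat.card Q = 4 ∧
      HasNormalPComplement 2 (Subgroup.centralizer ({z} : Set G)) := by
  classical
  haveI := hP
  have hPC : (P : Subgroup G) ≤ Subgroup.centralizer ({z} : Set G) := fun x hx =>
    Subgroup.mem_centralizer_singleton_iff.mpr (congrArg Subtype.val
      (IsKleinFour.isMulCommutative.is_comm.comm (⟨x, hx⟩ : (P : Subgroup G)) ⟨z, hzP⟩))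
  set Q := P.subtype hPC
  let eQ : (Q : Subgroup (Subgroup.centralizer ({z} : Set G))) ≃* (P : Subgroup G) :=
    Subgroup.subgroupOfEquivOfLe hPC
  have hQ : IsKleinFour (Q : Subgroup (Subgroup.centralizer ({z} : Set G))) :=
    { card_four := (Nat.card_congr eQ.toEquiv).trans IsKleinFour.card_four
      exponent_two := (Monoid.exponent_eq_of_mulEquiv eQ).trans IsKleinFour.exponent_two }
  refine ⟨Q, hQ.card_four, ?_⟩
  rcases klein_complement_or_one_class Q hQ with ⟨N, hN, hc⟩ | hone
  · exact ⟨Q, N, hN, hc⟩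
  exfalso
  -- a second involution of the four group is not conjugate to the central one
  obtain ⟨w, hw1, hwz⟩ : ∃ w : (P : Subgroup G), w ≠ 1 ∧ (w : G) ≠ z := by
    by_contra h
    push Not at h
    have hle : Nat.card (P : Subgroup G) ≤ Nat.card Bool := Nat.card_le_card_of_injective
      (fun w => decide (w = 1)) fun a b hab => by
        simp only [decide_eq_decide] at hab
        by_cases ha : a = 1
        · rw [ha, hab.mp ha]
        · exact Subtype.ext ((h a ha).trans (h b fun hb => ha (hab.mpr hb)).symm)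
    rw [IsKleinFour.card_four, Nat.card_eq_fintype_card, Fintype.card_bool] at hle
    omega
  have hw : orderOf (w : G) = 2 := by
    refine orderOf_two_of_mul_self (congrArg Subtype.val (show w * w = 1 from ?_))
      fun h => hw1 (Subtype.ext h)
    have h := Monoid.pow_exponent_eq_one w
    rwa [IsKleinFour.exponent_two, pow_two] at h
  obtain ⟨c, hc⟩ := isConj_iff.mp (hone ⟨w, hPC w.2⟩ ⟨z, hPC hzP⟩
    ((Subgroup.orderOf_coe _).symm.trans hw) ((Subgroup.orderOf_coe _).symm.trans hz))
  have h1 : (c : G) * w * (c : G)⁻¹ = z := congrArg Subtype.val hc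
  apply hwz
  calc (w : G) = (c : G)⁻¹ * ((c : G) * w * (c : G)⁻¹) * c := by group
    _ = (c : G)⁻¹ * ((c : G) * z) := by
        rw [h1, mul_assoc, Subgroup.mem_centralizer_singleton_iff.mp c.2]
    _ = z := by group

/-- The four characters of the principal 2-block. -/
theorem klein_block {M : Ideal AlgInt} (hM : IsPModular 2 M) (P : Sylow 2 G)
    (hP : IsKleinFour (P : Subgroup G)) (hone : ∀ s t : G, orderOf s = 2 → orderOf t = 2 → IsConj s t) :
    ∃ (Z : Finset (IrrCharacter G)) (a : IrrCharacter G → ℤ), Z.card = 4 ∧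
      (∀ χ, χ ∈ Z ↔ χ ∈ principalBlock M G) ∧ Blocks.trivIrr G ∈ Z ∧
      a (Blocks.trivIrr G) = 1 ∧ (∀ χ ∈ Z, a χ = 1 ∨ a χ = -1) ∧
      (∀ χ ∈ Z, (4 : ℤ) ∣ (charDegree (χ : G → ℂ) : ℤ) - a χ) ∧
      (∀ χ ∈ Z, ∀ g : G, 2 ∣ orderOf g → (χ : G → ℂ) g = a χ) ∧
      ∀ y : G, ¬ 2 ∣ orderOf y → ∑ χ ∈ Z, (a χ : ℂ) * (χ : G → ℂ) y = 0 := by
  classical
  haveI := hP
  have := Blocks.isPrime_of_isPModular hM
  have hsq : ∀ w : (P : Subgroup G), w * w = 1 := fun w => by
    have h := Monoid.pow_exponent_eq_one w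
    rwa [IsKleinFour.exponent_two, pow_two] at h
  haveI : Nontrivial (P : Subgroup G) :=
    Finite.one_lt_card_iff_nontrivial.mp (by rw [IsKleinFour.card_four]; norm_num)
  obtain ⟨z', hz'⟩ := exists_ne (1 : (P : Subgroup G))
  set z : G := (z' : G) with hzdef
  have hz : orderOf z = 2 :=
    orderOf_two_of_mul_self (congrArg Subtype.val (hsq z')) fun h => hz' (Subtype.ext h)
  have hzP : z ∈ (P : Subgroup G) := z'.2
  choose a ha using fun χ : IrrCharacter G =>
    ZStar.exists_int_value_involution (χ := χ) (mul_self_of_orderOf_two hz)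
  have hinv : ∀ χ : IrrCharacter G, ∀ w : G, orderOf w = 2 → (χ : G → ℂ) w = a χ := fun χ w hw => by
    rw [← Blocks.IsClassFunction.eq_of_isConj (Blocks.irr_classFunction χ) (hone z w hz hw), ha χ]
  obtain ⟨Q, hQ4, hnpc⟩ := klein_centralizer P hP hz hzP
  set B : Finset (IrrCharacter G) := {χ | χ ∈ principalBlock M G} with hB
  have hx : ∃ k : ℕ, orderOf z = 2 ^ k := ⟨1, by rw [hz, pow_one]⟩
  have hnorm : ∑ χ ∈ B, a χ * a χ = 4 := by
    have h := Blocks.sum_principal_norm_sq hM hx
    rw [Blocks.sum_sq_degree_principal_of_npc hM hnpc Q, hQ4] at h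
    simp only [ha, map_intCast] at h
    exact_mod_cast h
  have hval : ∀ χ : IrrCharacter G, χ ∈ principalBlock M G →
      ∀ g : G, 2 ∣ orderOf g → (χ : G → ℂ) g = a χ := by
    intro χ hχ g hg
    obtain ⟨e, m, hm, -, hq, hpart⟩ := Transfer.exists_pow_coprime_part (p := 2) g
    -- the 2-part is an involution
    obtain ⟨T, hT⟩ := (Transfer.isPGroup_zpowers (p := 2) ⟨e, hpart⟩).exists_le_sylow
    obtain ⟨c, hc⟩ := MulAction.exists_smul_eq G T P
    have hgP : c * g ^ m * c⁻¹ ∈ (P : Subgroup G) := by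
      rw [← hc]
      exact Subgroup.smul_mem_pointwise_smul _ (MulAut.conj c) _ (hT (Subgroup.mem_zpowers _))
    have hne : g ^ m ≠ 1 := fun h => hm (hg.trans (orderOf_dvd_of_pow_eq_one h))
    have hinv2 : orderOf (c * g ^ m * c⁻¹) = 2 := orderOf_two_of_mul_self
      (congrArg Subtype.val (hsq ⟨_, hgP⟩)) fun h => hne (conj_eq_one_iff.mp h)
    obtain ⟨d, hd⟩ := isConj_iff.mp (hone _ z hinv2 hz)
    set g' := d * c * g * (d * c)⁻¹ with hg'
    have hgm : g' ^ m = z := by
      rw [hg', conj_pow, ← hd]; group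
    have hgC : g' ∈ Subgroup.centralizer ({z} : Set G) := by
      rw [Subgroup.mem_centralizer_singleton_iff, ← hgm]
      exact (Commute.self_pow g' m).eq
    set zC : Subgroup.centralizer ({z} : Set G) :=
      ⟨z, Subgroup.mem_centralizer_singleton_iff.mpr rfl⟩
    set r : Subgroup.centralizer ({z} : Set G) := zC⁻¹ * ⟨g', hgC⟩ with hr
    have hreg : ¬ 2 ∣ orderOf r := by
      have h1 : (r : G) ^ m = 1 := by
        show (z⁻¹ * g') ^ m = 1
        have hcz : Commute z⁻¹ g' :=
          (show Commute z g' from (Subgroup.mem_centralizer_singleton_iff.mp hgC).symm).inv_left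
        rw [hcz.mul_pow, hgm, inv_of_orderOf_two hz]
        obtain ⟨j, rfl⟩ : ∃ j, m = 2 * j + 1 := ⟨m / 2, by omega⟩
        rw [pow_succ, pow_mul, pow_two, mul_self_of_orderOf_two hz, one_pow, one_mul,
          mul_self_of_orderOf_two hz]
      intro h2
      rw [← Subgroup.orderOf_coe] at h2
      exact hm (h2.trans (orderOf_dvd_of_pow_eq_one h1))
    have hrO : r ∈ pPrimeCore 2 (Subgroup.centralizer ({z} : Set G)) := by
      rw [Transfer.pPrimeCore_eq_pResidual hnpc]
      exact Transfer.mem_pResidual_of_coprime ((Nat.prime_two.coprime_iff_not_dvd).mpr hreg).symm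
    have h1 := Blocks.value_mul_pPrimeCore hM hx hχ (y := 1) (v := r) (by simp)
      (by rwa [one_mul]) hrO
    rw [one_mul, Subgroup.coe_one, mul_one] at h1
    rw [← ha χ, ← Blocks.irr_classFunction χ g (d * c), ← hg', ← h1]
    show _ = (χ : G → ℂ) (z * (z⁻¹ * g'))
    rw [mul_inv_cancel_left]
  -- no member of the block vanishes at the involutions
  have ha0 : ∀ χ : IrrCharacter G, χ ∈ principalBlock M G → a χ ≠ 0 := by
    intro χ hχ h0
    have hU : Blocks.IsBlockUnion M ({χ} : Set (IrrCharacter G)) := by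
      refine Blocks.isBlockUnion_of_regPart_orthogonal hM ?_
      intro χ' hχ' ψ hψ
      rw [Set.mem_singleton_iff.mp hχ']
      have he : Blocks.regPart 2 (χ : G → ℂ) = (χ : G → ℂ) := funext fun g => by
        by_cases hg : IsPRegular 2 g
        · rw [Blocks.regPart_of_regular hg]
        · rw [Blocks.regPart_of_singular hg, hval χ hχ g (not_not.mp hg), h0, Int.cast_zero]
      rw [he, Char.classInner_coe, if_neg (fun h => hψ (Set.mem_singleton_iff.mpr h.symm))]
    have hT := hU χ rfl (Blocks.trivIrr G)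
      (Blocks.mem_blockOf_iff.mp (Blocks.blockOf_eq_of_sameBlock
        (Blocks.mem_blockOf_iff.mp hχ) ▸ Blocks.mem_blockOf_self (Blocks.trivIrr G)))
    have h1 := ha χ
    rw [h0, Int.cast_zero, ← Set.mem_singleton_iff.mp hT] at h1
    exact one_ne_zero h1
  have hT : Blocks.trivIrr G ∈ B :=
    Finset.mem_filter.mpr ⟨Finset.mem_univ _, Blocks.mem_blockOf_self (Blocks.trivIrr G)⟩
  have hmem : ∀ χ, χ ∈ B ↔ χ ∈ principalBlock M G := fun χ => by simp [hB]
  have hT1 : a (Blocks.trivIrr G) = 1 := by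
    have h : ((a (Blocks.trivIrr G) : ℤ) : ℂ) = 1 := (ha (Blocks.trivIrr G)).symm
    exact_mod_cast h
  have hrest : ∑ χ ∈ B.erase (Blocks.trivIrr G), a χ * a χ = 3 := by
    have := Finset.add_sum_erase B (fun χ => a χ * a χ) hT
    rw [hnorm, hT1] at this
    linarith
  have hpm : ∀ χ ∈ B, a χ = 1 ∨ a χ = -1 := by
    intro χ hχ
    by_cases h : χ = Blocks.trivIrr G
    · rw [h, hT1]; exact Or.inl rfl
    have hle := Finset.single_le_sum (f := fun χ => a χ * a χ) (fun _ _ => mul_self_nonneg _)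
      (Finset.mem_erase.mpr ⟨h, hχ⟩)
    rw [hrest] at hle
    have h0 := ha0 χ ((hmem χ).mp hχ)
    have h4 : a χ ≤ 1 := by nlinarith
    have h5 : -1 ≤ a χ := by nlinarith
    omega
  have hcard : B.card = 4 := by
    have : ∑ χ ∈ B, a χ * a χ = (B.card : ℤ) := by
      rw [Finset.sum_congr rfl (g := fun _ => (1 : ℤ)) fun χ hχ => by
        rcases hpm χ hχ with h | h <;> simp [h]]
      simp
    rw [hnorm] at this
    exact_mod_cast this.symm
  refine ⟨B, a, hcard, hmem, hT, hT1, hpm, fun χ hχ => ?_,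
    fun χ hχ => hval χ ((hmem χ).mp hχ), fun y hy => ?_⟩
  · obtain ⟨k, hk⟩ := Char.exists_nat_classInner
      (Char.isCharacter_restrict (P : Subgroup G) (Char.isCharacter_of_isIrr χ.2))
      Char.isCharacter_one
    simp only [classInner, map_one, mul_one] at hk
    rw [IsKleinFour.card_four, inv_mul_eq_iff_eq_mul₀ (by norm_num),
      ← Finset.add_sum_erase Finset.univ _ (Finset.mem_univ (1 : (P : Subgroup G))),
      Finset.sum_congr rfl (g := fun _ => (a χ : ℂ)) fun (w : (P : Subgroup G)) hw => hinv χ (w : G)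
        (orderOf_two_of_mul_self (congrArg Subtype.val (hsq w))
          fun h => (Finset.mem_erase.mp hw).1 (Subtype.ext h)),
      Finset.sum_const, Finset.card_erase_of_mem (Finset.mem_univ _), Finset.card_univ,
      ← Nat.card_eq_fintype_card, IsKleinFour.card_four, Subgroup.coe_one,
      (Blocks.irr_degree_eq χ).1, nsmul_eq_mul] at hk
    refine ⟨(k : ℤ) - a χ, ?_⟩
    push_cast at hk
    have h2 : (((charDegree (χ : G → ℂ) : ℤ) - a χ : ℤ) : ℂ) = ((4 * ((k : ℤ) - a χ) : ℤ) : ℂ) := by
      push_cast; linear_combination hk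
    exact_mod_cast h2
  · have h := Blocks.sum_block_conj_eq_zero_of_section hM (B := principalBlock M G)
      Blocks.isPBlock_principalBlock (g := y) hx fun k hk hreg hc => hy ?_
    · have h' := congrArg conj h
      rw [map_zero, map_sum] at h'
      refine Eq.trans (Finset.sum_congr rfl fun χ _ => ?_) h'
      rw [map_mul, Complex.conj_conj, ha χ, map_intCast]
    · obtain ⟨c, hc⟩ := isConj_iff.mp hc
      rw [← hc, Transfer.orderOf_conj, hk.orderOf_mul_eq_mul_orderOf_of_coprime (by
        rw [hz]; exact (Nat.prime_two.coprime_iff_not_dvd).mpr hreg), hz]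
      exact dvd_mul_right 2 _

/-- The principal block has three Brauer characters. -/
theorem klein_blockRank {M : Ideal AlgInt} (hM : IsPModular 2 M) (P : Sylow 2 G)
    (hP : IsKleinFour (P : Subgroup G)) (hone : ∀ s t : G, orderOf s = 2 → orderOf t = 2 → IsConj s t) :
    blockRank 2 (principalBlock M G) = 3 := by
  classical
  have := Blocks.isPrime_of_isPModular hM
  obtain ⟨Z, a, hcard, hmem, hT, hT1, hpm, -, hval, hrel⟩ := klein_block hM P hP hone
  have haa : ∀ χ ∈ Z, (a χ : ℂ) * a χ = 1 := fun χ hχ => by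
    rcases hpm χ hχ with h | h <;> simp [h]
  -- the number of singular elements
  set S : Finset G := {g | 2 ∣ orderOf g} with hS
  have hsplit : ∀ f : G → ℂ, ∑ g, f g = ∑ g ∈ S, f g + ∑ g ∈ Sᶜ, f g := fun f =>
    (Finset.sum_add_sum_compl S f).symm
  have hzero : ∀ χ ∈ Z, χ ≠ Blocks.trivIrr G → ∑ g, (χ : G → ℂ) g = 0 := by
    intro χ _ hne
    have h : classInner (χ : G → ℂ) (Blocks.trivIrr G : G → ℂ) = 0 := by
      rw [Char.classInner_coe, if_neg hne]
    rw [classInner, mul_eq_zero, or_iff_right (inv_ne_zero (Nat.cast_ne_zero.mpr Nat.card_pos.ne'))] at h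
    simpa [Blocks.trivIrr] using h
  have hS4 : (4 : ℂ) * S.card = Nat.card G := by
    have h1 : ∑ χ ∈ Z, (a χ : ℂ) * ∑ g, (χ : G → ℂ) g = Nat.card G := by
      rw [Finset.sum_eq_single (Blocks.trivIrr G) (fun χ hχ hne => by rw [hzero χ hχ hne, mul_zero])
        (fun h => absurd hT h), hT1, Int.cast_one, one_mul]
      simp [Blocks.trivIrr]
    rw [← h1, Finset.sum_congr rfl fun χ _ => by rw [Finset.mul_sum, hsplit], Finset.sum_add_distrib,
      Finset.sum_comm (s := Z) (t := Sᶜ), Finset.sum_eq_zero (s := Sᶜ) fun g hg => hrel g (by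
        simpa [hS] using hg), add_zero,
      Finset.sum_congr rfl (g := fun _ => ∑ g ∈ S, (1 : ℂ)) fun χ hχ =>
        Finset.sum_congr rfl fun g hg => by
          rw [hval χ hχ g (by simpa [hS] using hg), haa χ hχ]]
    simp [hcard]
  have hBU := Blocks.IsPBlock.isBlockUnion (Blocks.isPBlock_principalBlock (M := M) (G := G))
  have hrank := Blocks.card_mul_blockRank hM hBU
  have hone' : ∀ χ : IrrCharacter G, ∑ g, (χ : G → ℂ) g * conj ((χ : G → ℂ) g) = Nat.card G := by
    intro χ
    have h := Char.classInner_irr_self χ.2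
    rw [classInner, inv_mul_eq_iff_eq_mul₀ (Nat.cast_ne_zero.mpr Nat.card_pos.ne'), mul_one] at h
    exact h
  have hb : ∀ g : G, ∑ᶠ χ ∈ principalBlock M G,
      Blocks.regPart 2 (χ : G → ℂ) g * conj ((χ : G → ℂ) g) =
      ∑ χ ∈ Z, Blocks.regPart 2 (χ : G → ℂ) g * conj ((χ : G → ℂ) g) := fun g => by
    exact finsum_mem_eq_sum_of_inter_support_eq (t := Z) _ (by ext χ; simp [hmem χ])
  rw [Finset.sum_congr rfl fun g _ => hb g, Finset.sum_comm,
    Finset.sum_congr rfl (g := fun _ => (Nat.card G : ℂ) - S.card) fun χ hχ => ?_,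
    Finset.sum_const, hcard, nsmul_eq_mul] at hrank
  · have h3 : (Nat.card G : ℂ) * (blockRank 2 (principalBlock M G) : ℂ) =
        (Nat.card G : ℂ) * ((3 : ℕ) : ℂ) := by
      rw [hrank]; push_cast; linear_combination -hS4
    exact_mod_cast mul_left_cancel₀ (Nat.cast_ne_zero.mpr Nat.card_pos.ne') h3
  · have h1 := hone' χ
    rw [hsplit, Finset.sum_congr rfl (g := fun _ => (1 : ℂ)) fun g hg => by
      rw [hval χ hχ g (by simpa [hS] using hg), map_intCast, haa χ hχ]] at h1
    rw [hsplit, Finset.sum_eq_zero (s := S) fun g hg => by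
        rw [Blocks.regPart_of_singular (fun h => h (by simpa [hS] using hg)), zero_mul],
      zero_add, Finset.sum_congr rfl (g := fun g => (χ : G → ℂ) g * conj ((χ : G → ℂ) g)) fun g hg => by
        rw [Blocks.regPart_of_regular (show IsPRegular 2 g by simpa [hS, IsPRegular] using hg)],
      ← h1]
    simp

end CfsgLib.Invol
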