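import Cfsg.Agent.Lib.Invol.KleinSylow
import Cfsg.Agent.Lib.Invol.Dihedral
import Cfsg.Agent.Lib.Blocks.BrauerFeit
import Cfsg.Agent.S0948
import Cfsg.Agent.S4479

/-!
# An involution whose centralizer has a normal Klein four Sylow 2-subgroup
-/

set_option autoImplicit false
set_option linter.style.haveILetI false

namespace CfsgLib.Invol

variable {G : Type*} [Group G] [Finite G]

/-- A class of involutions all of whose members near `x` commute with `y`. -/
theorem normalClosure_of_nonconj {x y : G} (hx : orderOf x = 2) (hy : orderOf y = 2)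
    (hxy : Commute x y) (hnc : ¬ IsConj x y)
    (hstar : ∀ u : G, orderOf u = 2 → Commute u x → ∀ g : G, Commute (g * y * g⁻¹) u →
      Commute (g * y * g⁻¹) y) :
    Subgroup.normalClosure ({y} : Set G) ≠ ⊤ ∧
      Cfsg.IsElementaryAbelian 2 (Subgroup.normalClosure ({y} : Set G)) ∧
      ((∀ u ∈ Subgroup.normalClosure ({y} : Set G), orderOf u = 2 → Commute u x → u = y) →
        Nat.card ↥(Subgroup.normalClosure ({y} : Set G)) ≤ 4) := by
  have hall : ∀ g : G, Commute (g * y * g⁻¹) y := fun g => by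
    have hv := conj_orderOf_two hy g
    obtain ⟨t, ht, htx, htv⟩ := exists_common_commuting_invol hx hv
      (even_of_not_isConj hx hv fun h => hnc (h.trans (isConj_iff.mpr ⟨g⁻¹, by group⟩)))
    exact hstar t ht htx g htv.symm
  set N := Subgroup.normalClosure ({y} : Set G) with hN
  have hgen : Group.conjugatesOfSet ({y} : Set G) ⊆ {v | ∃ g, g * y * g⁻¹ = v} := fun v hv => by
    rw [Group.mem_conjugatesOfSet_iff] at hv
    obtain ⟨a, rfl, ha⟩ := hv
    exact isConj_iff.mp ha
  have hNy : ∀ n ∈ N, Commute n y := fun n hn => by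
    have : N ≤ Subgroup.centralizer ({y} : Set G) := by
      rw [hN, Subgroup.normalClosure, Subgroup.closure_le]
      intro v hv
      obtain ⟨g, rfl⟩ := hgen hv
      exact Subgroup.mem_centralizer_singleton_iff.mpr (hall g)
    exact Subgroup.mem_centralizer_singleton_iff.mp (this hn)
  haveI : N.Normal := Subgroup.normalClosure_normal
  have hab : ∀ a ∈ N, ∀ b ∈ N, a * b = b * a := by
    have : N ≤ Subgroup.centralizer (N : Set G) := by
      conv_lhs => rw [hN, Subgroup.normalClosure]
      rw [Subgroup.closure_le]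
      intro v hv
      obtain ⟨g, rfl⟩ := hgen hv
      refine Subgroup.mem_centralizer_iff.mpr fun n hn => ?_
      have h1 := hNy _ ((inferInstance : N.Normal).conj_mem n hn g⁻¹)
      rw [inv_inv] at h1
      calc n * (g * y * g⁻¹) = g * (g⁻¹ * n * g * y) * g⁻¹ := by group
        _ = g * (y * (g⁻¹ * n * g)) * g⁻¹ := by rw [h1.eq]
        _ = g * y * g⁻¹ * n := by group
    exact fun a ha b hb => (Subgroup.mem_centralizer_iff.mp (this ha) b hb).symm
  have hexp : ∀ a ∈ N, a ^ 2 = 1 := by
    intro a ha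
    let E : Subgroup G :=
      { carrier := {a | a ∈ N ∧ a ^ 2 = 1}
        one_mem' := ⟨one_mem N, one_pow 2⟩
        mul_mem' := fun {a b} ha hb => ⟨mul_mem ha.1 hb.1, by
          rw [(show Commute a b from hab a ha.1 b hb.1).mul_pow, ha.2, hb.2, one_mul]⟩
        inv_mem' := fun {a} ha => ⟨inv_mem ha.1, by rw [inv_pow, ha.2, inv_one]⟩ }
    have hle : N ≤ E := by
      conv_lhs => rw [hN, Subgroup.normalClosure]
      rw [Subgroup.closure_le]
      intro v hv
      refine ⟨?_, ?_⟩
      · exact Subgroup.conjugatesOfSet_subset_normalClosure hv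
      · obtain ⟨g, rfl⟩ := hgen hv
        rw [pow_two]
        exact mul_self_of_orderOf_two (conj_orderOf_two hy g)
    exact (hle ha).2
  refine ⟨fun htop => hnc ?_, ⟨⟨⟨fun a b => Subtype.ext (hab _ a.2 _ b.2)⟩⟩, hexp⟩, fun honly => ?_⟩
  · have habG : ∀ a b : G, a * b = b * a := fun a b =>
      hab a (htop ▸ Subgroup.mem_top a) b (htop ▸ Subgroup.mem_top b)
    have hle : N ≤ Subgroup.zpowers y := by
      conv_lhs => rw [hN, Subgroup.normalClosure]
      rw [Subgroup.closure_le]
      intro v hv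
      obtain ⟨g, rfl⟩ := hgen hv
      rw [habG g y, mul_inv_cancel_right]
      exact Subgroup.mem_zpowers y
    obtain ⟨k, hk⟩ := Subgroup.mem_zpowers_iff.mp (hle (htop ▸ Subgroup.mem_top x))
    rcases Int.even_or_odd' k with ⟨j, rfl | rfl⟩
    · rw [zpow_mul, zpow_two, mul_self_of_orderOf_two hy, one_zpow] at hk
      exact absurd hk.symm (ne_one_of_orderOf_two hx)
    · rw [zpow_add, zpow_mul, zpow_two, mul_self_of_orderOf_two hy, one_zpow, one_mul, zpow_one] at hk
      rw [hk]
  · have hxx := mul_self_of_orderOf_two hx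
    have hxi := inv_of_orderOf_two hx
    have hN2 : ∀ a ∈ N, a * a = 1 := fun a ha => by rw [← pow_two]; exact hexp a ha
    let φ : N →* G :=
      { toFun := fun n => (n : G) * (x * n * x⁻¹)
        map_one' := by simp
        map_mul' := fun a b => by
          have h1 := hab _ ((inferInstance : N.Normal).conj_mem _ a.2 x) _ b.2
          calc ((a * b : N) : G) * (x * (a * b : N) * x⁻¹)
              = (a : G) * ((b : G) * (x * a * x⁻¹)) * (x * b * x⁻¹) := by
                rw [Subgroup.coe_mul]; group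
            _ = (a : G) * (x * a * x⁻¹) * ((b : G) * (x * b * x⁻¹)) := by rw [← h1]; group }
    have hrange : ∀ v ∈ φ.range, v = 1 ∨ v = y := by
      rintro _ ⟨n, rfl⟩
      have hm : φ n ∈ N := mul_mem n.2 ((inferInstance : N.Normal).conj_mem _ n.2 x)
      by_cases h1 : φ n = 1
      · exact Or.inl h1
      refine Or.inr (honly _ hm (orderOf_two_of_mul_self (hN2 _ hm) h1) ?_)
      show (n : G) * (x * n * x⁻¹) * x = x * ((n : G) * (x * n * x⁻¹))
      rw [hab _ n.2 _ ((inferInstance : N.Normal).conj_mem _ n.2 x), hxi]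
      calc x * n * x * n * x = x * ((n : G) * x * n * x) := by group
        _ = x * (x * n * x * n) := by
          rw [show (n : G) * x * n * x = (n : G) * (x * n * x⁻¹) by rw [hxi]; group,
            hab _ n.2 _ ((inferInstance : N.Normal).conj_mem _ n.2 x), hxi]
    have hker : ∀ n ∈ φ.ker, (n : G) = 1 ∨ (n : G) = y := by
      intro n hn
      by_cases h1 : (n : G) = 1
      · exact Or.inl h1
      refine Or.inr (honly _ n.2 (orderOf_two_of_mul_self (hN2 _ n.2) h1) ?_)
      have h2 : (n : G) * (x * n * x⁻¹) = 1 := hn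
      rw [hxi] at h2
      show (n : G) * x = x * n
      have h3 : (n : G) * x * n * x = 1 := by rw [← h2]; group
      calc (n : G) * x = (n : G) * x * ((n : G) * x * x * n) := by
            rw [show (n : G) * x * x * n = (n : G) * (x * x) * n by group, hxx, mul_one, hN2 _ n.2,
              mul_one]
        _ = (n : G) * x * n * x * (x * n) := by group
        _ = x * n := by rw [h3, one_mul]
    have h2 : ∀ {H : Type _} [Group H] (f : H → G), Function.Injective f → (∀ h, f h = 1 ∨ f h = y) →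
        Nat.card H ≤ 2 := by
      intro H _ f hf hh
      classical
      refine le_trans (Nat.card_le_card_of_injective (fun h => decide (f h = 1)) fun a b e => hf ?_)
        (by simp)
      simp only [decide_eq_decide] at e
      rcases hh a with ha | ha <;> rcases hh b with hb | hb
      · rw [ha, hb]
      · rw [ha, e.mp ha]
      · rw [hb, e.mpr hb]
      · rw [ha, hb]
    calc Nat.card N = Nat.card (N ⧸ φ.ker) * Nat.card φ.ker :=
          Subgroup.card_eq_card_quotient_mul_card_subgroup _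
      _ = Nat.card φ.range * Nat.card φ.ker := by
          rw [Nat.card_congr (QuotientGroup.quotientKerEquivRange φ).toEquiv]
      _ ≤ 2 * 2 := Nat.mul_le_mul
          (h2 (fun h => (h : G)) Subtype.val_injective fun h => hrange h h.2)
          (h2 (fun h => ((h : N) : G)) (Subtype.val_injective.comp Subtype.val_injective)
            fun h => hker h h.2)

variable {x : G} {S₀ : Subgroup G}

/-- Every involution of `C(x)` lies in the normal Klein four Sylow 2-subgroup `S₀`. -/
theorem mem_of_involution (hle : S₀ ≤ Subgroup.centralizer ({x} : Set G)) (hK : IsKleinFour ↥S₀)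
    (hodd : ¬ 2 ∣ S₀.relIndex (Subgroup.centralizer ({x} : Set G)))
    (hn : (S₀.subgroupOf (Subgroup.centralizer ({x} : Set G))).Normal) {R : Subgroup G}
    (hR : IsPGroup 2 R) (hRC : R ≤ Subgroup.centralizer ({x} : Set G)) : R ≤ S₀ := by
  haveI := Fact.mk Nat.prime_two
  haveI := hn
  haveI := hK
  set C := Subgroup.centralizer ({x} : Set G)
  have hp : IsPGroup 2 ↥(S₀.subgroupOf C) := IsPGroup.of_card (n := 2) (by
    rw [Nat.card_congr (Subgroup.subgroupOfEquivOfLe hle).toEquiv, IsKleinFour.card_four]; norm_num)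
  let P : Sylow 2 C := hp.toSylow hodd
  obtain ⟨Q, hQ⟩ := (hR.comap_of_injective C.subtype C.subtype_injective).exists_le_sylow
  haveI : (P : Subgroup C).Normal := hn
  have : Q = P := by
    obtain ⟨c, hc⟩ := MulAction.exists_smul_eq C P Q
    rw [← hc]
    exact Sylow.smul_eq_of_normal
  intro r hr
  have hm : (⟨r, hRC hr⟩ : C) ∈ Q := hQ (show (⟨r, hRC hr⟩ : C) ∈ R.comap C.subtype from hr)
  rw [this] at hm
  exact hm

/-- If the Sylow subgroups have order more than four, a central involution has elementary abelian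
normal closure of order 2 or 4. -/
theorem exists_small_normal (hx : orderOf x = 2) (hle : S₀ ≤ Subgroup.centralizer ({x} : Set G))
    (hK : IsKleinFour ↥S₀) (hodd : ¬ 2 ∣ S₀.relIndex (Subgroup.centralizer ({x} : Set G)))
    (hn : (S₀.subgroupOf (Subgroup.centralizer ({x} : Set G))).Normal)
    (S : Sylow 2 G) (hS₀ : S₀ ≤ (S : Subgroup G)) (hne : S₀ ≠ (S : Subgroup G)) :
    ∃ E : Subgroup G, E.Normal ∧ Cfsg.IsElementaryAbelian 2 E ∧
      (Nat.card ↥E = 2 ∨ Nat.card ↥E = 4) ∧ E ≠ ⊤ := by
  classical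
  haveI := Fact.mk Nat.prime_two
  haveI := hK
  set C := Subgroup.centralizer ({x} : Set G) with hC
  have hx1 := ne_one_of_orderOf_two hx
  have hxx := mul_self_of_orderOf_two hx
  have hsq : ∀ a ∈ S₀, a * a = 1 := fun a ha => congrArg Subtype.val (IsKleinFour.mul_self (⟨a, ha⟩ : S₀))
  have hinv : ∀ u : G, orderOf u = 2 → Commute u x → u ∈ S₀ := fun u hu hc =>
    mem_of_involution hle hK hodd hn (IsPGroup.of_card (n := 1) (by rw [Nat.card_zpowers, hu, pow_one]))
      (Subgroup.zpowers_le.mpr (Subgroup.mem_centralizer_singleton_iff.mpr hc.eq)) (Subgroup.mem_zpowers u)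
  have hx₀ : x ∈ S₀ := hinv x hx (Commute.refl x)
  have hS₀max : ∀ a ∈ (S : Subgroup G), Commute a x → a ∈ S₀ := fun a ha hc =>
    mem_of_involution hle hK hodd hn (S.2.to_le (Subgroup.zpowers_le.mpr ha))
      (Subgroup.zpowers_le.mpr (Subgroup.mem_centralizer_singleton_iff.mpr hc.eq)) (Subgroup.mem_zpowers a)
  haveI : Group.IsNilpotent (S : Subgroup G) := S.2.isNilpotent
  -- a central involution
  obtain ⟨z, hzS, hz1, hzz, hzc⟩ : ∃ z ∈ (S : Subgroup G), z ≠ 1 ∧ z * z = 1 ∧
      ∀ a ∈ (S : Subgroup G), z * a = a * z := by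
    haveI : Nontrivial (S : Subgroup G) := ⟨⟨⟨x, hS₀ hx₀⟩, 1, fun h => hx1 (congrArg Subtype.val h)⟩⟩
    haveI := S.2.center_nontrivial
    obtain ⟨z, hz⟩ := exists_prime_orderOf_dvd_card' (G := Subgroup.center (S : Subgroup G)) 2 (by
      obtain ⟨k, hk⟩ := IsPGroup.iff_card.mp (S.2.to_subgroup (Subgroup.center (S : Subgroup G)))
      rw [hk]
      refine dvd_pow_self 2 fun h0 => ?_
      rw [h0, pow_zero] at hk
      exact (Finite.one_lt_card (α := Subgroup.center (S : Subgroup G))).ne' hk)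
    have hzo : orderOf ((z : (S : Subgroup G)) : G) = 2 := by
      rw [Subgroup.orderOf_coe, Subgroup.orderOf_coe, hz]
    exact ⟨_, (z : (S : Subgroup G)).2, ne_one_of_orderOf_two hzo, mul_self_of_orderOf_two hzo,
      fun a ha => (congrArg Subtype.val (Subgroup.mem_center_iff.mp z.2 ⟨a, ha⟩)).symm⟩
  have hzo := orderOf_two_of_mul_self hzz hz1
  have hz₀ : z ∈ S₀ := hS₀max z hzS (hzc x (hS₀ hx₀))
  -- an element moving `x`
  obtain ⟨g, hgS, hgN, hg₀⟩ : ∃ g ∈ (S : Subgroup G),
      g ∈ Subgroup.normalizer (S₀ : Set G) ∧ g ∉ S₀ := by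
    have hlt : S₀.subgroupOf (S : Subgroup G) < ⊤ := lt_top_iff_ne_top.mpr fun h =>
      hne (le_antisymm hS₀ (Subgroup.subgroupOf_eq_top.mp h))
    obtain ⟨⟨g, hgS⟩, hgN, hg₀⟩ := SetLike.exists_of_lt (Group.normalizerCondition_of_isNilpotent _ hlt)
    refine ⟨g, hgS, ?_, hg₀⟩
    rw [Subgroup.mem_normalizer_iff] at hgN ⊢
    intro a
    refine ⟨fun ha => (hgN ⟨a, hS₀ ha⟩).mp ha, fun ha => ?_⟩
    have haS : a ∈ (S : Subgroup G) := by
      have := mul_mem (mul_mem (inv_mem hgS) (hS₀ ha)) hgS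
      simpa [mul_assoc] using this
    exact (hgN ⟨a, haS⟩).mpr ha
  have hgx : g * x * g⁻¹ ≠ x := fun h => hg₀ (hS₀max g hgS (mul_inv_eq_iff_eq_mul.mp h))
  have hzx : z ≠ x := fun h => hg₀ (hS₀max g hgS (h ▸ (hzc g hgS).symm))
  have hthird : ∀ a ∈ S₀, a ≠ 1 → a = x ∨ a = z ∨ a = x * z := fun a ha ha1 => by
    by_cases h1 : a = x
    · exact Or.inl h1
    by_cases h2 : a = z
    · exact Or.inr (Or.inl h2)
    have h3 : (⟨a, ha⟩ : S₀) = ⟨x, hx₀⟩ * ⟨z, hz₀⟩ := IsKleinFour.eq_mul_of_ne_all
      (fun e => hx1 (congrArg Subtype.val e)) (fun e => hz1 (congrArg Subtype.val e))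
      (fun e => hzx (congrArg Subtype.val e).symm) (fun e => ha1 (congrArg Subtype.val e))
      (fun e => h1 (congrArg Subtype.val e)) (fun e => h2 (congrArg Subtype.val e))
    exact Or.inr (Or.inr (congrArg Subtype.val h3))
  have hgxz : g * x * g⁻¹ = x * z := by
    rcases hthird _ ((Subgroup.mem_normalizer_iff.mp hgN x).mp hx₀) (fun h => hx1 (by simpa using h)) with h | h | h
    · exact absurd h hgx
    · refine absurd ?_ hzx
      rw [show x = g⁻¹ * (g * x * g⁻¹) * g by group, h, mul_assoc, hzc g hgS, inv_mul_cancel_left]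
    · exact h
  have hxy : Commute x z := (hzc x (hS₀ hx₀)).symm
  have hnc : ¬ IsConj x z := by
    intro h
    obtain ⟨c, hc⟩ := isConj_iff.mp h
    -- the Sylow subgroup `S` centralizes a conjugate of `x`
    refine hne (Subgroup.eq_of_le_of_card_ge hS₀ ?_)
    have hle' : (S : Subgroup G).map (MulAut.conj c⁻¹).toMonoidHom ≤ S₀ :=
      mem_of_involution hle hK hodd hn (S.2.map _) (by
        rintro _ ⟨a, ha, rfl⟩
        rw [Subgroup.mem_centralizer_singleton_iff]
        have h1 := hzc a ha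
        rw [← hc] at h1
        simp only [MulEquiv.coe_toMonoidHom, MulAut.conj_apply, inv_inv]
        calc c⁻¹ * a * c * x = c⁻¹ * (a * (c * x * c⁻¹)) * c := by group
          _ = c⁻¹ * (c * x * c⁻¹ * a) * c := by rw [← h1]
          _ = x * (c⁻¹ * a * c) := by group)
    calc Nat.card (S : Subgroup G) = Nat.card ((S : Subgroup G).map (MulAut.conj c⁻¹).toMonoidHom) :=
          (Subgroup.card_map_of_injective (MulAut.conj c⁻¹).injective).symm
      _ ≤ Nat.card S₀ := Subgroup.card_le_of_le hle'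
  have hstar : ∀ u : G, orderOf u = 2 → Commute u x → ∀ a : G, Commute (a * z * a⁻¹) u →
      Commute (a * z * a⁻¹) z := by
    intro u hu hux a hc
    set v := a * z * a⁻¹ with hv
    have hvo : orderOf v = 2 := conj_orderOf_two hzo a
    have hS₀c : ∀ w ∈ S₀, Commute w z := fun w hw => (hzc w (hS₀ hw)).symm
    rcases hthird u (hinv u hu hux) (ne_one_of_orderOf_two hu) with rfl | rfl | rfl
    · exact hS₀c v (hinv v hvo hc)
    · exact hc
    · -- pull back by `g`
      have h1 : Commute (g⁻¹ * v * g) x := by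
        show g⁻¹ * v * g * x = x * (g⁻¹ * v * g)
        have h0 : v * (g * x * g⁻¹) = g * x * g⁻¹ * v := by rw [hgxz]; exact hc.eq
        calc g⁻¹ * v * g * x = g⁻¹ * (v * (g * x * g⁻¹)) * g := by group
          _ = g⁻¹ * (g * x * g⁻¹ * v) * g := by rw [h0]
          _ = x * (g⁻¹ * v * g) := by group
      have h2 := (hS₀c _ (hinv _ (by simpa using conj_orderOf_two hvo g⁻¹) h1)).eq
      show v * z = z * v
      calc v * z = g * (g⁻¹ * v * g * (g⁻¹ * z * g)) * g⁻¹ := by group
        _ = g * (z * (g⁻¹ * v * g)) * g⁻¹ := by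
          rw [show g⁻¹ * z * g = z by rw [mul_assoc, hzc g hgS, inv_mul_cancel_left], h2]
        _ = z * v := by
          rw [show g * (z * (g⁻¹ * v * g)) * g⁻¹ = g * z * g⁻¹ * v by group, ← hzc g hgS,
            mul_inv_cancel_right]
  obtain ⟨htop, hE, hsmall⟩ := normalClosure_of_nonconj hx hzo hxy hnc hstar
  set E := Subgroup.normalClosure ({z} : Set G)
  haveI : E.Normal := Subgroup.normalClosure_normal
  have hzE : z ∈ E := Subgroup.subset_normalClosure rfl
  have h4 : Nat.card E ≤ 4 := by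
    by_cases hxE : x ∈ E
    · -- then `E` lies in `C(x)`
      have hEC : E ≤ C := fun a ha => Subgroup.mem_centralizer_singleton_iff.mpr
        (congrArg Subtype.val (hE.1.is_comm.comm (⟨a, ha⟩ : E) ⟨x, hxE⟩))
      calc Nat.card E ≤ Nat.card S₀ := Subgroup.card_le_of_le (mem_of_involution hle hK hodd hn
            (fun a => ⟨1, Subtype.ext (by rw [pow_one, SubmonoidClass.coe_pow]; exact hE.2 a a.2)⟩) hEC)
        _ = 4 := IsKleinFour.card_four
    · refine hsmall fun u hu hu2 hux => ?_
      rcases hthird u (hinv u hu2 hux) (ne_one_of_orderOf_two hu2) with rfl | rfl | rfl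
      · exact absurd hu hxE
      · rfl
      · exact absurd (by simpa [mul_assoc, hzz] using mul_mem hu hzE) hxE
  refine ⟨E, inferInstance, hE, ?_, htop⟩
  obtain ⟨k, hk⟩ := IsPGroup.iff_card.mp (show IsPGroup 2 E from
    fun a => ⟨1, Subtype.ext (by rw [pow_one, SubmonoidClass.coe_pow]; exact hE.2 a a.2)⟩)
  rw [hk] at h4 ⊢
  rcases k with _ | _ | _ | k
  · exfalso
    rw [pow_zero, Subgroup.card_eq_one] at hk
    exact hz1 (Subgroup.mem_bot.mp (hk ▸ hzE))
  · exact Or.inl rfl
  · exact Or.inr rfl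
  · exfalso
    rw [pow_succ, pow_succ, pow_succ] at h4
    have := Nat.one_le_two_pow (n := k)
    omega

/-- With a Klein four Sylow subgroup `P`, one class of involutions and `C(J) = C(P)`,
we have `|G| < 18 |C(P)|`. -/
theorem card_lt_of_klein (P : Sylow 2 G) (hP : IsKleinFour (P : Subgroup G))
    (hone : ∀ s t : G, orderOf s = 2 → orderOf t = 2 → IsConj s t) {J : G} (hJP : J ∈ (P : Subgroup G))
    (hJ : orderOf J = 2)
    (hCJ : Subgroup.centralizer ({J} : Set G) = Subgroup.centralizer ((P : Subgroup G) : Set G)) :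
    Nat.card G < 18 * Nat.card (Subgroup.centralizer ((P : Subgroup G) : Set G)) := by
  classical
  haveI := Fact.mk Nat.prime_two
  haveI := hP
  obtain ⟨M, hM⟩ := Blocks.exists_isPModular (p := 2) Nat.prime_two
  obtain ⟨ζ₂, ζ₃, ζ₄, ε, hε, hn₂, hn₃, h23, h24, h34, hB, hval, hd₂, hd₃, hd₄, -⟩ :=
    Cfsg.Agent.S0948.result M hM P hP hone
  obtain ⟨v2, v3, v4⟩ := hval J hJ
  have hn₄ : (ζ₄ : G → ℂ) ≠ fun _ => 1 := fun e => by
    rw [e] at v4
    norm_num at v4
  have hP4 : Nat.card (P : Subgroup G) = 4 := IsKleinFour.card_four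
  obtain ⟨g₀, hG⟩ : 4 ∣ Nat.card G := hP4 ▸ (P : Subgroup G).card_subgroup_dvd_card
  have hg₀ : Odd g₀ := by
    by_contra he
    obtain ⟨j, rfl⟩ := even_iff_two_dvd.mp (Nat.not_odd_iff_even.mp he)
    refine P.not_dvd_index ⟨j, ?_⟩
    have := (P : Subgroup G).card_mul_index
    rw [hP4, hG] at this
    omega
  have hnc : ¬ ∃ N : Subgroup G, N.Normal ∧ Nat.card N = g₀ := by
    rintro ⟨N, hN, hNc⟩
    haveI := hN
    have hc : Subgroup.IsComplement' N (P : Subgroup G) := Subgroup.isComplement'_of_coprime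
      (by rw [hNc, hP4, hG, mul_comm]) (by
        rw [hNc, hP4]
        exact (Nat.coprime_two_right.mpr hg₀).pow_right 2)
    have hcard : 2 < Nat.card (P : Subgroup G) := by omega
    have := Fintype.ofFinite G
    have h' : 2 < Fintype.card (P : Subgroup G) := by rwa [← Nat.card_eq_fintype_card]
    obtain ⟨a, b, c, hab, hac, hbc⟩ := Fintype.two_lt_card_iff.mp h'
    obtain ⟨u, w, huw, hu1, hw1⟩ : ∃ u w : (P : Subgroup G), u ≠ w ∧ u ≠ 1 ∧ w ≠ 1 := by
      by_cases ha : a = 1
      · exact ⟨b, c, hbc, fun e => hab (ha.trans e.symm), fun e => hac (ha.trans e.symm)⟩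
      by_cases hb : b = 1
      · exact ⟨a, c, hac, ha, fun e => hbc (hb.trans e.symm)⟩
      exact ⟨a, b, hab, ha, hb⟩
    have ho : ∀ u : (P : Subgroup G), u ≠ 1 → orderOf (u : G) = 2 := fun u hu =>
      orderOf_two_of_mul_self (congrArg Subtype.val (IsKleinFour.mul_self u))
        fun e => hu (Subtype.ext e)
    exact huw (Subtype.ext (klein_eq_of_isConj hP hc u.2 w.2 (hone _ _ (ho u hu1) (ho w hw1))))
  have hform := Cfsg.Agent.S4479.result M hM g₀ hg₀ hG hnc P J hJP hJ ζ₂ ζ₃ ζ₄ 1 ε (-1) hB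
    ⟨hn₂, hn₃, hn₄, h23, h24, h34⟩ ⟨Or.inl rfl, hε, Or.inr rfl⟩
    ⟨by rw [v2]; simp, v3, by rw [v4]; simp⟩
  rw [hCJ] at hform
  have hx₂ := (Blocks.irr_degree_eq ζ₂).2
  have hx₃ := (Blocks.irr_degree_eq ζ₃).2
  have hx₄ := (Blocks.irr_degree_eq ζ₄).2
  have h4le : 3 ≤ Cfsg.charDegree (ζ₄ : G → ℂ) := by omega
  set c : ℚ := ((Nat.card (Subgroup.centralizer ((P : Subgroup G) : Set G)) : ℕ) : ℚ) with hc
  have hc0 : 0 < c := by rw [hc]; exact Nat.cast_pos.mpr Nat.card_pos
  set a : ℚ := ((Cfsg.charDegree (ζ₂ : G → ℂ) : ℕ) : ℚ) with ha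
  set b : ℚ := ((Cfsg.charDegree (ζ₃ : G → ℂ) : ℕ) : ℚ) with hb
  set d : ℚ := ((Cfsg.charDegree (ζ₄ : G → ℂ) : ℕ) : ℚ) with hd
  have ha1 : (1 : ℚ) ≤ a := by rw [ha]; exact_mod_cast hx₂
  have hb0 : (0 : ℚ) < b := by rw [hb]; exact_mod_cast hx₃
  have hd3 : (3 : ℚ) ≤ d := by rw [hd]; exact_mod_cast h4le
  have hbε : 0 < b + ε ∧ b / (b + ε) ≤ 3 / 2 := by
    rcases hε with rfl | rfl
    · push_cast
      exact ⟨by linarith, by rw [div_le_iff₀ (by linarith)]; linarith⟩
    · have h3le : 3 ≤ Cfsg.charDegree (ζ₃ : G → ℂ) := by omega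
      have : (3 : ℚ) ≤ b := by rw [hb]; exact_mod_cast h3le
      push_cast
      exact ⟨by linarith, by rw [div_le_iff₀ (by linarith)]; linarith⟩
  have hrw : (8 * ((a * b * d) / ((a + 1) * (b + ε) * (d + -1))) * c ^ 3 / c ^ 2) =
      8 * (a / (a + 1)) * (b / (b + ε)) * (d / (d + -1)) * c := by
    have h1 : a + 1 ≠ 0 := by positivity
    have h2 := hbε.1.ne'
    have h3 : d + -1 ≠ 0 := by intro h; linarith
    field_simp
  have hq : (Nat.card G : ℚ) < 18 * c := by
    rw [hform]
    push_cast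
    rw [hrw]
    have h1 : a / (a + 1) < 1 := by rw [div_lt_one (by linarith)]; linarith
    have h1' : 0 ≤ a / (a + 1) := by positivity
    have h2' : 0 < b / (b + ε) := div_pos hb0 hbε.1
    have h3 : d / (d + -1) ≤ 3 / 2 := by rw [div_le_iff₀ (by linarith)]; linarith
    have h3' : 0 < d / (d + -1) := div_pos (by linarith) (by linarith)
    have h4 : b / (b + ε) * (d / (d + -1)) ≤ 3 / 2 * (3 / 2) :=
      mul_le_mul hbε.2 h3 h3'.le (by norm_num)
    calc 8 * (a / (a + 1)) * (b / (b + ε)) * (d / (d + -1)) * c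
        = a / (a + 1) * (8 * (b / (b + ε) * (d / (d + -1))) * c) := by ring
      _ < 1 * (8 * (b / (b + ε) * (d / (d + -1))) * c) := by
          refine mul_lt_mul_of_pos_right h1 ?_
          positivity
      _ ≤ 18 * c := by nlinarith
  rw [hc] at hq
  exact_mod_cast hq

/-- In the Klein four case the Sylow normalizer has index at most five and order at least
three times the centralizer. -/
theorem klein_normalizer (P : Sylow 2 G) (hP : IsKleinFour (P : Subgroup G))
    (hnpc : ¬ Cfsg.HasNormalPComplement 2 G) :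
    3 * Nat.card (Subgroup.centralizer ((P : Subgroup G) : Set G)) ≤
      Nat.card (Subgroup.normalizer ((P : Subgroup G) : Set G)) := by
  classical
  haveI := Fact.mk Nat.prime_two
  haveI := hP
  set N := Subgroup.normalizer ((P : Subgroup G) : Set G)
  set C := Subgroup.centralizer ((P : Subgroup G) : Set G)
  have hCN : C ≤ N := Subgroup.centralizer_le_normalizer _
  have hPC : (P : Subgroup G) ≤ C := fun a ha => Subgroup.mem_centralizer_iff.mpr fun b hb =>
    congrArg Subtype.val (IsKleinFour.isMulCommutative.is_comm.comm (⟨b, hb⟩ : (P : Subgroup G)) ⟨a, ha⟩)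
  have h1 : (C.subgroupOf N).index ≠ 1 := fun h => hnpc
    (Transfer.hasNormalPComplement_of_normalizer_le_centralizer P
      (Subgroup.subgroupOf_eq_top.mp (Subgroup.index_eq_one.mp h)))
  have h2 : ¬ 2 ∣ (C.subgroupOf N).index := fun h => P.not_dvd_index (by
    have h3 : C.index ∣ (P : Subgroup G).index := Subgroup.index_dvd_of_le hPC
    refine dvd_trans ?_ h3
    rw [← Subgroup.relIndex_mul_index hCN]
    exact dvd_mul_of_dvd_left h _)
  have h4 := (C.subgroupOf N).card_mul_index
  rw [Nat.card_congr (Subgroup.subgroupOfEquivOfLe hCN).toEquiv] at h4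
  have h5 : 0 < (C.subgroupOf N).index := Nat.pos_of_ne_zero Subgroup.index_ne_zero_of_finite
  calc 3 * Nat.card C ≤ (C.subgroupOf N).index * Nat.card C := Nat.mul_le_mul_right _ (by omega)
    _ = Nat.card N := by rw [mul_comm]; exact h4

/-- A subgroup of index two of `Perm (Fin 5)`, presented by a faithful action. -/
theorem equiv_alternating_five {α : Type*} [MulAction G α] [FaithfulSMul G α] [Finite α]
    (hα : Nat.card α = 5) (hG : Nat.card G = 60) : Nonempty (G ≃* ↥(alternatingGroup (Fin 5))) := by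
  classical
  let e : α ≃ Fin 5 := (Finite.equivFin α).trans (finCongr hα)
  let f : G →* Equiv.Perm (Fin 5) := e.permCongrHom.toMonoidHom.comp (MulAction.toPermHom G α)
  have hf : Function.Injective f := e.permCongrHom.injective.comp MulAction.toPerm_injective
  have hidx : f.range.index = 2 := by
    have h := f.range.card_mul_index
    rw [← Nat.card_congr (MonoidHom.ofInjective hf).toEquiv, hG, Nat.card_perm, Nat.card_fin,
      show (5 : ℕ).factorial = 120 from rfl] at h
    omega
  exact ⟨(MonoidHom.ofInjective hf).trans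
    (MulEquiv.subgroupCongr (Equiv.Perm.eq_alternatingGroup_of_index_eq_two hidx))⟩

end CfsgLib.Invol
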