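import Cfsg.Agent.Lib.Invol.StronglyEmbedded

/-!
# Groups in which the centralizer of every involution is an elementary abelian 2-group

`T` is a Sylow 2-subgroup, `H` its normalizer, `twoPt T g = H ∩ gHg⁻¹`.
-/

set_option autoImplicit false

namespace CfsgLib.Invol.ElemCent

/-- The hypotheses of the section. -/
structure Hyp {G : Type*} [Group G] (T : Sylow 2 G) : Prop where
  noncyclic : ¬ IsCyclic (T : Subgroup G)
  nonnormal : ¬ (T : Subgroup G).Normal
  cent : ∀ t : G, orderOf t = 2 → IsMulCommutative (Subgroup.centralizer ({t} : Set G)) ∧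
    ∀ c ∈ Subgroup.centralizer ({t} : Set G), c ^ 2 = 1

variable {G : Type*} [Group G] {T : Sylow 2 G}

/-- The normalizer of `T`. -/
abbrev borel (T : Sylow 2 G) : Subgroup G := Subgroup.normalizer ((T : Subgroup G) : Set G)

/-- The stabilizer of the two cosets `H` and `gH`. -/
abbrev twoPt (T : Sylow 2 G) (g : G) : Subgroup G :=
  borel T ⊓ (borel T).map (MulAut.conj g).toMonoidHom

/-- The coset `H`. -/
abbrev base (T : Sylow 2 G) : G ⧸ borel T := QuotientGroup.mk (1 : G)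

theorem le_borel (T : Sylow 2 G) : (T : Subgroup G) ≤ borel T := Subgroup.le_normalizer

theorem smul_base_eq_iff {g h : G} : g • base T = h • base T ↔ g⁻¹ * h ∈ borel T := by
  show (QuotientGroup.mk (g * 1) : G ⧸ borel T) = QuotientGroup.mk (h * 1) ↔ _
  rw [mul_one, mul_one, QuotientGroup.eq]

theorem smul_base (g : G) : g • base T = (QuotientGroup.mk g : G ⧸ borel T) := by
  show (QuotientGroup.mk (g * 1) : G ⧸ borel T) = _
  rw [mul_one]

theorem smul_base_self_iff {g : G} : g • base T = base T ↔ g ∈ borel T := by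
  conv_lhs => rhs; rw [← one_smul G (base T)]
  rw [smul_base_eq_iff, mul_one, inv_mem_iff]

theorem fix_smul_base_iff {d g : G} : d • g • base T = g • base T ↔ g⁻¹ * d * g ∈ borel T := by
  rw [← mul_smul, eq_comm, smul_base_eq_iff, mul_assoc]

theorem mem_twoPt_iff {d g : G} : d ∈ twoPt T g ↔ d ∈ borel T ∧ d • g • base T = g • base T := by
  rw [fix_smul_base_iff, twoPt, Subgroup.mem_inf, Subgroup.mem_map_equiv, MulAut.conj_symm_apply]

variable [Finite G]

section Basic

variable (hT : Hyp T)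
include hT

theorem comm_and_exp : (∀ a ∈ T, ∀ b ∈ T, a * b = b * a) ∧ ∀ a ∈ T, a * a = 1 := by
  haveI : Fact (Nat.Prime 2) := ⟨Nat.prime_two⟩
  haveI : Nontrivial (T : Subgroup G) := by
    by_contra h
    rw [not_nontrivial_iff_subsingleton] at h
    exact hT.noncyclic isCyclic_of_subsingleton
  haveI := T.2.center_nontrivial
  obtain ⟨z, hz⟩ := exists_prime_orderOf_dvd_card' (G := Subgroup.center (T : Subgroup G)) 2
    (by
      obtain ⟨n, hn⟩ := IsPGroup.iff_card.mp (T.2.to_subgroup (Subgroup.center (T : Subgroup G)))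
      rw [hn]
      refine dvd_pow_self 2 fun h0 => ?_
      rw [h0, pow_zero] at hn
      exact (Finite.one_lt_card (α := Subgroup.center (T : Subgroup G))).ne' hn)
  have hz2 : orderOf ((z : (T : Subgroup G)) : G) = 2 := by
    rw [Subgroup.orderOf_coe, Subgroup.orderOf_coe, hz]
  obtain ⟨hc, he⟩ := hT.cent _ hz2
  have hle : ∀ a ∈ T, a ∈ Subgroup.centralizer ({((z : (T : Subgroup G)) : G)} : Set G) :=
    fun a ha => Subgroup.mem_centralizer_singleton_iff.mpr
      (congrArg Subtype.val (Subgroup.mem_center_iff.mp z.2 ⟨a, ha⟩))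
  refine ⟨fun a ha b hb => congrArg Subtype.val (hc.is_comm.comm ⟨a, hle a ha⟩ ⟨b, hle b hb⟩),
    fun a ha => ?_⟩
  rw [← pow_two]
  exact he a (hle a ha)

theorem comm {a b : G} (ha : a ∈ T) (hb : b ∈ T) : a * b = b * a :=
  (comm_and_exp hT).1 a ha b hb

theorem mul_self {a : G} (ha : a ∈ T) : a * a = 1 := (comm_and_exp hT).2 a ha

theorem orderOf_two {a : G} (ha : a ∈ T) (h1 : a ≠ 1) : orderOf a = 2 :=
  orderOf_two_of_mul_self (mul_self hT ha) h1

theorem centralizer_eq {t : G} (ht : t ∈ T) (h1 : t ≠ 1) :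
    Subgroup.centralizer ({t} : Set G) = (T : Subgroup G) := by
  haveI : Fact (Nat.Prime 2) := ⟨Nat.prime_two⟩
  refine T.3 ?_ fun a ha => Subgroup.mem_centralizer_singleton_iff.mpr (comm hT ha ht)
  intro c
  exact ⟨1, Subtype.ext (by
    rw [SubmonoidClass.coe_pow, pow_one]
    exact (hT.cent t (orderOf_two hT ht h1)).2 c c.2)⟩

theorem mem_of_commute {c t : G} (ht : t ∈ T) (h1 : t ≠ 1) (h : c * t = t * c) : c ∈ T := by
  show c ∈ (T : Subgroup G)
  rw [← centralizer_eq hT ht h1]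
  exact Subgroup.mem_centralizer_singleton_iff.mpr h

theorem mem_borel_of_conj {g t : G} (ht : t ∈ T) (h1 : t ≠ 1) (hg : g * t * g⁻¹ ∈ T) :
    g ∈ borel T := by
  rw [Subgroup.mem_normalizer_iff]
  have h1' : g * t * g⁻¹ ≠ 1 := fun h => h1 (by simpa using h)
  intro a
  constructor
  · intro ha
    refine mem_of_commute hT hg h1' ?_
    calc g * a * g⁻¹ * (g * t * g⁻¹) = g * (a * t) * g⁻¹ := by group
      _ = g * (t * a) * g⁻¹ := by rw [comm hT ha ht]
      _ = g * t * g⁻¹ * (g * a * g⁻¹) := by group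
  · intro ha
    refine mem_of_commute hT ht h1 (mul_left_cancel (a := g) (mul_right_cancel (b := g⁻¹) ?_))
    calc g * (a * t) * g⁻¹ = g * a * g⁻¹ * (g * t * g⁻¹) := by group
      _ = g * t * g⁻¹ * (g * a * g⁻¹) := comm hT ha hg
      _ = g * (t * a) * g⁻¹ := by group

omit hT in
theorem invol_mem {s : G} (hs : orderOf s = 2) (hsH : s ∈ borel T) : s ∈ T := by
  haveI : Fact (Nat.Prime 2) := ⟨Nat.prime_two⟩
  have hp : IsPGroup 2 (Subgroup.zpowers s) :=
    IsPGroup.of_card (n := 1) (by rw [Nat.card_zpowers, hs, pow_one])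
  have h := hp.inf_normalizer_sylow T
  exact (Subgroup.mem_inf.mp (h.le (Subgroup.mem_inf.mpr ⟨Subgroup.mem_zpowers s, hsH⟩))).2

theorem four_le : 4 ≤ Nat.card T := by
  haveI : Fact (Nat.Prime 2) := ⟨Nat.prime_two⟩
  obtain ⟨n, hn⟩ := IsPGroup.iff_card.mp T.2
  rcases n with _ | _ | n
  · haveI : Subsingleton (T : Subgroup G) := (Nat.card_eq_one_iff_unique.mp hn).1
    exact absurd isCyclic_of_subsingleton hT.noncyclic
  · exact absurd (isCyclic_of_prime_card hn) hT.noncyclic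
  · show 4 ≤ Nat.card (T : Subgroup G)
    rw [hn, pow_succ, pow_succ]
    have := Nat.one_le_two_pow (n := n)
    omega

theorem strong : Cfsg.IsStronglyEmbedded (borel T) := by
  haveI : Fact (Nat.Prime 2) := ⟨Nat.prime_two⟩
  refine ⟨fun h => hT.nonnormal (Subgroup.normalizer_eq_top_iff.mp h), ?_, fun g hg => ?_⟩
  · rw [even_iff_two_dvd]
    refine dvd_trans ?_ (Subgroup.card_dvd_of_le (le_borel T))
    obtain ⟨n, hn⟩ := IsPGroup.iff_card.mp T.2
    rw [hn]
    refine dvd_pow_self 2 fun h0 => ?_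
    have h4 : 4 ≤ Nat.card (T : Subgroup G) := four_le hT
    rw [hn, h0] at h4
    omega
  · by_contra hodd
    rw [Nat.not_odd_iff_even, even_iff_two_dvd] at hodd
    obtain ⟨s, hs⟩ := exists_prime_orderOf_dvd_card' (G := ↥(twoPt T g)) 2 hodd
    have hs2 : orderOf (s : G) = 2 := (Subgroup.orderOf_coe s).trans hs
    obtain ⟨hsH, x, hxH, hx⟩ := Subgroup.mem_inf.mp s.2
    rw [MulEquiv.coe_toMonoidHom, MulAut.conj_apply] at hx
    have hx2 : orderOf x = 2 := by
      have := conj_orderOf_two hs2 g⁻¹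
      rwa [← hx, inv_inv, show g⁻¹ * (g * x * g⁻¹) * g = x by group] at this
    exact hg (mem_borel_of_conj hT (invol_mem hx2 hxH) (ne_one_of_orderOf_two hx2)
      (hx ▸ invol_mem hs2 hsH))

theorem odd_orderOf_twoPt {d g : G} (hg : g ∉ borel T) (hd : d ∈ twoPt T g) :
    Odd (orderOf d) :=
  Odd.of_dvd_nat ((strong hT).2.2 g hg)
    ((Subgroup.orderOf_coe (⟨d, hd⟩ : twoPt T g)).symm ▸ orderOf_dvd_natCard (⟨d, hd⟩ : twoPt T g))

theorem twoPt_inter {d g : G} (hg : g ∉ borel T) (hd : d ∈ twoPt T g) (hdT : d ∈ T) : d = 1 :=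
  eq_one_of_odd_of_sq (odd_orderOf_twoPt hT hg hd) (mul_self hT hdT)

omit [Finite G] hT in
theorem conj_mem_sylow {h t : G} (hh : h ∈ borel T) (ht : t ∈ T) : h * t * h⁻¹ ∈ T :=
  (Subgroup.mem_normalizer_iff.mp hh t).mp ht

omit [Finite G] hT in
theorem conj_ne_one {h t : G} (h1 : t ≠ 1) : h * t * h⁻¹ ≠ 1 := fun h' => h1 (by simpa using h')

theorem card_invol_borel :
    Nat.card {t : G // orderOf t = 2 ∧ t ∈ borel T} = Nat.card T - 1 := by
  classical
  have := Fintype.ofFinite G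
  rw [Nat.card_congr (Equiv.subtypeEquivRight (p := fun t : G => orderOf t = 2 ∧ t ∈ borel T)
    (q := fun t : G => t ∈ T ∧ t ≠ 1) fun t => ⟨fun h => ⟨invol_mem h.1 h.2,
      ne_one_of_orderOf_two h.1⟩, fun h => ⟨orderOf_two hT h.1 h.2, le_borel T h.1⟩⟩)]
  rw [Nat.card_congr ((Equiv.subtypeSubtypeEquivSubtypeInter (fun t : G => t ∈ T)
    (fun t => t ≠ 1)).symm.trans (Equiv.subtypeEquivRight (q := fun t : T => t ≠ 1) fun t => by
      simp)), Nat.card_eq_fintype_card, Nat.card_eq_fintype_card, Fintype.card_subtype_compl]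
  simp
  rfl

end Basic

section Swapper

variable (hT : Hyp T) {u : G} (hu : orderOf u = 2) (huH : u ∉ borel T)
include hT hu huH

theorem twoPt_trans {s t : G} (hs : s ∈ T) (hs1 : s ≠ 1) (ht : t ∈ T) (ht1 : t ≠ 1) :
    ∃ d ∈ twoPt T u, d * s * d⁻¹ = t :=
  strongly_inter_transitive (strong hT) hu huH (orderOf_two hT hs hs1) (le_borel T hs)
    (orderOf_two hT ht ht1) (le_borel T ht)

theorem twoPt_conj_inj {d e s : G} (hd : d ∈ twoPt T u) (he : e ∈ twoPt T u) (hs : s ∈ T)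
    (hs1 : s ≠ 1) (h : d * s * d⁻¹ = e * s * e⁻¹) : d = e := by
  have hc : e⁻¹ * d * s = s * (e⁻¹ * d) :=
    calc e⁻¹ * d * s = e⁻¹ * (d * s * d⁻¹) * d := by group
      _ = e⁻¹ * (e * s * e⁻¹) * d := by rw [h]
      _ = s * (e⁻¹ * d) := by group
  have := twoPt_inter hT huH (mul_mem (inv_mem he) hd) (mem_of_commute hT hs hs1 hc)
  exact (inv_mul_eq_one.mp this).symm

theorem card_twoPt : Nat.card (twoPt T u) = Nat.card T - 1 := by
  classical
  have := Fintype.ofFinite G
  obtain ⟨s, hs1⟩ : ∃ s : (T : Subgroup G), s ≠ 1 := by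
    by_contra h
    push Not at h
    have h4 : 4 ≤ Nat.card (T : Subgroup G) := four_le hT
    have : Nat.card (T : Subgroup G) ≤ 1 :=
      (Nat.card_le_card_of_surjective (fun _ : Unit => (1 : (T : Subgroup G)))
        fun x => ⟨(), (h x).symm⟩).trans (by simp)
    omega
  have hs1' : (s : G) ≠ 1 := fun h => hs1 (Subtype.ext h)
  have hbij : Function.Bijective fun d : twoPt T u =>
      (⟨⟨(d : G) * s * (d : G)⁻¹, conj_mem_sylow (Subgroup.mem_inf.mp d.2).1 s.2⟩,
        fun h => conj_ne_one hs1' (congrArg Subtype.val h)⟩ : {t : (T : Subgroup G) // t ≠ 1}) := by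
    refine ⟨fun d e h => Subtype.ext (twoPt_conj_inj hT hu huH d.2 e.2 s.2 hs1'
      (congrArg (fun t : {t : (T : Subgroup G) // t ≠ 1} => ((t.1 : (T : Subgroup G)) : G)) h)),
      fun t => ?_⟩
    obtain ⟨d, hd, h⟩ := twoPt_trans hT hu huH s.2 hs1' t.1.2
      (fun h => t.2 (Subtype.ext h))
    exact ⟨⟨d, hd⟩, Subtype.ext (Subtype.ext h)⟩
  rw [Nat.card_eq_of_bijective _ hbij, Nat.card_eq_fintype_card, Fintype.card_subtype_compl]
  simp [Nat.card_eq_fintype_card]

theorem exists_ne_one_twoPt : ∃ d ∈ twoPt T u, d ≠ 1 := by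
  by_contra h
  push Not at h
  have h4 := four_le hT
  have h2 := card_twoPt hT hu huH
  rw [(Subgroup.eq_bot_iff_forall _).mpr h, Subgroup.card_bot] at h2
  omega

theorem decomp {h : G} (hh : h ∈ borel T) : ∃ t ∈ T, ∃ d ∈ twoPt T u, h = t * d := by
  obtain ⟨s, hs, hs1⟩ : ∃ s ∈ T, s ≠ 1 := by
    obtain ⟨s, hsH, hs2⟩ := strongly_exists_invol (strong hT)
    exact ⟨s, invol_mem hs2 hsH, ne_one_of_orderOf_two hs2⟩
  obtain ⟨d, hd, hds⟩ := twoPt_trans hT hu huH hs hs1 (conj_mem_sylow hh hs) (conj_ne_one hs1)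
  refine ⟨h * d⁻¹, ?_, d, hd, by group⟩
  refine mem_of_commute hT (conj_mem_sylow (Subgroup.mem_inf.mp hd).1 hs) (conj_ne_one hs1) ?_
  calc h * d⁻¹ * (d * s * d⁻¹) = h * s * h⁻¹ * (h * d⁻¹) := by group
    _ = d * s * d⁻¹ * (h * d⁻¹) := by rw [hds]

theorem decomp_unique {t t' d d' : G} (ht : t ∈ T) (ht' : t' ∈ T) (hd : d ∈ twoPt T u)
    (hd' : d' ∈ twoPt T u) (h : t * d = t' * d') : t = t' ∧ d = d' := by
  have e : t'⁻¹ * t = d' * d⁻¹ :=
    calc t'⁻¹ * t = t'⁻¹ * (t * d) * d⁻¹ := by group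
      _ = t'⁻¹ * (t' * d') * d⁻¹ := by rw [h]
      _ = d' * d⁻¹ := by group
  have h1 := twoPt_inter hT huH (mul_mem hd' (inv_mem hd)) (e ▸ mul_mem (inv_mem ht') ht)
  exact ⟨(inv_mul_eq_one.mp (e.trans h1)).symm, (mul_inv_eq_one.mp h1).symm⟩

theorem card_borel : Nat.card (borel T) = Nat.card T * (Nat.card T - 1) := by
  rw [← card_twoPt hT hu huH, ← Nat.card_prod]
  refine (Nat.card_eq_of_bijective (fun p : T × twoPt T u =>
    (⟨(p.1 : G) * p.2, mul_mem (le_borel T p.1.2) (Subgroup.mem_inf.mp p.2.2).1⟩ : borel T))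
    ⟨fun p q h => ?_, fun h => ?_⟩).symm
  · obtain ⟨h1, h2⟩ := decomp_unique hT hu huH p.1.2 q.1.2 p.2.2 q.2.2 (congrArg Subtype.val h)
    exact Prod.ext (Subtype.ext h1) (Subtype.ext h2)
  · obtain ⟨t, ht, d, hd, e⟩ := decomp hT hu huH h.2
    exact ⟨(⟨t, ht⟩, ⟨d, hd⟩), Subtype.ext e.symm⟩

theorem isComplement : Subgroup.IsComplement' ((twoPt T u).subgroupOf (borel T))
    ((T : Subgroup G).subgroupOf (borel T)) := by
  refine Subgroup.isComplement'_of_disjoint_and_mul_eq_univ ?_ (Set.eq_univ_of_forall fun h => ?_)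
  · rw [disjoint_iff, Subgroup.eq_bot_iff_forall]
    intro x hx
    exact Subtype.ext (twoPt_inter hT huH hx.1 hx.2)
  · obtain ⟨t, ht, d, hd, e⟩ := decomp hT hu huH (inv_mem h.2)
    refine ⟨⟨d⁻¹, inv_mem (Subgroup.mem_inf.mp hd).1⟩, inv_mem hd,
      ⟨t⁻¹, inv_mem (le_borel T ht)⟩, (T : Subgroup G).inv_mem ht, Subtype.ext ?_⟩
    show d⁻¹ * t⁻¹ = (h : G)
    rw [← mul_inv_rev, ← e, inv_inv]

theorem inverts {d : G} (hd : d ∈ twoPt T u) : u * d * u⁻¹ = d⁻¹ := by
  have hui := inv_of_orderOf_two hu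
  have huu := mul_self_of_orderOf_two hu
  have hne : base T ≠ u • base T := fun h => huH (smul_base_self_iff.mp h.symm)
  have hcard := strongly_card_swappers (strong hT) (base T) (u • base T) hne
  have hinv : ∀ i : {i : G // orderOf i = 2 ∧ i • base T = u • base T},
      u⁻¹ * i.1 ∈ twoPt T u := by
    rintro ⟨i, hi2, hi⟩
    have hH : u⁻¹ * i ∈ borel T := smul_base_eq_iff.mp hi.symm
    refine mem_twoPt_iff.mpr ⟨hH, ?_⟩
    rw [fix_smul_base_iff,
      show u⁻¹ * (u⁻¹ * i) * u = (u⁻¹ * i)⁻¹ by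
        rw [mul_inv_rev, inv_inv, inv_of_orderOf_two hi2, hui, ← mul_assoc, huu, one_mul]]
    exact inv_mem hH
  have hbij : Function.Bijective
      (fun i : {i : G // orderOf i = 2 ∧ i • base T = u • base T} =>
        (⟨u⁻¹ * i.1, hinv i⟩ : twoPt T u)) := by
    refine (Nat.bijective_iff_injective_and_card _).mpr
      ⟨fun i j h => Subtype.ext (mul_left_cancel (congrArg Subtype.val h)), ?_⟩
    rw [hcard, card_twoPt hT hu huH, card_invol_borel hT]
  obtain ⟨⟨i, hi2, _⟩, hid'⟩ := hbij.surjective ⟨d, hd⟩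
  have hid : u⁻¹ * i = d := congrArg Subtype.val hid'
  have h1 : i = u * d := by rw [← hid, mul_inv_cancel_left]
  have h2 := mul_self_of_orderOf_two hi2
  rw [h1] at h2
  rw [hui]
  exact mul_eq_one_iff_eq_inv.mp (by rw [← h2]; group)

theorem twoPt_comm {d e : G} (hd : d ∈ twoPt T u) (he : e ∈ twoPt T u) : d * e = e * d := by
  have h := inverts hT hu huH (mul_mem hd he)
  rw [show u * (d * e) * u⁻¹ = (u * d * u⁻¹) * (u * e * u⁻¹) by group, inverts hT hu huH hd,
    inverts hT hu huH he, ← mul_inv_rev, inv_inj] at h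
  exact h.symm

/-- No element of `H` inverts a nontrivial element of `twoPt T u`. -/
theorem not_inverted {h d : G} (hh : h ∈ borel T) (hd : d ∈ twoPt T u) (hd1 : d ≠ 1) :
    h * d * h⁻¹ ≠ d⁻¹ := by
  intro hhd
  obtain ⟨t, ht, e, he, rfl⟩ := decomp hT hu huH hh
  have h1 : t * d * t⁻¹ = d⁻¹ := by
    rw [← hhd, show t * e * d * (t * e)⁻¹ = t * (e * d * e⁻¹) * t⁻¹ by group,
      twoPt_comm hT hu huH he hd, mul_inv_cancel_right]
  have h2 : d⁻¹ * d⁻¹ ∈ T := by
    nth_rw 1 [← h1]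
    rw [show t * d * t⁻¹ * d⁻¹ = t * (d * t⁻¹ * d⁻¹) by group]
    exact mul_mem ht (conj_mem_sylow (Subgroup.mem_inf.mp hd).1 (inv_mem ht))
  have h3 := twoPt_inter hT huH (mul_mem (inv_mem hd) (inv_mem hd)) h2
  rw [← mul_inv_rev, inv_eq_one] at h3
  exact hd1 (eq_one_of_odd_of_sq (odd_orderOf_twoPt hT huH hd) h3)

theorem mem_of_commute_borel {h d : G} (hh : h ∈ borel T) (hd : d ∈ twoPt T u) (hd1 : d ≠ 1)
    (hc : h * d = d * h) : h ∈ twoPt T u := by
  obtain ⟨t, ht, e, he, rfl⟩ := decomp hT hu huH hh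
  suffices t = 1 by rwa [this, one_mul]
  by_contra ht1
  refine hd1 (twoPt_inter hT huH hd (mem_of_commute hT ht ht1 ?_))
  refine mul_right_cancel (b := e) ?_
  calc d * t * e = d * (t * e) := mul_assoc _ _ _
    _ = t * e * d := hc.symm
    _ = t * d * e := by rw [mul_assoc, twoPt_comm hT hu huH he hd, mul_assoc]

end Swapper

section Action

variable (hT : Hyp T)
include hT

theorem exists_swapper {x : G ⧸ borel T} (hx : x ≠ base T) :
    ∃ w : G, orderOf w = 2 ∧ w ∉ borel T ∧ w • base T = x := by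
  have h := strongly_card_swappers (strong hT) (base T) x hx.symm
  obtain ⟨s, hsH, hs⟩ := strongly_exists_invol (strong hT)
  haveI : Nonempty {t : G // orderOf t = 2 ∧ t ∈ borel T} := ⟨⟨s, hs, hsH⟩⟩
  have hpos : 0 < Nat.card {i : G // orderOf i = 2 ∧ i • base T = x} := h ▸ Nat.card_pos
  obtain ⟨⟨w, hw2, hw⟩⟩ := (Nat.card_pos_iff.mp hpos).1
  exact ⟨w, hw2, fun hH => hx (hw.symm.trans (smul_base_self_iff.mpr hH)), hw⟩

variable {u : G} (hu : orderOf u = 2) (huH : u ∉ borel T)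
include hu huH

theorem inverter_of_fixed {d : G} (hd : d ∈ twoPt T u) {x : G ⧸ borel T} (hx : x ≠ base T)
    (hfix : d • x = x) : ∃ w : G, w • base T = x ∧ w * d * w⁻¹ = d⁻¹ := by
  obtain ⟨w, hw2, hwH, hw⟩ := exists_swapper hT hx
  exact ⟨w, hw, inverts hT hw2 hwH (mem_twoPt_iff.mpr ⟨(Subgroup.mem_inf.mp hd).1, hw.symm ▸ hfix⟩)⟩

theorem mem_of_commute_twoPt {a d : G} (hd : d ∈ twoPt T u) (hd1 : d ≠ 1) (hc : a * d = d * a) :
    a ∈ twoPt T u := by
  by_contra ha
  have haH : a ∉ borel T := fun h => ha (mem_of_commute_borel hT hu huH h hd hd1 hc)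
  have hfix : d • a • base T = a • base T := by
    rw [fix_smul_base_iff, mul_assoc, ← hc, inv_mul_cancel_left]
    exact (Subgroup.mem_inf.mp hd).1
  obtain ⟨w, hw, hinv⟩ := inverter_of_fixed hT hu huH hd
    (fun h => haH (smul_base_self_iff.mp h)) hfix
  refine not_inverted hT hu huH (smul_base_eq_iff.mp hw.symm) hd hd1 ?_
  calc a⁻¹ * w * d * (a⁻¹ * w)⁻¹ = a⁻¹ * (w * d * w⁻¹) * a := by group
    _ = a⁻¹ * d⁻¹ * a := by rw [hinv]
    _ = (a⁻¹ * (d * a))⁻¹ := by group
    _ = d⁻¹ := by rw [← hc, inv_mul_cancel_left]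

theorem eq_of_fixed {d : G} (hd : d ∈ twoPt T u) (hd1 : d ≠ 1) {x : G ⧸ borel T}
    (hfix : d • x = x) : x = base T ∨ x = u • base T := by
  by_cases hx : x = base T
  · exact Or.inl hx
  right
  obtain ⟨w, hw, hinv⟩ := inverter_of_fixed hT hu huH hd hx hfix
  have hm : u * w ∈ twoPt T u := by
    refine mem_of_commute_twoPt hT hu huH hd hd1 ?_
    have : u * w * d * (u * w)⁻¹ = d := by
      rw [show u * w * d * (u * w)⁻¹ = u * (w * d * w⁻¹) * u⁻¹ by group, hinv, ← conj_inv,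
        inverts hT hu huH hd, inv_inv]
    exact mul_inv_eq_iff_eq_mul.mp this
  rw [← hw, smul_base_eq_iff]
  have := inv_mem (Subgroup.mem_inf.mp hm).1
  rwa [mul_inv_rev, inv_of_orderOf_two hu] at this

theorem normalizer_twoPt :
    Subgroup.normalizer (twoPt T u : Set G) = twoPt T u ⊔ Subgroup.zpowers u := by
  have huN : u ∈ Subgroup.normalizer (twoPt T u : Set G) := by
    rw [Subgroup.mem_normalizer_iff]
    refine fun h => ⟨fun hh => (inverts hT hu huH hh).symm ▸ inv_mem hh, fun hh => ?_⟩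
    have h2 := inverts hT hu huH hh
    rw [show u * (u * h * u⁻¹) * u⁻¹ = (u * u) * h * (u * u)⁻¹ by group,
      mul_self_of_orderOf_two hu] at h2
    simp only [one_mul, inv_one, mul_one] at h2
    rw [h2]
    exact inv_mem hh
  refine le_antisymm (fun g hg => ?_) (sup_le Subgroup.le_normalizer (Subgroup.zpowers_le.mpr huN))
  obtain ⟨d, hd, hd1⟩ := exists_ne_one_twoPt hT hu huH
  have hsmall : ∀ g ∈ Subgroup.normalizer (twoPt T u : Set G), g ∈ borel T → g ∈ twoPt T u := by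
    intro g hg hgH
    obtain ⟨t, ht, e, he, rfl⟩ := decomp hT hu huH hgH
    have htN : t ∈ Subgroup.normalizer (twoPt T u : Set G) := by
      have := mul_mem hg (inv_mem (Subgroup.le_normalizer he))
      rwa [mul_inv_cancel_right] at this
    have h1 : t * d * t⁻¹ * d⁻¹ = 1 := by
      refine twoPt_inter hT huH (mul_mem ((Subgroup.mem_normalizer_iff.mp htN d).mp hd) (inv_mem hd)) ?_
      rw [show t * d * t⁻¹ * d⁻¹ = t * (d * t⁻¹ * d⁻¹) by group]
      exact mul_mem ht (conj_mem_sylow (Subgroup.mem_inf.mp hd).1 (inv_mem ht))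
    have htD := mem_of_commute_borel hT hu huH (le_borel T ht) hd hd1
      (mul_inv_eq_iff_eq_mul.mp (mul_inv_eq_one.mp h1))
    exact mul_mem htD he
  have hfix : d • g • base T = g • base T := by
    rw [fix_smul_base_iff]
    have h := (Subgroup.mem_inf.mp ((Subgroup.mem_normalizer_iff.mp (inv_mem hg) d).mp hd)).1
    rwa [inv_inv] at h
  rcases eq_of_fixed hT hu huH hd hd1 hfix with h | h
  · exact Subgroup.mem_sup_left (hsmall g hg (smul_base_self_iff.mp h))
  · have := hsmall (u⁻¹ * g) (mul_mem (inv_mem huN) hg) (smul_base_eq_iff.mp h.symm)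
    rw [← mul_inv_cancel_left u g]
    exact mul_mem (Subgroup.mem_sup_right (Subgroup.mem_zpowers u)) (Subgroup.mem_sup_left this)

end Action

section Triple

variable (hT : Hyp T)
include hT

theorem eq_one_of_three {g : G} {x₁ x₂ x₃ : G ⧸ borel T} (h12 : x₁ ≠ x₂) (h13 : x₁ ≠ x₃)
    (h23 : x₂ ≠ x₃) (h1 : g • x₁ = x₁) (h2 : g • x₂ = x₂) (h3 : g • x₃ = x₃) : g = 1 := by
  obtain ⟨a, rfl⟩ := QuotientGroup.mk_surjective x₁
  rw [← smul_base] at h12 h13 h1
  have ht : ∀ y : G ⧸ borel T, g • y = y → (a⁻¹ * g * a) • a⁻¹ • y = a⁻¹ • y := fun y hy => by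
    rw [← mul_smul, mul_inv_cancel_right, mul_smul, hy]
  have h0 := ht _ h1
  rw [inv_smul_smul] at h0
  have hne2 : a⁻¹ • x₂ ≠ base T := fun h => h12 (by rw [← h, smul_inv_smul])
  have hne3 : a⁻¹ • x₃ ≠ base T := fun h => h13 (by rw [← h, smul_inv_smul])
  obtain ⟨w, hw2, hwH, hw⟩ := exists_swapper hT hne2
  have hd : a⁻¹ * g * a ∈ twoPt T w :=
    mem_twoPt_iff.mpr ⟨smul_base_self_iff.mp h0, hw.symm ▸ ht _ h2⟩
  by_contra hg
  rcases eq_of_fixed hT hw2 hwH hd (fun h => hg (by simpa [mul_assoc, mul_eq_one_iff_eq_inv, inv_mul_eq_one, eq_comm] using h))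
    (ht _ h3) with h | h
  · exact hne3 h
  · exact h23 (smul_left_cancel a⁻¹ (hw.symm.trans h.symm))

theorem sylow_semiregular {t : G} (ht : t ∈ T) {x : G ⧸ borel T} (hx : x ≠ base T)
    (hfix : t • x = x) : t = 1 := by
  obtain ⟨g, rfl⟩ := QuotientGroup.mk_surjective x
  rw [← smul_base] at hx hfix
  exact twoPt_inter hT (fun h => hx (smul_base_self_iff.mpr h))
    (mem_twoPt_iff.mpr ⟨le_borel T ht, hfix⟩) ht

theorem card_outer : Nat.card {x : G ⧸ borel T // x ≠ base T} = Nat.card T := by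
  classical
  obtain ⟨u, hu, huH⟩ := strongly_exists_invol_not_mem (strong hT)
  have hne : u • base T ≠ base T := fun h => huH (smul_base_self_iff.mp h)
  set X := {x : G ⧸ borel T // x ≠ base T}
  refine le_antisymm ?_ (Nat.card_le_card_of_injective
    (fun t : T => (⟨(t : G) • u • base T, fun h => hne (by
      rw [← inv_smul_smul (t : G) (u • base T), h]
      exact smul_base_self_iff.mpr (inv_mem (le_borel T t.2)))⟩ : X)) fun t t' h => ?_)
  · -- the stabilizers of two points meet trivially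
    let S : X → Type _ := fun x => {h : G // h ∈ borel T ∧ h • x.1 = x.1 ∧ h ≠ 1}
    have hS : ∀ x : X, Nat.card (S x) = Nat.card T - 2 := by
      intro x
      obtain ⟨w, hw2, hwH, hw⟩ := exists_swapper hT x.2
      have := Fintype.ofFinite G
      rw [← show Nat.card (twoPt T w) - 1 = Nat.card T - 2 by rw [card_twoPt hT hw2 hwH]; omega,
        Nat.card_congr ((Equiv.subtypeEquivRight (q := fun h => h ∈ twoPt T w ∧ h ≠ 1) fun h => by
          rw [mem_twoPt_iff, hw, and_assoc]).trans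
          (Equiv.subtypeSubtypeEquivSubtypeInter (fun h => h ∈ twoPt T w) (fun h => h ≠ 1)).symm),
        Nat.card_eq_fintype_card, Nat.card_eq_fintype_card,
        Fintype.card_congr (Equiv.subtypeEquivRight (q := fun h : twoPt T w => h ≠ 1)
          fun h => by simp),
        Fintype.card_subtype_compl]
      simp
    let f : (Σ x : X, S x) → {h : borel T // (h : G) ∉ T} := fun p =>
      ⟨⟨p.2.1, p.2.2.1⟩, fun hT' => p.2.2.2.2 (sylow_semiregular hT hT' p.1.2 p.2.2.2.1)⟩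
    have hf : Function.Injective f := by
      rintro ⟨⟨x, hx⟩, h, hh, hhx, hh1⟩ ⟨⟨y, hy⟩, h', hh', hhy, hh1'⟩ e
      obtain rfl : h = h' := congrArg (fun z : {h : borel T // (h : G) ∉ T} => (z.1 : G)) e
      obtain rfl : x = y := by
        by_contra hxy
        exact hh1 (eq_one_of_three hT hx.symm hy.symm hxy (smul_base_self_iff.mpr hh) hhx hhy)
      rfl
    have hle := Nat.card_le_card_of_injective f hf
    have := Fintype.ofFinite G
    rw [Nat.card_sigma, Finset.sum_congr rfl fun x _ => hS x, Finset.sum_const, Finset.card_univ,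
      ← Nat.card_eq_fintype_card, smul_eq_mul] at hle
    have hcompl : Nat.card {h : borel T // (h : G) ∉ T} = Nat.card T * (Nat.card T - 2) := by
      rw [Nat.card_eq_fintype_card (α := {h : borel T // (h : G) ∉ T}), Fintype.card_subtype_compl,
        ← Nat.card_eq_fintype_card, card_borel hT hu huH,
        ← Nat.card_eq_fintype_card (α := {h : borel T // (h : G) ∈ T}),
        show Nat.card {h : borel T // (h : G) ∈ T} = Nat.card T from
          Nat.card_congr (Subgroup.subgroupOfEquivOfLe (le_borel T)).toEquiv,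
        Nat.mul_sub, Nat.mul_sub, mul_one]
      omega
    rw [hcompl] at hle
    exact Nat.le_of_mul_le_mul_right hle (by have := four_le hT; omega)
  · have h2 : ((t'⁻¹ * t : T) : G) • u • base T = u • base T := by
      rw [Subgroup.coe_mul, Subgroup.coe_inv, mul_smul, show (t : G) • u • base T = (t' : G) • u • base T
        from congrArg Subtype.val h, inv_smul_smul]
    exact (inv_mul_eq_one.mp (Subtype.ext (sylow_semiregular hT (t'⁻¹ * t).2 hne h2))).symm

theorem sylow_regular {x y : G ⧸ borel T} (hx : x ≠ base T) (hy : y ≠ base T) :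
    ∃! t : G, t ∈ T ∧ t • x = y := by
  let f : T → {z : G ⧸ borel T // z ≠ base T} := fun t => ⟨(t : G) • x, fun h => hx (by
    rw [← inv_smul_smul (t : G) x, h]
    exact smul_base_self_iff.mpr (inv_mem (le_borel T t.2)))⟩
  have hinj : ∀ t t' : G, t ∈ T → t' ∈ T → t • x = t' • x → t = t' := fun t t' ht ht' h =>
    (inv_mul_eq_one.mp (sylow_semiregular hT (mul_mem (inv_mem ht') ht) hx
      (by rw [mul_smul, h, inv_smul_smul]))).symm
  have hf : Function.Bijective f := (Nat.bijective_iff_injective_and_card _).mpr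
    ⟨fun t t' h => Subtype.ext (hinj _ _ t.2 t'.2 (congrArg Subtype.val h)), (card_outer hT).symm⟩
  obtain ⟨t, ht⟩ := hf.surjective ⟨y, hy⟩
  exact ⟨t, ⟨t.2, congrArg Subtype.val ht⟩,
    fun t' h => hinj _ _ h.1 t.2 (h.2.trans (congrArg Subtype.val ht).symm)⟩

theorem card_quotient : Nat.card (G ⧸ borel T) = Nat.card T + 1 := by
  classical
  have := Fintype.ofFinite G
  have h := card_outer hT
  rw [Nat.card_eq_fintype_card, Fintype.card_subtype_compl, Fintype.card_subtype_eq,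
    ← Nat.card_eq_fintype_card] at h
  have h4 : 4 ≤ Nat.card (T : Subgroup G) := four_le hT
  omega

theorem card_group : Nat.card G = (Nat.card T + 1) * (Nat.card T * (Nat.card T - 1)) := by
  obtain ⟨u, hu, huH⟩ := strongly_exists_invol_not_mem (strong hT)
  rw [← card_borel hT hu huH, ← card_quotient hT]
  exact Subgroup.card_eq_card_quotient_mul_card_subgroup _

theorem exists_standard {u : G} (hu : orderOf u = 2) (huH : u ∉ borel T)
    {x₁ x₂ : G ⧸ borel T} (h : x₁ ≠ x₂) : ∃ g : G, g • x₁ = base T ∧ g • x₂ = u • base T := by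
  obtain ⟨a, rfl⟩ := QuotientGroup.mk_surjective x₁
  rw [← smul_base] at h ⊢
  obtain ⟨t, ⟨ht, htx⟩, -⟩ := sylow_regular hT
    (x := a⁻¹ • x₂) (y := u • base T) (fun e => h (by rw [← e, smul_inv_smul]))
    (fun e => huH (smul_base_self_iff.mp e))
  refine ⟨t * a⁻¹, ?_, by rw [mul_smul, htx]⟩
  rw [mul_smul, inv_smul_smul]
  exact smul_base_self_iff.mpr (le_borel T ht)

theorem twoPt_regular {u : G} (hu : orderOf u = 2) (huH : u ∉ borel T) {x y : G ⧸ borel T}
    (hx : x ≠ base T) (hx' : x ≠ u • base T) (hy : y ≠ base T) (hy' : y ≠ u • base T) :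
    ∃ d ∈ twoPt T u, d • x = y := by
  classical
  have := Fintype.ofFinite G
  have hfix : ∀ d ∈ twoPt T u, d • base T = base T ∧ d • u • base T = u • base T := fun d hd =>
    ⟨smul_base_self_iff.mpr (mem_twoPt_iff.mp hd).1, (mem_twoPt_iff.mp hd).2⟩
  let Y := {z : {z : G ⧸ borel T // z ≠ base T} //
    z ≠ ⟨u • base T, fun e => huH (smul_base_self_iff.mp e)⟩}
  let f : twoPt T u → Y := fun d => ⟨⟨(d : G) • x, fun h => hx (smul_left_cancel (d : G)
    (h.trans (hfix _ d.2).1.symm))⟩, fun h => hx' (smul_left_cancel (d : G)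
    ((congrArg Subtype.val h).trans (hfix _ d.2).2.symm))⟩
  have hY : Nat.card (twoPt T u) = Nat.card Y := by
    rw [card_twoPt hT hu huH, ← card_outer hT, Nat.card_eq_fintype_card, Nat.card_eq_fintype_card]
    simp only [Y, ne_eq, Fintype.card_subtype_compl, Fintype.card_subtype_eq]
  have hf : Function.Bijective f := by
    refine (Nat.bijective_iff_injective_and_card _).mpr ⟨fun d e h => ?_, hY⟩
    have h' : (d : G) • x = (e : G) • x := congrArg (fun z : Y => z.1.1) h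
    by_contra hde
    have hmem := mul_mem (inv_mem e.2) d.2
    rcases eq_of_fixed hT hu huH hmem (fun h1 => hde (Subtype.ext (inv_mul_eq_one.mp h1).symm))
      (x := x) (by rw [mul_smul, h', inv_smul_smul]) with h1 | h1
    · exact hx h1
    · exact hx' h1
  obtain ⟨d, hd⟩ := hf.surjective ⟨⟨y, hy⟩, fun h => hy' (congrArg Subtype.val h)⟩
  exact ⟨d, d.2, congrArg (fun z : Y => z.1.1) hd⟩

theorem triply_transitive {x₁ x₂ x₃ y₁ y₂ y₃ : G ⧸ borel T} (hx12 : x₁ ≠ x₂) (hx13 : x₁ ≠ x₃)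
    (hx23 : x₂ ≠ x₃) (hy12 : y₁ ≠ y₂) (hy13 : y₁ ≠ y₃) (hy23 : y₂ ≠ y₃) :
    ∃ g : G, g • x₁ = y₁ ∧ g • x₂ = y₂ ∧ g • x₃ = y₃ := by
  obtain ⟨u, hu, huH⟩ := strongly_exists_invol_not_mem (strong hT)
  obtain ⟨a, ha1, ha2⟩ := exists_standard hT hu huH hx12
  obtain ⟨b, hb1, hb2⟩ := exists_standard hT hu huH hy12
  obtain ⟨d, hd, hdx⟩ := twoPt_regular hT hu huH (x := a • x₃) (y := b • y₃)
    (fun h => hx13 (smul_left_cancel a (ha1.trans h.symm)))
    (fun h => hx23 (smul_left_cancel a (ha2.trans h.symm)))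
    (fun h => hy13 (smul_left_cancel b (hb1.trans h.symm)))
    (fun h => hy23 (smul_left_cancel b (hb2.trans h.symm)))
  refine ⟨b⁻¹ * d * a, ?_, ?_, ?_⟩
  · rw [mul_smul, mul_smul, ha1, smul_base_self_iff.mpr (mem_twoPt_iff.mp hd).1, inv_smul_eq_iff, hb1]
  · rw [mul_smul, mul_smul, ha2, (mem_twoPt_iff.mp hd).2, inv_smul_eq_iff, hb2]
  · rw [mul_smul, mul_smul, hdx, inv_smul_smul]

end Triple

end CfsgLib.Invol.ElemCent
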