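import Cfsg.Agent.Lib.Invol.CASimple

/-!
# The Zassenhaus action given by an involution centraliser, and its classification when it is abelian
-/

set_option autoImplicit false
set_option linter.unusedSectionVars false

namespace CfsgLib.Invol.CASimple

open scoped Pointwise
open MulAction

variable {G : Type*} [Group G] [Finite G] {A : Subgroup G} {t : G}

/-- The base point of the coset space of `N`. -/
abbrev base (A : Subgroup G) : G ⧸ nA A := QuotientGroup.mk 1

theorem smul_mk_eq_iff {x g : G} :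
    x • (QuotientGroup.mk g : G ⧸ nA A) = QuotientGroup.mk g ↔ g⁻¹ * x * g ∈ nA A := by
  rw [MulAction.Quotient.smul_mk, smul_eq_mul, eq_comm, QuotientGroup.eq, mul_assoc]

theorem smul_base_iff {x : G} : x • base A = base A ↔ x ∈ nA A := by
  rw [smul_mk_eq_iff]; simp

theorem mk_eq_base_iff {g : G} : (QuotientGroup.mk g : G ⧸ nA A) = base A ↔ g ∈ nA A := by
  rw [QuotientGroup.eq]; simp

theorem Setup.exists_rep (h : Setup A t) (c : G ⧸ nA A) (hc : c ≠ base A) :
    ∃ v : G, v * v = 1 ∧ v ∉ nA A ∧ QuotientGroup.mk v = c ∧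
      ∀ x : G, x ∈ hsub A v ↔ x • base A = base A ∧ x • c = c := by
  obtain ⟨g, rfl⟩ := QuotientGroup.mk_surjective c
  have hg : g ∉ nA A := fun e => hc (mk_eq_base_iff.2 e)
  obtain ⟨v, hv, -, hvg, -⟩ := h.coset_invol hg
  have he : (QuotientGroup.mk v : G ⧸ nA A) = QuotientGroup.mk g := (QuotientGroup.eq.2 hvg).symm
  refine ⟨v, hv, fun e => hc (he.symm.trans (mk_eq_base_iff.2 e)), he, fun x => ?_⟩
  rw [mem_hsub hv, smul_base_iff, ← he, smul_mk_eq_iff, inv_eq_of_mul_eq_one_right hv]

theorem Setup.three' (h : Setup A t) {x : G} {c c' : G ⧸ nA A}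
    (hc : c ≠ base A) (hc' : c' ≠ base A) (hne : c ≠ c') (h0 : x • base A = base A)
    (h1 : x • c = c) (h2 : x • c' = c') : x = 1 := by
  obtain ⟨v, hv, hvN, rfl, hiff⟩ := h.exists_rep c hc
  obtain ⟨w, hw, hwN, rfl, -⟩ := h.exists_rep c' hc'
  by_contra h1'
  have := h.fix_eq hv hvN ((hiff x).2 ⟨h0, h1⟩) h1' hwN (smul_mk_eq_iff.1 h2)
  exact hne (QuotientGroup.eq.2 (by rwa [inv_eq_of_mul_eq_one_right hv]))

theorem Setup.three (h : Setup A t) {x : G} {a b c : G ⧸ nA A}
    (hab : a ≠ b) (hbc : b ≠ c) (hac : a ≠ c) (ha : x • a = a) (hb : x • b = b) (hc : x • c = c) :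
    x = 1 := by
  obtain ⟨g, hg⟩ := MulAction.exists_smul_eq G a (base A)
  have key : ∀ z : G ⧸ nA A, x • z = z → (g * x * g⁻¹) • (g • z) = g • z := fun z hz => by
    rw [mul_smul, inv_smul_smul, mul_smul, hz]
  have hne : ∀ z : G ⧸ nA A, a ≠ z → g • z ≠ base A := fun z hz e =>
    hz (MulAction.injective g (hg.trans e.symm))
  have := h.three' (hne b hab) (hne c hac) (fun e => hbc (MulAction.injective g e))
    (by have := key a ha; rwa [hg] at this) (key b hb) (key c hc)
  exact conj_eq_one_iff.1 this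

theorem Setup.hsub_card (h : Setup A t) {v : G} (hv : v * v = 1)
    (hvN : v ∉ nA A) : Nat.card (hsub A v) = (invA A).ncard := by
  rw [← h.card_invA]
  refine Nat.card_eq_of_bijective
    (fun x : hsub A v => (QuotientGroup.mk (⟨x.1, x.2.1⟩ : nA A) : (nA A) ⧸ A.subgroupOf (nA A)))
    ⟨?_, ?_⟩
  · intro x y e
    have e' := Subgroup.mem_subgroupOf.1 (QuotientGroup.eq.1 e)
    simp only [Subgroup.coe_mul, Subgroup.coe_inv] at e'
    exact Subtype.ext (inv_mul_eq_one.1 (h.hsub_inf hv hvN e' (mul_mem (inv_mem x.2) y.2)))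
  · intro z
    obtain ⟨⟨n, hn⟩, rfl⟩ := QuotientGroup.mk_surjective z
    obtain ⟨k, hk, hkA⟩ := (h.hsub_invert hv hvN).2 n hn
    exact ⟨⟨k, hk⟩, (QuotientGroup.eq.2 (Subgroup.mem_subgroupOf.2 (by simpa using hkA))).symm⟩

/-- `A` is regular on the points other than the base point. -/
theorem Setup.regular (h : Setup A t) (he : 2 ≤ (invA A).ncard) :
    ∀ y z : G ⧸ nA A, y ≠ base A → z ≠ base A → ∃! u : A, (u : G) • y = z := by
  classical
  have : Fintype G := Fintype.ofFinite G
  let C := {c : G ⧸ nA A // c ≠ base A}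
  choose v hv hvN hvc hiff using fun c : C => h.exists_rep c.1 c.2
  let ψ : (Σ c : C, {x : hsub A (v c) // (x : G) ≠ 1}) → {x : nA A // (x : G) ∉ A} :=
    fun p => ⟨⟨p.2.1.1, p.2.1.2.1⟩, fun e => p.2.2 (h.hsub_inf (hv p.1) (hvN p.1) e p.2.1.2)⟩
  have hψ : Function.Injective ψ := by
    rintro ⟨c, x⟩ ⟨d, y⟩ e
    have e' : (x.1 : G) = y.1 := congrArg (fun z => ((z.1 : nA A) : G)) e
    have hcd : c = d := by
      by_contra hne
      refine x.2 ?_
      have hx := (hiff c _).1 x.1.2
      have hy := (hiff d _).1 y.1.2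
      rw [← e'] at hy
      exact h.three' c.2 d.2 (fun e => hne (Subtype.ext e)) hx.1 hx.2 hy.2
    subst hcd
    exact Sigma.ext rfl (heq_of_eq (Subtype.ext (Subtype.ext e')))
  have hcount := Nat.card_le_card_of_injective ψ hψ
  have hN : Nat.card {x : nA A // (x : G) ∉ A} + Nat.card A = Nat.card A * (invA A).ncard := by
    rw [← h.card_invA, ← Nat.card_congr (Subgroup.subgroupOfEquivOfLe (Subgroup.le_normalizer (H := A))).toEquiv,
      mul_comm (Nat.card (A.subgroupOf (nA A))), ← Subgroup.index_eq_card, Subgroup.index_mul_card,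
      ← Nat.card_congr (Equiv.sumCompl fun x : nA A => x ∈ A.subgroupOf (nA A)), Nat.card_sum,
      add_comm]
    exact congrArg₂ (· + ·) rfl rfl
  have hσ : Nat.card (Σ c : C, {x : hsub A (v c) // (x : G) ≠ 1}) =
      Nat.card C * ((invA A).ncard - 1) := by
    rw [Nat.card_sigma, Finset.sum_congr rfl (g := fun _ => (invA A).ncard - 1) fun c _ => ?_,
      Finset.sum_const, Finset.card_univ, smul_eq_mul, Nat.card_eq_fintype_card (α := C)]
    have hsum := Nat.card_congr (Equiv.sumCompl fun x : hsub A (v c) => (x : G) = 1)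
    rw [Nat.card_sum, h.hsub_card (hv c) (hvN c),
      show Nat.card {x : hsub A (v c) // (x : G) = 1} = 1 from Nat.card_eq_one_iff_unique.2
        ⟨⟨fun a b => Subtype.ext (Subtype.ext (a.2.trans b.2.symm))⟩, ⟨⟨1, rfl⟩⟩⟩] at hsum
    show Nat.card {x : hsub A (v c) // ¬ (x : G) = 1} = _
    omega
  rw [hσ] at hcount
  have hCle : Nat.card C ≤ Nat.card A := by
    obtain ⟨e, he'⟩ : ∃ e, (invA A).ncard = e + 1 := ⟨(invA A).ncard - 1, by omega⟩
    rw [he', Nat.add_sub_cancel] at hcount
    rw [he', Nat.mul_succ] at hN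
    have : Nat.card C * e ≤ Nat.card A * e := by omega
    exact Nat.le_of_mul_le_mul_right this (by omega)
  intro y z hy hz
  have hstab : ∀ a : A, (a : G) • base A = base A :=
    fun a => smul_base_iff.2 (Subgroup.le_normalizer a.2)
  let f : A → C := fun a => ⟨(a : G) • y, fun e => hy (MulAction.injective (a : G) (e.trans (hstab a).symm))⟩
  have hf : Function.Injective f := by
    intro a b e
    have e' : (b : G)⁻¹ • (a : G) • y = y := by
      rw [show (a : G) • y = (b : G) • y from congrArg Subtype.val e, inv_smul_smul]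
    rw [← mul_smul] at e'
    have hxb : ((b : G)⁻¹ * a) • base A = base A :=
      smul_base_iff.2 (Subgroup.le_normalizer (mul_mem (inv_mem b.2) a.2))
    obtain ⟨w, hw, hwN, -, hwi⟩ := h.exists_rep y hy
    exact Subtype.ext (inv_mul_eq_one.1
      (h.hsub_inf hw hwN (mul_mem (inv_mem b.2) a.2) ((hwi _).2 ⟨hxb, e'⟩))).symm
  have hb : Function.Bijective f := (Nat.bijective_iff_injective_and_card f).2
    ⟨hf, le_antisymm (Nat.card_le_card_of_injective f hf) hCle⟩
  obtain ⟨a, ha⟩ := hb.2 ⟨z, hz⟩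
  refine ⟨a, congrArg Subtype.val ha, fun b hb' => hf (Subtype.ext ?_)⟩
  exact hb'.trans (congrArg Subtype.val ha).symm

theorem Setup.two_trans (h : Setup A t) (he : 2 ≤ (invA A).ncard) :
    IsMultiplyPretransitive G (G ⧸ nA A) 2 := by
  rw [is_two_pretransitive_iff]
  intro a b c d hab hcd
  obtain ⟨g, hg⟩ := MulAction.exists_smul_eq G a (base A)
  obtain ⟨k, hk⟩ := MulAction.exists_smul_eq G c (base A)
  have h1 : g • b ≠ base A := fun e => hab (MulAction.injective g (hg.trans e.symm))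
  have h2 : k • d ≠ base A := fun e => hcd (MulAction.injective k (hk.trans e.symm))
  obtain ⟨u, hu, -⟩ := h.regular he _ _ h1 h2
  refine ⟨k⁻¹ * u * g, ?_, ?_⟩
  · rw [mul_smul, mul_smul, hg, smul_base_iff.2 (Subgroup.le_normalizer u.2), ← hk, inv_smul_smul]
  · rw [mul_smul, mul_smul, hu, inv_smul_smul]

/-- In `PSL(2, K)`, `K` of odd order, an abelian involution centraliser has order four. -/
theorem psl_odd_card {K : Type*} [Field K] [Finite K] (hodd : Odd (Nat.card K))
    {c : Matrix.ProjectiveSpecialLinearGroup (Fin 2) K} (hc : c * c = 1) (hc1 : c ≠ 1)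
    (hab : ∀ x ∈ Subgroup.centralizer ({c} : Set (Matrix.ProjectiveSpecialLinearGroup (Fin 2) K)),
      ∀ y ∈ Subgroup.centralizer ({c} : Set (Matrix.ProjectiveSpecialLinearGroup (Fin 2) K)),
        Commute x y) :
    Nat.card (Subgroup.centralizer ({c} : Set (Matrix.ProjectiveSpecialLinearGroup (Fin 2) K))) = 4 := by
  obtain ⟨p, hchar⟩ := CharP.exists K
  have : Fact p.Prime := ⟨CharP.char_is_prime K p⟩
  have hi : CfsgLib.SL2.Invol c := ⟨hc, hc1⟩
  have hs := hi.semi p hodd
  have hcard := CfsgLib.SL2.card_normalizer_torus p hs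
  rw [CfsgLib.SL2.centralizer_invol hodd hi] at hab ⊢
  obtain ⟨d, hd, hdT⟩ : ∃ d ∈ Subgroup.normalizer (CfsgLib.SL2.torus c : Set _),
      d ∉ CfsgLib.SL2.torus c := by
    by_contra hno
    push Not at hno
    have := Subgroup.card_le_of_le (show Subgroup.normalizer (CfsgLib.SL2.torus c : Set _) ≤
      CfsgLib.SL2.torus c from hno)
    rw [hcard] at this
    have := Nat.card_pos (α := CfsgLib.SL2.torus c)
    omega
  have hTN : CfsgLib.SL2.torus c ≤ Subgroup.normalizer (CfsgLib.SL2.torus c : Set _) :=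
    Subgroup.le_normalizer
  have hsq : ∀ x ∈ CfsgLib.SL2.torus c, x = 1 ∨ x = c := by
    intro x hx
    by_cases h1 : x = 1
    · exact Or.inl h1
    · refine Or.inr (CfsgLib.SL2.eq_of_invol_mem_torus hodd hi ⟨?_, h1⟩ hx)
      have hd2 := CfsgLib.SL2.mul_self_of_normalizer_torus p hs hd hdT
      have hdx := CfsgLib.SL2.mul_self_of_normalizer_torus p hs (mul_mem hd (hTN hx))
        (fun e => hdT (by simpa using mul_mem e (inv_mem hx)))
      have hcom : Commute d x := hab d hd x (hTN hx)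
      have e : d * x * (d * x) = d * d * (x * x) := by
        rw [mul_assoc d x, ← mul_assoc x d x, ← hcom.eq]; group
      rw [e, hd2, one_mul] at hdx
      exact hdx
  have hT2 : Nat.card (CfsgLib.SL2.torus c) = 2 := by
    rw [Nat.card_eq_two_iff]
    refine ⟨1, ⟨c, CfsgLib.SL2.mem_torus c⟩, fun e => hc1 (congrArg Subtype.val e).symm, ?_⟩
    ext x
    simp only [Set.mem_insert_iff, Set.mem_singleton_iff, Set.mem_univ, iff_true]
    rcases hsq x.1 x.2 with e | e
    · exact Or.inl (Subtype.ext e)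
    · exact Or.inr (Subtype.ext e)
  rw [hcard, hT2]

theorem Setup.abelian_of_ca (h : Setup A t) (hCA : CA G) : ∀ a ∈ A, ∀ b ∈ A, Commute a b :=
  fun a ha b hb => hCA t a b h.ne (h.comm_invol ha h.t_mem h.sq) (h.comm_invol hb h.t_mem h.sq)

theorem exists_setup [IsSimpleGroup G] (hna : ¬ IsMulCommutative G) (hCA : CA G) :
    ∃ (T : Sylow 2 G) (A : Subgroup G) (t : G), Setup A t ∧ (T : Subgroup G) ≤ A ∧ t ∈ (T : Subgroup G) := by
  have : Fintype G := Fintype.ofFinite G
  have hnc : ¬ ∀ a b : G, a * b = b * a := fun h => hna ⟨⟨h⟩⟩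
  have heven : 2 ∣ Nat.card G := by
    by_contra hodd
    refine hnc (IsSimpleGroup.comm_iff_isSolvable.2 (Cfsg.Agent.S0182.result
      (Nat.odd_iff.2 (Nat.two_dvd_ne_zero.1 hodd)) fun x hx a ha b hb => ?_))
    exact hCA x a b hx (mem_cent.1 ha) (mem_cent.1 hb)
  obtain ⟨T⟩ : Nonempty (Sylow 2 G) := inferInstance
  have : Fact (Nat.Prime 2) := ⟨Nat.prime_two⟩
  have hTne : (T : Subgroup G) ≠ ⊥ := T.ne_bot_of_dvd_card heven
  have : Nontrivial (T : Subgroup G) := Subgroup.nontrivial_iff_ne_bot _ |>.2 hTne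
  have := T.2.center_nontrivial
  obtain ⟨z, hz⟩ := exists_prime_orderOf_dvd_card' (G := Subgroup.center (T : Subgroup G)) 2
    (((T.2.to_subgroup _).card_eq_or_dvd).resolve_left (Finite.one_lt_card).ne')
  obtain ⟨hz2, hz1⟩ := involution_iff.1 hz
  refine ⟨T, Subgroup.centralizer ({((z : (T : Subgroup G)) : G)} : Set G), ((z : (T : Subgroup G)) : G),
    ?_, ?_, (z : (T : Subgroup G)).2⟩
  · have hsq : ((z : (T : Subgroup G)) : G) * ((z : (T : Subgroup G)) : G) = 1 :=
      congrArg (fun w : Subgroup.center (T : Subgroup G) => ((w : (T : Subgroup G)) : G)) hz2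
    have hne : ((z : (T : Subgroup G)) : G) ≠ 1 := fun e =>
      hz1 (Subtype.ext (Subtype.ext e))
    refine ⟨⟨fun x hx _ hx1 => cent_eq hCA hne hx1 (mem_cent.1 hx),
      hsq, hne, rfl, fun hn => ?_, fun hd => T.not_dvd_index (hd.trans
      (Subgroup.index_dvd_of_le ?_))⟩,
      fun x hx hx1 => (cent_eq hCA hne hx1 (mem_cent.1 hx)).le.trans Subgroup.le_normalizer⟩
    · rcases hn.eq_bot_or_eq_top with e | e
      · have : ((z : (T : Subgroup G)) : G) ∈ Subgroup.centralizer ({((z : (T : Subgroup G)) : G)} : Set G) :=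
          mem_cent.2 (Commute.refl _)
        rw [e, Subgroup.mem_bot] at this
        exact hne this
      · refine hnc fun a b => hCA _ a b hne ?_ ?_ <;> exact mem_cent.1 (e ▸ Subgroup.mem_top _)
    · intro x hx
      exact mem_cent.2 (congrArg Subtype.val ((Subgroup.mem_center_iff.1 z.2) ⟨x, hx⟩))
  · intro x hx
    exact mem_cent.2 (congrArg Subtype.val ((Subgroup.mem_center_iff.1 z.2) ⟨x, hx⟩))

theorem Setup.two_le (h : Setup A t) (hab : ∀ a ∈ A, ∀ b ∈ A, Commute a b) [IsSimpleGroup G] (T : Sylow 2 G) (hTA : (T : Subgroup G) ≤ A)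
    (htT : t ∈ (T : Subgroup G)) (hnc : ¬ IsMulCommutative G) : 2 ≤ (invA A).ncard := by
  by_contra hlt
  have : Fact (Nat.Prime 2) := ⟨Nat.prime_two⟩
  have h1 : Nat.card ((nA A) ⧸ A.subgroupOf (nA A)) = 1 := by
    have := h.card_invA
    have hpos : 0 < Nat.card ((nA A) ⧸ A.subgroupOf (nA A)) := Nat.card_pos
    omega
  have hNA : nA A ≤ A := Subgroup.subgroupOf_eq_top.1
    (Subgroup.index_eq_one.1 ((Subgroup.index_eq_card _).trans h1))
  have hP : Subgroup.normalizer ((T : Subgroup G) : Set G) ≤ Subgroup.centralizer ((T : Subgroup G) : Set G) := by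
    intro g hg
    have hgA : g ∈ A := hNA (h.mem_nA_of_conj h.t_mem h.ne
      (hTA ((Subgroup.mem_normalizer_iff.1 hg t).1 htT)))
    exact Subgroup.mem_centralizer_iff.2 fun x hx => hab _ (hTA hx) _ hgA
  have hcompl := MonoidHom.ker_transferSylow_isComplement' T hP
  rcases (MonoidHom.transferSylow T hP).normal_ker.eq_bot_or_eq_top with e | e <;> rw [e] at hcompl
  · exact hnc ⟨⟨fun a b => hab _ (hTA (Subgroup.isComplement'_bot_left.1 hcompl ▸ Subgroup.mem_top a))
      _ (hTA (Subgroup.isComplement'_bot_left.1 hcompl ▸ Subgroup.mem_top b))⟩⟩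
  · have := Subgroup.isComplement'_top_left.1 hcompl
    exact h.ne (Subgroup.mem_bot.1 (this ▸ htT))

/-- With at least two involutions in `A`, the cosets of `N` form a Zassenhaus group. -/
theorem Setup.isZassenhaus (h : Setup A t) (he : 2 ≤ (invA A).ncard) :
    Cfsg.IsZassenhausGroup G (G ⧸ nA A) := by
  classical
  have : Fintype G := Fintype.ofFinite G
  obtain ⟨u, hu2, -, huN⟩ := h.exists_outside
  have hub : (QuotientGroup.mk u : G ⧸ nA A) ≠ base A := fun e => huN (mk_eq_base_iff.1 e)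
  obtain ⟨x, hx, hx1⟩ : ∃ x ∈ hsub A u, x ≠ 1 := by
    by_contra hno
    push Not at hno
    have := h.hsub_card hu2 huN
    rw [(Subgroup.eq_bot_iff_forall _).2 hno, Subgroup.card_bot] at this
    omega
  have hfaith : FaithfulSMul G (G ⧸ nA A) := by
    refine ⟨fun {y z} hyz => (inv_mul_eq_one.1 ?_).symm⟩
    have hall : ∀ c : G ⧸ nA A, (z⁻¹ * y) • c = c := fun c => by rw [mul_smul, hyz c, inv_smul_smul]
    have hw : (t : G) • (QuotientGroup.mk u : G ⧸ nA A) ≠ QuotientGroup.mk u := fun e =>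
      h.ne (congrArg Subtype.val ((h.regular he _ _ hub hub).unique
        (y₁ := ⟨t, h.t_mem⟩) (y₂ := 1) e (one_smul G _)))
    exact h.three hub.symm hw.symm (fun e => hub (MulAction.injective t (e.symm.trans
      (smul_base_iff.2 (Subgroup.le_normalizer h.t_mem)).symm))) (hall _) (hall _) (hall _)
  obtain ⟨v, -, -, -, hiff⟩ := h.exists_rep _ hub
  have hxfix : x • base A = base A ∧ x • (QuotientGroup.mk u : G ⧸ nA A) = QuotientGroup.mk u := by
    rw [mem_hsub hu2] at hx
    exact ⟨smul_base_iff.2 hx.1, smul_mk_eq_iff.2 (by rw [inv_eq_of_mul_eq_one_right hu2]; exact hx.2)⟩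
  refine ⟨hfaith, h.two_trans he, fun g a b c hab hbc hac => h.three hab hbc hac,
      ⟨x, hx1, _, _, hub.symm, hxfix.1, hxfix.2⟩, fun N hN hNt => ?_⟩
  refine ⟨base A, fun hb => ?_⟩
  have hdis : ∀ n ∈ N, n ∈ nA A → n = 1 := fun n hn hnA => congrArg Subtype.val
    ((Subgroup.eq_bot_iff_forall _).1 hb ⟨n, hn⟩ (show n • base A = base A from smul_base_iff.2 hnA))
  -- an involution of `A` inverts `N`
  have hinv : ∀ s ∈ invA A, ∀ n ∈ N, s * n * s = n⁻¹ := by
    intro s hs
    have hsi : s⁻¹ = s := inv_eq_of_mul_eq_one_right hs.2.1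
    let φ : N →* N := (MulAut.conjNormal s : MulAut N).toMonoidHom
    have hφ : ∀ n : N, ((φ n : N) : G) = s * n * s := fun n => by
      show ((MulAut.conjNormal s n : N) : G) = _
      rw [MulAut.conjNormal_apply, hsi]
    have hinvol : Function.Involutive φ := fun n => Subtype.ext (by
      rw [hφ, hφ, show s * (s * n * s) * s = (s * s) * n * (s * s) by group, hs.2.1, one_mul, mul_one])
    have hfpf : MonoidHom.FixedPointFree φ := fun n hn => Subtype.ext <| hdis n n.2 <|
      Subgroup.le_normalizer (h.mem_of_commute hs.1 hs.2.1 hs.2.2 (by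
        show (n : G) * s = s * n
        nth_rewrite 1 [← show s * (n : G) * s = n from (hφ n).symm.trans (congrArg Subtype.val hn)]
        rw [mul_assoc, hs.2.1, mul_one]))
    intro n hn
    exact (hφ ⟨n, hn⟩).symm.trans
      (congrArg Subtype.val (congrFun (hfpf.coe_eq_inv_of_involutive hinvol) ⟨n, hn⟩))
  obtain ⟨s, r, hs, hr, hsr⟩ := (Set.one_lt_ncard_iff (Set.toFinite _)).1 he
  have hsr1 : s * r ≠ 1 := fun e => hsr (by
    rw [← inv_eq_of_mul_eq_one_left e, inv_eq_of_mul_eq_one_right hr.2.1])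
  have hsr2 : s * r * (s * r) = 1 := by
    rw [mul_assoc, ← mul_assoc r, ← (h.comm_invol hs.1 hr.1 hr.2.1).eq, mul_assoc s r r, hr.2.1, mul_one, hs.2.1]
  obtain ⟨⟨n, hn⟩, hnu⟩ := hNt.exists_smul_eq (base A) (QuotientGroup.mk u)
  have hn1 : n = 1 := hdis n hn (Subgroup.le_normalizer
    (h.mem_of_commute (mul_mem hs.1 hr.1) hsr2 hsr1 (by
      have e : s * (r * n * r) * s = n := by
        rw [hinv r hr n hn, hinv s hs _ (inv_mem hn), inv_inv]
      show n * (s * r) = s * r * n
      nth_rewrite 1 [← e]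
      rw [show s * (r * n * r) * s * (s * r) = s * r * n * r * (s * s) * r by group, hs.2.1, mul_one,
        mul_assoc _ r r, hr.2.1, mul_one])))
  subst hn1
  exact hub (((one_smul G (base A)).symm.trans hnu).symm)

/-- The classification, from a set-up with at least two involutions in the abelian group `A`. -/
theorem Setup.classify_of_two_le (h : Setup A t) (hab : ∀ a ∈ A, ∀ b ∈ A, Commute a b)
    (he : 2 ≤ (invA A).ncard) (T : Sylow 2 G) (hTA : (T : Subgroup G) ≤ A) :
    ∃ (F : Type) (_ : Field F) (_ : Fintype F) (f : ℕ), 2 ≤ f ∧ Fintype.card F = 2 ^ f ∧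
      Nat.card A = 2 ^ f ∧ (invA A).ncard + 1 = Nat.card A ∧
      Nonempty (G ≃* Matrix.ProjectiveSpecialLinearGroup (Fin 2) F) := by
  classical
  have : Fintype G := Fintype.ofFinite G
  have hZ := h.isZassenhaus he
  obtain ⟨u, hu2, -, huN⟩ := h.exists_outside
  have hub : (QuotientGroup.mk u : G ⧸ nA A) ≠ base A := fun e => huN (mk_eq_base_iff.1 e)
  have hFle : A ≤ stabilizer G (base A) := fun a ha => smul_base_iff.2 (Subgroup.le_normalizer ha)
  have hFn : (A.subgroupOf (stabilizer G (base A))).Normal := by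
    refine ⟨fun a ha g => ?_⟩
    rw [Subgroup.mem_subgroupOf] at ha ⊢
    exact (Subgroup.mem_normalizer_iff.1 (smul_base_iff.1 g.2) _).1 ha
  have hsubA : invA A ⊆ {y | y ∈ A ∧ y ≠ 1} := fun y hy => ⟨hy.1, hy.2.2⟩
  -- every element of `A` squares to one
  have hexp : ∀ a ∈ A, a * a = 1 := by
    rcases Cfsg.Agent.S0731.result hZ (base A) A hFle hFn ⟨⟨fun a b => Subtype.ext (hab _ a.2 _ b.2)⟩⟩
      (h.regular he) with ⟨h3, -⟩ | ⟨K, _, _, hK, ⟨e⟩⟩
    · let C' := {c : G ⧸ nA A // c ≠ base A ∧ c ≠ QuotientGroup.mk u}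
      let Y := {a : A // (a : G) ≠ 1}
      have hCY : Nat.card Y ≤ Nat.card C' := by
        refine Nat.card_le_card_of_injective (fun a : Y =>
          (⟨(a.1 : G) • (QuotientGroup.mk u : G ⧸ nA A), ?_, ?_⟩ : C')) ?_
        · exact fun e => hub (MulAction.injective (a.1 : G) (e.trans (hFle a.1.2).symm))
        · exact fun e => a.2 (congrArg Subtype.val
            ((h.regular he _ _ hub hub).unique e (show ((1 : A) : G) • _ = _ from one_smul G _)))
        · intro a b e
          exact Subtype.ext ((h.regular he _ (((b.1 : G)) • (QuotientGroup.mk u : G ⧸ nA A)) hub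
            (fun e' => hub (MulAction.injective (b.1 : G) (e'.trans (hFle b.1.2).symm)))).unique
              (congrArg Subtype.val e) rfl)
      obtain ⟨c₀, hc₀⟩ : Nonempty C' := by
        have hY : Nonempty Y := ⟨⟨⟨t, h.t_mem⟩, h.ne⟩⟩
        exact (Nat.card_pos_iff.1 (lt_of_lt_of_le Nat.card_pos hCY)).1
      have hH : Nat.card C' ≤ Nat.card (hsub A u) := by
        choose g hg using fun c : C' => h3.exists_smul_eq
          (⟨![base A, QuotientGroup.mk u, c₀], by
            intro i j; fin_cases i <;> fin_cases j <;>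
              simp [hub, hub.symm, hc₀.1, hc₀.1.symm, hc₀.2, hc₀.2.symm]⟩ : Fin 3 ↪ G ⧸ nA A)
          (⟨![base A, QuotientGroup.mk u, c.1], by
            intro i j; fin_cases i <;> fin_cases j <;>
              simp [hub, hub.symm, c.2.1, c.2.1.symm, c.2.2, c.2.2.symm]⟩ : Fin 3 ↪ G ⧸ nA A)
        have hgi : ∀ (c : C') (i : Fin 3), g c • ![base A, QuotientGroup.mk u, c₀] i =
            ![base A, QuotientGroup.mk u, c.1] i := fun c i => DFunLike.congr_fun (hg c) i
        refine Nat.card_le_card_of_injective (fun c => (⟨g c, (mem_hsub hu2).2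
          ⟨smul_base_iff.1 (hgi c 0), ?_⟩⟩ : hsub A u)) ?_
        · have := smul_mk_eq_iff.1 (hgi c 1)
          rwa [inv_eq_of_mul_eq_one_right hu2] at this
        · intro c d e
          have e' : g c = g d := congrArg Subtype.val e
          refine Subtype.ext ?_
          have hc2 := hgi c 2
          have hd2 := hgi d 2
          rw [e'] at hc2
          exact hc2.symm.trans hd2
      rw [h.hsub_card hu2 huN] at hH
      have hY : Nat.card Y = {y | y ∈ A ∧ y ≠ 1}.ncard := by
        rw [← Nat.card_coe_set_eq]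
        exact Nat.card_congr (Equiv.subtypeSubtypeEquivSubtypeInter (· ∈ A) fun y : G => y ≠ 1)
      have heq : invA A = {y | y ∈ A ∧ y ≠ 1} :=
        Set.eq_of_subset_of_ncard_le hsubA (hY ▸ hCY.trans hH) (Set.toFinite _)
      intro a ha
      by_cases ha1 : a = 1
      · rw [ha1, one_mul]
      · exact (heq ▸ (show a ∈ {y | y ∈ A ∧ y ≠ 1} from ⟨ha, ha1⟩) : a ∈ invA A).2.1
    · have hKodd : Odd (Nat.card K) := by
        rw [Nat.card_eq_fintype_card, Nat.odd_iff]
        exact FiniteField.odd_card_of_char_ne_two hK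
      have hcard : Nat.card A = 4 := by
        rw [← psl_odd_card hKodd (c := e t) (by rw [← map_mul, h.sq, map_one])
          (fun e' => h.ne (e.map_eq_one_iff.1 e')) fun y hy z hz => ?_]
        · refine Nat.card_congr (Equiv.subtypeEquiv e.toEquiv fun z => ?_)
          rw [h.eq, mem_cent, mem_cent]
          exact ⟨fun hz => hz.map e, fun hz => by simpa using hz.map e.symm⟩
        · have := hab (e.symm y) (h.eq ▸ mem_cent.2 (by simpa using (mem_cent.1 hy).map e.symm))
            (e.symm z) (h.eq ▸ mem_cent.2 (by simpa using (mem_cent.1 hz).map e.symm))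
          simpa using this.map e
      intro a ha
      obtain ⟨s, r, hs, hr, hsr⟩ := (Set.one_lt_ncard_iff (Set.toFinite _)).1 he
      by_contra hne
      have ho : orderOf (⟨a, ha⟩ : A) = 4 := by
        have hd := orderOf_dvd_natCard (⟨a, ha⟩ : A)
        rw [hcard, show 4 = 2 ^ 2 from rfl, Nat.dvd_prime_pow Nat.prime_two] at hd
        obtain ⟨i, hi, hio⟩ := hd
        interval_cases i
        · rw [pow_zero, orderOf_eq_one_iff] at hio
          exact absurd (by rw [show a = 1 from congrArg Subtype.val hio, one_mul]) hne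
        · exact absurd (by
            have hp := pow_orderOf_eq_one (⟨a, ha⟩ : A)
            rw [hio, pow_one, pow_two] at hp
            exact congrArg Subtype.val hp) hne
        · simpa using hio
      have hcyc : IsCyclic A := isCyclic_of_orderOf_eq_card _ (ho.trans hcard.symm)
      let _ := Fintype.ofFinite A
      have hle := IsCyclic.card_pow_eq_one_le (α := A) two_pos
      have h3 : ({1, ⟨s, hs.1⟩, ⟨r, hr.1⟩} : Finset A) ⊆ Finset.univ.filter fun z => z ^ 2 = 1 := by
        intro z hz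
        simp only [Finset.mem_insert, Finset.mem_singleton] at hz
        rw [Finset.mem_filter]
        refine ⟨Finset.mem_univ _, ?_⟩
        rcases hz with rfl | rfl | rfl
        · exact one_pow _
        · exact Subtype.ext (by rw [pow_two]; exact hs.2.1)
        · exact Subtype.ext (by rw [pow_two]; exact hr.2.1)
      have h4 := Finset.card_le_card h3
      rw [Finset.card_eq_three.2 ⟨1, ⟨s, hs.1⟩, ⟨r, hr.1⟩, fun e => hs.2.2 (congrArg Subtype.val e).symm,
        fun e => hr.2.2 (congrArg Subtype.val e).symm, fun e => hsr (congrArg Subtype.val e), rfl⟩] at h4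
      omega
  have hA2 : IsPGroup 2 A := fun a => ⟨1, Subtype.ext (by rw [pow_one, pow_two]; exact hexp a a.2)⟩
  have hTeq : A = (T : Subgroup G) := T.3 hA2 hTA
  have hAcard : 3 ≤ Nat.card A := by
    have hsub' : insert 1 (invA A) ⊆ (A : Set G) := Set.insert_subset (one_mem A) fun y hy => hy.1
    have := Set.ncard_le_ncard hsub' (Set.toFinite _)
    rw [Set.ncard_insert_of_notMem (fun hy => hy.2.2 rfl) (Set.toFinite _),
      ← Nat.card_coe_set_eq (A : Set G)] at this
    change (invA A).ncard + 1 ≤ Nat.card A at this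
    omega
  have hnn : ¬ (T : Subgroup G).Normal := fun hn => h.nonnormal (hTeq ▸ hn)
  have hcyc : ¬ IsCyclic (T : Subgroup G) := fun hc => by
    have hd : orderOf (Classical.choose hc.exists_generator) ∣ 2 := orderOf_dvd_of_pow_eq_one
      (Subtype.ext (by rw [pow_two]; exact hexp _ (hTeq.symm ▸ (Classical.choose hc.exists_generator).2)))
    rw [orderOf_eq_card_of_forall_mem_zpowers (Classical.choose_spec hc.exists_generator), ← hTeq] at hd
    have := Nat.le_of_dvd two_pos hd
    omega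
  obtain ⟨F, _, _, hF, he'⟩ := Cfsg.Agent.S1230.result T hcyc hnn fun s hs => by
    obtain ⟨hs2, hs1⟩ := involution_iff.1 hs
    obtain ⟨g, rfl⟩ := isConj_iff.1 (h.one_class hs2 hs1)
    refine ⟨⟨⟨fun a b => Subtype.ext ?_⟩⟩, fun c hc => ?_⟩
    · have ha := a.2
      have hb := b.2
      rw [cent_conj, ← h.eq] at ha hb
      have h2 := (hab _ ha _ hb).eq
      show (a : G) * b = b * a
      calc (a : G) * b = g * ((g⁻¹ * a * g) * (g⁻¹ * b * g)) * g⁻¹ := by group
        _ = g * ((g⁻¹ * b * g) * (g⁻¹ * a * g)) * g⁻¹ := by rw [h2]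
        _ = b * a := by group
    rw [cent_conj, ← h.eq] at hc
    have := hexp _ hc
    rw [show g⁻¹ * c * g * (g⁻¹ * c * g) = g⁻¹ * (c * c) * g by group] at this
    rw [pow_two]
    have := congrArg (fun z => g * z * g⁻¹) this
    simpa [mul_assoc] using this
  have : Fact (Nat.Prime 2) := ⟨Nat.prime_two⟩
  obtain ⟨f, hf⟩ := IsPGroup.iff_card.1 T.2
  refine ⟨F, _, _, f, ?_, hF.trans hf, hTeq ▸ hf, ?_, he'⟩
  swap
  · have heq : invA A = (A : Set G) \ {1} := Set.ext fun y =>
      ⟨fun hy => ⟨hy.1, hy.2.2⟩, fun hy => ⟨hy.1, hexp y hy.1, hy.2⟩⟩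
    rw [heq, Set.ncard_sdiff_singleton_add_one (one_mem A) (Set.toFinite _), ← Nat.card_coe_set_eq]
    rfl
  by_contra hlt
  have : Nat.card A ≤ 2 := by
    rw [hTeq, hf]
    interval_cases f <;> norm_num
  omega

/-- The classification, from a set-up of a simple group. -/
theorem Setup.classify [IsSimpleGroup G] (h : Setup A t) (hab : ∀ a ∈ A, ∀ b ∈ A, Commute a b) (hna : ¬ IsMulCommutative G) (T : Sylow 2 G)
    (hTA : (T : Subgroup G) ≤ A) (htT : t ∈ (T : Subgroup G)) :
    ∃ (F : Type) (_ : Field F) (_ : Fintype F) (f : ℕ), 2 ≤ f ∧ Fintype.card F = 2 ^ f ∧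
      Nat.card A = 2 ^ f ∧ (invA A).ncard + 1 = Nat.card A ∧
      Nonempty (G ≃* Matrix.ProjectiveSpecialLinearGroup (Fin 2) F) :=
  h.classify_of_two_le hab (h.two_le hab T hTA htT hna) T hTA

theorem classify [IsSimpleGroup G] (hna : ¬ IsMulCommutative G) (hCA : CA G) :
    ∃ (F : Type) (_ : Field F) (_ : Fintype F) (f : ℕ), 2 ≤ f ∧ Fintype.card F = 2 ^ f ∧
      Nonempty (G ≃* Matrix.ProjectiveSpecialLinearGroup (Fin 2) F) := by
  obtain ⟨T, A, t, h, hTA, htT⟩ := exists_setup hna hCA
  obtain ⟨F, iF, iF', f, hf, hF, -, -, he⟩ := h.classify (h.abelian_of_ca hCA) hna T hTA htT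
  exact ⟨F, iF, iF', f, hf, hF, he⟩

end CfsgLib.Invol.CASimple
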