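import Cfsg.Agent.S0071
import Cfsg.Agent.Lib.Invol.CAClass

/-!
# Simple groups whose non-abelian subgroups are self-normalising

All Sylow subgroups are abelian, centralisers of prime order elements are metabelian, and the
centraliser of an involution gives a set-up in the sense of `CASimple`.
-/

set_option autoImplicit false
set_option linter.unusedSectionVars false

namespace CfsgLib.Invol.SelfNorm

open CfsgLib.Invol.CASimple

universe u

variable {G : Type u} [Group G]

/-- `H` is non-abelian. -/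
def NC (H : Subgroup G) : Prop := ∃ a ∈ H, ∃ b ∈ H, ¬ Commute a b

/-- Every non-abelian subgroup is self-normalising. -/
def SN (G : Type u) [Group G] : Prop :=
  ∀ H : Subgroup G, NC H → ∀ g : G, (∀ x ∈ H, g * x * g⁻¹ ∈ H) → g ∈ H

theorem commute_of_not_nc {H : Subgroup G} (h : ¬ NC H) {a b : G} (ha : a ∈ H) (hb : b ∈ H) :
    Commute a b := by
  by_contra hc; exact h ⟨a, ha, b, hb, hc⟩

theorem NC.mono {H K : Subgroup G} (h : NC H) (hle : H ≤ K) : NC K := by
  obtain ⟨a, ha, b, hb, hc⟩ := h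
  exact ⟨a, hle ha, b, hle hb, hc⟩

theorem le_of_normalized (hS : SN G) {H K : Subgroup G} (hK : NC K)
    (hn : ∀ h ∈ H, ∀ x ∈ K, h * x * h⁻¹ ∈ K) : H ≤ K :=
  fun h hh => hS K hK h (hn h hh)

theorem SN.subgroup (hS : SN G) (H : Subgroup G) : SN H := by
  intro K hK g hg
  obtain ⟨a, ha, b, hb, hc⟩ := hK
  have h1 : NC (K.map H.subtype) := ⟨a, ⟨a, ha, rfl⟩, b, ⟨b, hb, rfl⟩, fun e => hc (Subtype.ext e.eq)⟩
  obtain ⟨x, hx, hxg⟩ := hS _ h1 g (by rintro _ ⟨y, hy, rfl⟩; exact ⟨_, hg y hy, rfl⟩)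
  rwa [← Subtype.ext (show (x : G) = (g : G) from hxg)]

theorem SN.quotient (hS : SN G) (M : Subgroup G) [M.Normal] : SN (G ⧸ M) := by
  intro K hK g hg
  obtain ⟨a, ha, b, hb, hc⟩ := hK
  obtain ⟨g, rfl⟩ := QuotientGroup.mk_surjective g
  obtain ⟨a, rfl⟩ := QuotientGroup.mk_surjective a
  obtain ⟨b, rfl⟩ := QuotientGroup.mk_surjective b
  have h1 : NC (K.comap (QuotientGroup.mk' M)) :=
    ⟨a, ha, b, hb, fun e => hc (e.map (QuotientGroup.mk' M))⟩
  exact hS _ h1 g fun x hx => hg (x : G ⧸ M) hx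

variable [Finite G]

theorem exists_maximal_normal [Nontrivial G] : ∃ M : Subgroup G, M.Normal ∧ M ≠ ⊤ ∧
    ∀ N : Subgroup G, N.Normal → M < N → N = ⊤ := by
  obtain ⟨M, ⟨hM, hne⟩, hmax⟩ := Set.Finite.exists_maximal (s := {N : Subgroup G | N.Normal ∧ N ≠ ⊤})
    (Set.toFinite _) ⟨⊥, Subgroup.normal_bot, bot_ne_top⟩
  refine ⟨M, hM, hne, fun N hN hlt => ?_⟩
  by_contra h
  exact hlt.not_ge (hmax ⟨hN, h⟩ hlt.le)

theorem isSimpleGroup_quotient (M : Subgroup G) [M.Normal] (hne : M ≠ ⊤)
    (hmax : ∀ N : Subgroup G, N.Normal → M < N → N = ⊤) : IsSimpleGroup (G ⧸ M) := by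
  have : Nontrivial (G ⧸ M) := QuotientGroup.nontrivial_iff.2 hne
  refine ⟨fun K hK => ?_⟩
  have hle : M ≤ K.comap (QuotientGroup.mk' M) := fun x hx => by
    rw [Subgroup.mem_comap, QuotientGroup.mk'_apply, (QuotientGroup.eq_one_iff x).2 hx]
    exact one_mem K
  rcases eq_or_lt_of_le hle with e | hlt
  · refine Or.inl (Subgroup.comap_injective (QuotientGroup.mk'_surjective M) ?_)
    rw [← e, MonoidHom.comap_bot, QuotientGroup.ker_mk']
  · exact Or.inr (Subgroup.comap_injective (QuotientGroup.mk'_surjective M)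
      ((hmax _ inferInstance hlt).trans (Subgroup.comap_top _).symm))

/-- A non-abelian simple group has no non-trivial abelian self-normalising Sylow subgroup. -/
theorem no_abelian_selfnorm [IsSimpleGroup G] (hna : NC (⊤ : Subgroup G)) {p : ℕ} [Fact p.Prime]
    (P : Sylow p G) (hP : ¬ NC (P : Subgroup G)) (hne : (P : Subgroup G) ≠ ⊥)
    (hN : ∀ g : G, (∀ x ∈ (P : Subgroup G), g * x * g⁻¹ ∈ (P : Subgroup G)) → g ∈ (P : Subgroup G)) :
    False := by
  have hle : Subgroup.normalizer ((P : Subgroup G) : Set G) ≤ Subgroup.centralizer ((P : Subgroup G) : Set G) :=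
    fun g hg => Subgroup.mem_centralizer_iff.2 fun x hx =>
      commute_of_not_nc hP hx (hN g fun y hy => (Subgroup.mem_normalizer_iff.1 hg y).1 hy)
  have hc := MonoidHom.ker_transferSylow_isComplement' P hle
  rcases (MonoidHom.transferSylow P hle).normal_ker.eq_bot_or_eq_top with e | e <;> rw [e] at hc
  · exact hP (Subgroup.isComplement'_bot_left.1 hc ▸ hna)
  · exact hne (Subgroup.isComplement'_top_left.1 hc)

theorem mem_of_coprime_index {M : Subgroup G} [M.Normal] {p k : ℕ} (hM : M.index ∣ p ^ k) {x : G}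
    (hx : (orderOf x).Coprime p) : x ∈ M := by
  rw [← QuotientGroup.eq_one_iff, ← orderOf_eq_one_iff]
  exact Nat.eq_one_of_dvd_coprimes (hx.pow_right k) (orderOf_map_dvd (QuotientGroup.mk' M) x)
    ((orderOf_dvd_natCard _).trans ((M.index_eq_card).symm ▸ hM))

/-- All Sylow subgroups are abelian. -/
theorem sylow_comm_aux (p : ℕ) [Fact p.Prime] : ∀ (n : ℕ) (G : Type u) [Group G] [Finite G]
    [IsSimpleGroup G], Nat.card G ≤ n → NC (⊤ : Subgroup G) → SN G →
    ∀ P : Sylow p G, ¬ NC (P : Subgroup G) := by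
  intro n
  induction n with
  | zero =>
    intro G _ _ _ hn
    have := Nat.card_pos (α := G)
    omega
  | succ n ih =>
    intro G _ _ _ hn hna hS P hP
    -- a `p'`-element acting non-trivially on a `p`-subgroup, chosen with the subgroup largest
    let s : Set (Subgroup G) := {Q | IsPGroup p Q ∧ ∃ g ∈ Subgroup.normalizer (Q : Set G),
      (orderOf g).Coprime p ∧ g ∉ Subgroup.centralizer (Q : Set G)}
    have hs : s.Nonempty := by
      by_contra hs
      rw [Set.not_nonempty_iff_eq_empty, Set.eq_empty_iff_forall_notMem] at hs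
      obtain ⟨N, hN, hNc⟩ := (Cfsg.Agent.S0071.result P).2 fun Q hQ g hg hco => by
        by_contra hgc
        exact hs Q ⟨P.2.to_le hQ, g, hg, hco, hgc⟩
      rcases hN.eq_bot_or_eq_top with rfl | rfl
      · have := Subgroup.isComplement'_bot_left.1 hNc
        have hnil := P.2.isNilpotent
        have hG : Group.IsNilpotent G := Group.nilpotent_of_mulEquiv
          ((MulEquiv.subgroupCongr this).trans Subgroup.topEquiv)
        obtain ⟨a, -, b, -, hab⟩ := hP
        exact hab (IsSimpleGroup.comm_iff_isSolvable.2 inferInstance a b)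
      · obtain ⟨a, ha, b, -, hab⟩ := hP
        rw [Subgroup.isComplement'_top_left.1 hNc, Subgroup.mem_bot] at ha
        exact hab (ha ▸ Commute.one_left b)
    obtain ⟨Q, ⟨hQ, g, hgN, hgco, hgC⟩, hmax⟩ := Set.Finite.exists_maximal (s := s) (Set.toFinite _) hs
    obtain ⟨H, hH⟩ : ∃ H, H = Subgroup.normalizer (Q : Set G) := ⟨_, rfl⟩
    have hQH : Q ≤ H := hH ▸ Subgroup.le_normalizer
    have hgH : g ∈ H := hH ▸ hgN
    obtain ⟨q, hqQ, hq⟩ : ∃ q ∈ Q, ¬ Commute q g := by
      by_contra h; push Not at h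
      exact hgC (Subgroup.mem_centralizer_iff.2 fun x hx => (h x hx).eq)
    have hHnc : NC H := ⟨q, hQH hqQ, g, hgH, hq⟩
    have hQn : ∀ h ∈ H, ∀ x ∈ Q, h * x * h⁻¹ ∈ Q := fun h hh x hx =>
      (Subgroup.mem_normalizer_iff.1 (hH ▸ hh) x).1 hx
    have hHtop : H ≠ ⊤ := fun e => by
      rcases (Subgroup.normalizer_eq_top_iff.1 (hH ▸ e)).eq_bot_or_eq_top with rfl | rfl
      · exact hgC (Subgroup.mem_centralizer_iff.2 fun x hx => by
          rw [Subgroup.mem_bot.1 hx, one_mul, mul_one])
      · have hnil := hQ.isNilpotent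
        have hG : Group.IsNilpotent G := Group.nilpotent_of_mulEquiv Subgroup.topEquiv
        obtain ⟨a, -, b, -, hab⟩ := hP
        exact hab (IsSimpleGroup.comm_iff_isSolvable.2 inferInstance a b)
    have hQ' : IsPGroup p (Q.subgroupOf H) :=
      hQ.of_equiv (Subgroup.subgroupOfEquivOfLe hQH).symm
    obtain ⟨R, hQR⟩ := hQ'.exists_le_sylow
    have hQR' : Q ≤ (R : Subgroup H).map H.subtype := fun x hx => ⟨⟨x, hQH hx⟩, hQR hx, rfl⟩
    by_cases hRnc : NC ((R : Subgroup H).map H.subtype)
    · -- the Sylow subgroup of `H` is not abelian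
      have hgne : Nontrivial H := by
        refine ⟨⟨g, hgH⟩, 1, fun e => hgC ?_⟩
        rw [show g = 1 from congrArg Subtype.val e]
        exact one_mem _
      obtain ⟨M, hMn, hMne, hMmax⟩ := exists_maximal_normal (G := H)
      have hMab : ¬ NC (M.map H.subtype) := fun hnc => hMne (by
        rw [eq_top_iff]
        intro x _
        obtain ⟨y, hy, hyx⟩ := le_of_normalized hS hnc (H := H) (by
          rintro h hh _ ⟨y, hy, rfl⟩; exact ⟨_, hMn.conj_mem y hy ⟨h, hh⟩, rfl⟩) x.2
        rwa [← Subtype.ext (show (y : G) = (x : G) from hyx)])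
      have hsimp := isSimpleGroup_quotient M hMne hMmax
      have hRM : ¬ (R : Subgroup H) ≤ M := fun hle => hMab (hRnc.mono (Subgroup.map_mono hle))
      by_cases hab : NC (⊤ : Subgroup (H ⧸ M))
      · -- a smaller simple group
        have hlt : Nat.card (H ⧸ M) ≤ n := by
          have h1 : Nat.card (H ⧸ M) ≤ Nat.card H :=
            Nat.card_le_card_of_surjective _ (QuotientGroup.mk'_surjective M)
          have h2 : Nat.card H < Nat.card G := by
            rw [← Subgroup.card_top (G := G)]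
            refine lt_of_le_of_ne (Subgroup.card_le_of_le le_top) fun e => hHtop ?_
            exact Subgroup.eq_of_le_of_card_ge le_top e.ge
          omega
        have hSH := hS.subgroup H
        let P' := R.mapSurjective (QuotientGroup.mk'_surjective M)
        have hP'coe : (P' : Subgroup (H ⧸ M)) = (R : Subgroup H).map (QuotientGroup.mk' M) := rfl
        refine no_abelian_selfnorm hab P' (ih (H ⧸ M) hlt hab (hSH.quotient M) P') (fun e => hRM ?_)
          fun x hx => ?_
        · intro y hy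
          rw [← QuotientGroup.eq_one_iff, ← Subgroup.mem_bot, ← e, hP'coe]
          exact ⟨y, hy, rfl⟩
        · obtain ⟨x, rfl⟩ := QuotientGroup.mk_surjective x
          obtain ⟨_, ⟨a, ha, rfl⟩, _, ⟨b, hb, rfl⟩, hc⟩ := hRnc
          have := hSH ((P' : Subgroup (H ⧸ M)).comap (QuotientGroup.mk' M))
            ⟨a, ⟨a, ha, rfl⟩, b, ⟨b, hb, rfl⟩, fun e => hc (e.map H.subtype)⟩ x fun y hy => hx _ hy
          exact this
      · -- index a prime, necessarily `p`
        have hc : IsMulCommutative (H ⧸ M) :=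
          ⟨⟨fun a b => commute_of_not_nc hab (Subgroup.mem_top a) (Subgroup.mem_top b)⟩⟩
        letI : CommGroup (H ⧸ M) :=
          { (inferInstance : Group (H ⧸ M)) with mul_comm := hc.is_comm.comm }
        have hpr : (Nat.card (H ⧸ M)).Prime := IsSimpleGroup.prime_card
        rw [← Subgroup.index_eq_card] at hpr
        have hpM : M.index = p := by
          by_contra hne
          refine hRM fun x hx => ?_
          obtain ⟨k, hk⟩ := R.2 ⟨x, hx⟩
          obtain ⟨i, -, hi⟩ := (Nat.dvd_prime_pow Fact.out).1 (orderOf_dvd_of_pow_eq_one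
            (show x ^ p ^ k = 1 from congrArg Subtype.val hk))
          refine mem_of_coprime_index (p := M.index) (k := 1) (by rw [pow_one]) ?_
          rw [hi]
          exact ((Nat.coprime_primes Fact.out hpr).2 (Ne.symm hne)).pow_left i
        have hgM : ∀ x : H, (orderOf (x : G)).Coprime p → x ∈ M := fun x hx =>
          mem_of_coprime_index (p := p) (k := 1) (by rw [hpM, pow_one]) (by rwa [← Subgroup.orderOf_coe])
        -- the commutator of `q` and `g` has order prime to `p` and lies in `Q`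
        have hcq : q * g * q⁻¹ * g⁻¹ ∈ Q := by
          rw [show q * g * q⁻¹ * g⁻¹ = q * (g * q⁻¹ * g⁻¹) by group]
          exact mul_mem hqQ (hQn g hgH _ (inv_mem hqQ))
        have h1 : (⟨g, hgH⟩ : H) ∈ M := hgM _ hgco
        have h2 : (⟨q * g * q⁻¹, mul_mem (mul_mem (hQH hqQ) hgH) (inv_mem (hQH hqQ))⟩ : H) ∈ M :=
          hgM _ (by
            show (orderOf (q * g * q⁻¹)).Coprime p
            rw [show orderOf (q * g * q⁻¹) = orderOf g from
              (orderOf_injective (MulAut.conj q).toMonoidHom (MulAut.conj q).injective g)]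
            exact hgco)
        have hco : (orderOf (q * g * q⁻¹ * g⁻¹)).Coprime p := by
          refine Nat.Coprime.coprime_dvd_left ((commute_of_not_nc hMab ⟨_, h2, rfl⟩
            (inv_mem ⟨_, h1, rfl⟩) : Commute (q * g * q⁻¹) g⁻¹).orderOf_mul_dvd_lcm) ?_
          refine Nat.Coprime.coprime_dvd_left (Nat.lcm_dvd_mul _ _) (Nat.Coprime.mul_left ?_ ?_)
          · rw [show orderOf (q * g * q⁻¹) = orderOf g from
              (orderOf_injective (MulAut.conj q).toMonoidHom (MulAut.conj q).injective g)]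
            exact hgco
          · rw [orderOf_inv]; exact hgco
        obtain ⟨k, hk⟩ := hQ ⟨_, hcq⟩
        have hord : orderOf (q * g * q⁻¹ * g⁻¹) = 1 :=
          Nat.eq_one_of_dvd_coprimes (hco.pow_right k) dvd_rfl
            (orderOf_dvd_of_pow_eq_one (congrArg Subtype.val hk))
        exact hq (mul_inv_eq_iff_eq_mul.1 (mul_inv_eq_one.1 (orderOf_eq_one_iff.1 hord)))
    · -- the Sylow subgroup of `H` is abelian, so it is `Q` and is Sylow in `G`
      obtain ⟨C, hC⟩ : ∃ C, C = Subgroup.centralizer (Q : Set G) ⊓ H := ⟨_, rfl⟩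
      have hRC : (R : Subgroup H).map H.subtype ≤ C := by
        rintro _ ⟨r, hr, rfl⟩
        rw [hC, Subgroup.mem_inf]
        exact ⟨Subgroup.mem_centralizer_iff.2 fun x hx =>
          commute_of_not_nc hRnc (hQR' hx) ⟨r, hr, rfl⟩, r.2⟩
      have hCab : ¬ NC C := fun hnc => by
        have hle := le_of_normalized hS hnc (H := H) (fun h hh x hx => by
          rw [hC, Subgroup.mem_inf] at hx ⊢
          refine ⟨Subgroup.mem_centralizer_iff.2 fun y hy => ?_, mul_mem (mul_mem hh hx.2) (inv_mem hh)⟩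
          have e := Subgroup.mem_centralizer_iff.1 hx.1 (h⁻¹ * y * h) (by
            have := hQn h⁻¹ (inv_mem hh) y hy
            rwa [inv_inv] at this)
          calc y * (h * x * h⁻¹) = h * ((h⁻¹ * y * h) * x) * h⁻¹ := by group
            _ = h * (x * (h⁻¹ * y * h)) * h⁻¹ := by rw [e]
            _ = h * x * h⁻¹ * y := by group) hgH
        rw [hC, Subgroup.mem_inf] at hle
        exact hgC hle.1
      have hRn : ∀ h ∈ H, ∀ x ∈ (R : Subgroup H).map H.subtype, h * x * h⁻¹ ∈ (R : Subgroup H).map H.subtype := by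
        rintro h hh _ ⟨r, hr, rfl⟩
        -- the conjugate and `R` generate an abelian `p`-group in `H`
        let D : Subgroup H := C.subgroupOf H
        have hDc : ∀ a b : D, a * b = b * a := fun a b =>
          Subtype.ext (Subtype.ext (commute_of_not_nc hCab a.2 b.2).eq)
        let : CommGroup D := { (inferInstance : Group D) with mul_comm := hDc }
        have hRD : (R : Subgroup H) ≤ D := fun y hy => hRC ⟨y, hy, rfl⟩
        have hDn : ((⟨h, hh⟩ : H) * r * (⟨h, hh⟩ : H)⁻¹) ∈ D := by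
          show h * (r : G) * h⁻¹ ∈ C
          have hrC := hRC ⟨r, hr, rfl⟩
          rw [hC, Subgroup.mem_inf] at hrC ⊢
          refine ⟨Subgroup.mem_centralizer_iff.2 fun y hy => ?_, mul_mem (mul_mem hh r.2) (inv_mem hh)⟩
          have e := Subgroup.mem_centralizer_iff.1 hrC.1 (h⁻¹ * y * h) (by
            have := hQn h⁻¹ (inv_mem hh) y hy
            rwa [inv_inv] at this)
          calc y * (h * (r : G) * h⁻¹) = h * ((h⁻¹ * y * h) * r) * h⁻¹ := by group
            _ = h * (r * (h⁻¹ * y * h)) * h⁻¹ := by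
              simp only [Subgroup.coe_subtype] at e
              rw [e]
            _ = h * r * h⁻¹ * y := by group
        let R' : Sylow p D := R.subtype hRD
        obtain ⟨k, hk⟩ := R.2 ⟨r, hr⟩
        have hk' : ((⟨h, hh⟩ : H) * r * (⟨h, hh⟩ : H)⁻¹) ^ p ^ k = 1 := by
          rw [conj_pow, show r ^ p ^ k = 1 from congrArg Subtype.val hk, mul_one, mul_inv_cancel]
        have hz : IsPGroup p (Subgroup.zpowers (⟨_, hDn⟩ : D)) := by
          obtain ⟨i, -, hi⟩ := (Nat.dvd_prime_pow Fact.out).1 (orderOf_dvd_of_pow_eq_one hk')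
          exact IsPGroup.of_card (n := i) (by rw [Nat.card_zpowers, ← Subgroup.orderOf_coe]; exact hi)
        obtain ⟨S, hS'⟩ := hz.exists_le_sylow
        obtain ⟨c, hcS⟩ := MulAction.exists_smul_eq D R' S
        rw [Sylow.smul_eq_iff_mem_normalizer.2 (Subgroup.normalizer_eq_top_iff.2
          (inferInstance : (R' : Subgroup D).Normal) ▸ Subgroup.mem_top c)] at hcS
        exact ⟨_, (hcS ▸ hS' (Subgroup.mem_zpowers _) : (⟨_, hDn⟩ : D) ∈ (R' : Subgroup D)), rfl⟩
      have hRQ : (R : Subgroup H).map H.subtype = Q := by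
        refine le_antisymm (hmax ⟨R.2.map _, g, ?_, hgco, fun hgc => ?_⟩ hQR') hQR'
        · refine Subgroup.mem_normalizer_iff.2 fun x => ⟨fun hx => hRn g hgH x hx, fun hx => ?_⟩
          have := hRn g⁻¹ (inv_mem hgH) _ hx
          rwa [inv_inv, show g⁻¹ * (g * x * g⁻¹) * g = x by group] at this
        · exact hgC (Subgroup.mem_centralizer_iff.2 fun x hx =>
            Subgroup.mem_centralizer_iff.1 hgc x (hQR' hx))
      -- so `Q` is a Sylow subgroup
      obtain ⟨S, hQS⟩ := hQ.exists_le_sylow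
      have hQeq : Q = S := by
        have hnil := S.2.isNilpotent
        by_contra hne
        have hlt : Q.subgroupOf (S : Subgroup G) < ⊤ := lt_top_iff_ne_top.2 fun e =>
          hne (le_antisymm hQS (Subgroup.subgroupOf_eq_top.1 e))
        obtain ⟨x, hx, hxn⟩ := SetLike.exists_of_lt (Group.normalizerCondition_of_isNilpotent _ hlt)
        have hxH : (x : G) ∈ H := by
          rw [hH]
          refine Subgroup.mem_normalizer_iff.2 fun y => ⟨fun hy => ?_, fun hy => ?_⟩
          · exact ((Subgroup.mem_normalizer_iff.1 hx ⟨y, hQS hy⟩).1 hy : _)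
          · have hyS : y ∈ (S : Subgroup G) := by
              have := mul_mem (mul_mem (inv_mem x.2) (hQS hy)) x.2
              rwa [show (x : G)⁻¹ * (x * y * (x : G)⁻¹) * x = y by group] at this
            exact ((Subgroup.mem_normalizer_iff.1 hx ⟨y, hyS⟩).2 hy : _)
        -- `x` and `Q` generate a `p`-subgroup of `H`
        have hK : IsPGroup p (((S : Subgroup G) ⊓ H).subgroupOf H) :=
          (S.2.to_le inf_le_left).of_equiv (Subgroup.subgroupOfEquivOfLe inf_le_right).symm
        have hRK : (R : Subgroup H) ≤ ((S : Subgroup G) ⊓ H).subgroupOf H := fun y hy => by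
          have hyQ : (y : G) ∈ Q := hRQ ▸ ⟨y, hy, rfl⟩
          exact ⟨hQS hyQ, y.2⟩
        have hKR := R.3 hK hRK
        have hxR : (⟨x, hxH⟩ : H) ∈ (R : Subgroup H) := hKR ▸ (⟨x.2, hxH⟩ : (x : G) ∈ (S : Subgroup G) ⊓ H)
        exact hxn (Subgroup.mem_subgroupOf.2 (hRQ ▸ ⟨_, hxR, rfl⟩))
      obtain ⟨c, hc⟩ := MulAction.exists_smul_eq G S P
      have hmem : ∀ z ∈ (P : Subgroup G), c⁻¹ * z * c ∈ Q := by
        intro z hz
        rw [hQeq]
        rw [← hc, Sylow.coe_subgroup_smul, Subgroup.mem_pointwise_smul_iff_inv_smul_mem] at hz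
        simpa [MulAut.smul_def, mul_assoc] using hz
      have hQab : ¬ NC Q := fun h => hRnc (hRQ.symm ▸ h)
      obtain ⟨a, ha, b, hb, hab⟩ := hP
      refine hab ?_
      have e : c⁻¹ * a * c * (c⁻¹ * b * c) = c⁻¹ * b * c * (c⁻¹ * a * c) :=
        commute_of_not_nc hQab (hmem a ha) (hmem b hb)
      show a * b = b * a
      calc a * b = c * (c⁻¹ * a * c * (c⁻¹ * b * c)) * c⁻¹ := by group
        _ = c * (c⁻¹ * b * c * (c⁻¹ * a * c)) * c⁻¹ := by rw [e]
        _ = b * a := by group

theorem sylow_comm [IsSimpleGroup G] (hna : NC (⊤ : Subgroup G)) (hS : SN G) {p : ℕ} [Fact p.Prime]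
    (P : Sylow p G) : ¬ NC (P : Subgroup G) :=
  sylow_comm_aux p _ G le_rfl hna hS P

end CfsgLib.Invol.SelfNorm
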