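import Cfsg.Agent.Lib.Invol.CAClass
import Cfsg.Agent.Lib.SL2.Large

/-!
# Facts on `PSL(2, q)`, `q` even, for the groups with abelian involution centralisers
-/

set_option autoImplicit false
set_option linter.unusedSectionVars false

namespace CfsgLib.Invol.AIC

open Matrix
open scoped MatrixGroups

variable {F : Type} [Field F] [Finite F] [CharP F 2]

local notation "PSL" => ProjectiveSpecialLinearGroup (Fin 2) F

theorem charP_two_of_card {K : Type} [Field K] [Fintype K] {f : ℕ} (h : Fintype.card K = 2 ^ f) :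
    CharP K 2 := by
  have : Fact (Nat.Prime 2) := ⟨Nat.prime_two⟩
  exact charP_of_card_eq_prime_pow (f := f) h

/-- In characteristic two `SL(2, F)` is `PSL(2, F)`. -/
noncomputable def slEquiv : SL(2, F) ≃* PSL :=
  MulEquiv.ofBijective (CfsgLib.SL2.proj (F := F))
    ⟨(MonoidHom.ker_eq_bot_iff _).1 (by
      rw [QuotientGroup.ker_mk', CfsgLib.BrauerReynolds.center_SL_two_of_char_two]),
      CfsgLib.SL2.proj_surjective⟩

theorem isSimple (hq : 3 ≤ Nat.card F) : IsSimpleGroup PSL := by
  refine CfsgLib.Classical.isSimpleGroup_PSL (Or.inr ?_)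
  by_contra hc
  push Not at hc
  have hle : (Set.univ : Set F) ⊆ {0, 1} := fun x _ => by
    by_cases hx : x = 0
    · exact Or.inl hx
    · refine Or.inr ?_
      rcases sq_eq_one_iff.1 (hc x hx) with e | e
      · exact e
      · rw [e, CharTwo.neg_eq]; rfl
  have := (Set.ncard_le_ncard hle).trans (Set.ncard_insert_le _ _)
  rw [Set.ncard_univ, Set.ncard_singleton] at this
  omega

theorem commutator_eq_top (hq : 3 ≤ Nat.card F) : commutator PSL = ⊤ := by
  have := isSimple hq
  refine (Subgroup.Normal.eq_bot_or_eq_top inferInstance).resolve_left fun e => ?_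
  have hc : ∀ a b : PSL, a * b = b * a := fun a b => by
    have := Subgroup.commutator_mem_commutator (Subgroup.mem_top a) (Subgroup.mem_top b)
    rw [← commutator_def, e, Subgroup.mem_bot, commutatorElement_eq_one_iff_mul_comm] at this
    exact this
  let x : SL(2, F) := ⟨!![1, 1; 0, 1], by simp [Matrix.det_fin_two]⟩
  let y : SL(2, F) := ⟨!![1, 0; 1, 1], by simp [Matrix.det_fin_two]⟩
  have h := (slEquiv (F := F)).injective (a₁ := x * y) (a₂ := y * x)
    (by rw [map_mul, map_mul]; exact hc _ _)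
  have h00 := congrArg (fun M : SL(2, F) => (M : Matrix (Fin 2) (Fin 2) F) 0 0) h
  simp only [Matrix.SpecialLinearGroup.coe_mul] at h00
  simp [x, y] at h00

/-- An element commuting with an involution squares to one. -/
theorem sq_of_comm_invol {c y : PSL} (hc : c * c = 1) (hc1 : c ≠ 1) (hy : Commute y c) :
    y * y = 1 := by
  obtain ⟨g, rfl⟩ := (slEquiv (F := F)).surjective c
  obtain ⟨x, rfl⟩ := (slEquiv (F := F)).surjective y
  rw [← map_mul] at hc ⊢
  have hg : g * g = 1 := (slEquiv (F := F)).map_eq_one_iff.1 hc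
  have hg1 : g ≠ 1 := fun e => hc1 (by rw [e, map_one])
  have hns : CfsgLib.SL2.NonScalar (g : Matrix (Fin 2) (Fin 2) F) := by
    by_contra hn
    have := (CfsgLib.SL2.mem_center_iff_not_nonScalar _).2 hn
    rw [CfsgLib.BrauerReynolds.center_SL_two_of_char_two, Subgroup.mem_bot] at this
    exact hg1 this
  have htr : (g : Matrix (Fin 2) (Fin 2) F).trace = 0 := by
    have hnr : ¬ CfsgLib.SL2.Regular g := fun h => h.ne_inv (inv_eq_of_mul_eq_one_right hg).symm
    have e := not_not.1 hnr
    have h4 : (4 : F) = 0 := by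
      rw [show (4 : F) = 2 * 2 by norm_num, CharTwo.two_eq_zero, zero_mul]
    rw [h4] at e
    exact mul_self_eq_zero.1 e
  have hx : x ∈ CfsgLib.SL2.cent g := CfsgLib.SL2.mem_cent_iff.2
    ((slEquiv (F := F)).injective (by rw [map_mul, map_mul]; exact hy.eq.symm))
  obtain ⟨a, b, hab, hn⟩ := CfsgLib.SL2.exists_coords hns hx
  rw [htr, mul_zero, add_zero] at hn
  rw [(slEquiv (F := F)).map_eq_one_iff]
  apply Subtype.ext
  have hgg : (g : Matrix (Fin 2) (Fin 2) F) * (g : Matrix (Fin 2) (Fin 2) F) = 1 := by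
    rw [← Matrix.SpecialLinearGroup.coe_mul, hg, Matrix.SpecialLinearGroup.coe_one]
  rw [Matrix.SpecialLinearGroup.coe_mul, Matrix.SpecialLinearGroup.coe_one, hab]
  simp only [Matrix.add_mul, Matrix.mul_add, Matrix.smul_mul, Matrix.mul_smul, Matrix.one_mul,
    Matrix.mul_one, smul_add, smul_smul, hgg]
  rw [show (a * a) • (1 : Matrix (Fin 2) (Fin 2) F) + (a * b) • (g : Matrix (Fin 2) (Fin 2) F) +
      ((b * a) • (g : Matrix (Fin 2) (Fin 2) F) + (b * b) • 1) =
      (a * a + b * b) • 1 + (a * b + b * a) • (g : Matrix (Fin 2) (Fin 2) F) by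
    rw [add_smul, add_smul]; abel, hn, mul_comm b a, CharTwo.add_self_eq_zero, zero_smul, one_smul,
    add_zero]

/-- A subgroup of exponent two has at most `q` elements. -/
theorem card_le_of_sq {H : Subgroup PSL} (h : ∀ x ∈ H, x * x = 1) : Nat.card H ≤ Nat.card F := by
  have : Fact (Nat.Prime 2) := ⟨Nat.prime_two⟩
  have hp : IsPGroup 2 H := fun x => ⟨1, Subtype.ext (by rw [pow_one, pow_two]; exact h x x.2)⟩
  obtain ⟨k, hk⟩ := IsPGroup.iff_card.1 hp
  let _ := Fintype.ofFinite F
  obtain ⟨n, -, hn⟩ := FiniteField.card F 2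
  have hF : Nat.card F = 2 ^ (n : ℕ) := by
    rw [Nat.card_eq_fintype_card]; exact hn
  have he : Even (Nat.card F) := hF ▸ (Nat.even_pow.2 ⟨even_two, n.pos.ne'⟩)
  have h1 : 1 ≤ Nat.card F := Nat.card_pos
  have hd := (Subgroup.card_subgroup_dvd_card H).trans (Dvd.intro_left _ (CfsgLib.SL2.card_PSL (F := F)))
  rw [hk] at hd ⊢
  refine Nat.le_of_dvd h1 ?_
  refine (Nat.Coprime.pow_left k ((Nat.Prime.coprime_iff_not_dvd Nat.prime_two).2 ?_)).dvd_of_dvd_mul_right hd
  rw [← even_iff_two_dvd, Nat.not_even_iff_odd, Nat.odd_mul]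
  exact ⟨Nat.Even.sub_odd h1 he odd_one, he.add_one⟩

/-- A subgroup of odd prime power order is cyclic. -/
theorem isCyclic_of_odd {p : ℕ} [Fact p.Prime] (hp : Odd p) {H : Subgroup PSL} (h : IsPGroup p H) :
    IsCyclic H := by
  rcases subsingleton_or_nontrivial H with hs | hs
  · exact isCyclic_of_subsingleton
  have := h.center_nontrivial
  obtain ⟨⟨z, hzc⟩, hz1⟩ := exists_ne (1 : Subgroup.center H)
  obtain ⟨g, hg⟩ := (slEquiv (F := F)).surjective (z : PSL)
  have hg1 : g ≠ 1 := fun e => hz1 (Subtype.ext (Subtype.ext (hg.symm.trans (by rw [e, map_one]; rfl))))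
  have hodd : Odd (orderOf g) := by
    obtain ⟨k, hk⟩ := h z
    refine Odd.of_dvd_nat (hp.pow (n := k)) (orderOf_dvd_of_pow_eq_one ((slEquiv (F := F)).injective ?_))
    rw [map_pow, hg, map_one]
    exact congrArg Subtype.val hk
  have hreg : CfsgLib.SL2.Regular g := by
    by_contra hn
    have : Fact (Nat.Prime 2) := ⟨Nat.prime_two⟩
    have hd : orderOf g ∣ 4 := orderOf_dvd_of_pow_eq_one (CfsgLib.SL2.pow_two_mul_char_of_not_regular hn 2)
    rw [show 4 = 2 ^ 2 from rfl] at hd
    have hc : (orderOf g).Coprime (2 ^ 2) := Nat.Coprime.pow_right 2 (Nat.coprime_two_right.2 hodd)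
    exact hg1 (orderOf_eq_one_iff.1 (Nat.dvd_one.1 (hc.dvd_of_dvd_mul_right (by rwa [one_mul]))))
  have hcy := (CfsgLib.SL2.cent_regular hreg).1
  let f : H →* CfsgLib.SL2.cent g :=
    { toFun := fun x => ⟨(slEquiv (F := F)).symm x, CfsgLib.SL2.mem_cent_iff.2
        ((slEquiv (F := F)).injective (by
          rw [map_mul, map_mul, hg, MulEquiv.apply_symm_apply]
          exact congrArg Subtype.val (Subgroup.mem_center_iff.1 hzc x).symm))⟩
      map_one' := Subtype.ext (map_one _)
      map_mul' := fun x y => Subtype.ext (map_mul _ (x : PSL) y) }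
  exact isCyclic_of_injective f fun x y e =>
    Subtype.ext ((slEquiv (F := F)).symm.injective (congrArg Subtype.val e))

end CfsgLib.Invol.AIC
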