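import Cfsg.Agent.Lib.Invol.AIC
import Cfsg.Agent.Lib.Transfer.AbelianSylow

/-!
# An odd central extension of `PSL(2, 2^n)` splits

Its odd Sylow subgroups are abelian, so by transfer the kernel meets the derived subgroup trivially.
-/

set_option autoImplicit false
set_option linter.unusedSectionVars false

namespace CfsgLib.Invol.AIC

universe u

variable {G : Type u} [Group G] [Finite G]

theorem IsOddCover.ker_inf_commutator {F : Type} [Field F] [Finite F] [CharP F 2]
    {φ : G →* Matrix.ProjectiveSpecialLinearGroup (Fin 2) F} (hker : φ.ker ≤ Subgroup.center G)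
    (hodd : Odd (Nat.card φ.ker)) : φ.ker ⊓ commutator G = ⊥ := by
  rw [Subgroup.eq_bot_iff_forall]
  rintro z ⟨hz, hzc⟩
  by_contra hz1
  obtain ⟨p, hp, hpd⟩ := Nat.exists_prime_and_dvd (n := orderOf z) (fun e => hz1 (orderOf_eq_one_iff.1 e))
  have : Fact p.Prime := ⟨hp⟩
  have hpodd : Odd p := (hodd.of_dvd_nat (hpd.trans (by
    rw [← Subgroup.orderOf_mk z hz]; exact orderOf_dvd_natCard _)))
  obtain ⟨w, hwdef⟩ : ∃ w, w = z ^ (orderOf z / p) := ⟨_, rfl⟩
  have hw : orderOf w = p := by
    rw [hwdef]; exact orderOf_pow_orderOf_div (orderOf_pos z).ne' hpd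
  have hwc : w ∈ Subgroup.center G := hwdef ▸ pow_mem (hker hz) _
  have hP : IsPGroup p (Subgroup.zpowers w) := IsPGroup.of_card (n := 1) (by rw [Nat.card_zpowers, hw, pow_one])
  obtain ⟨P, hPle⟩ := hP.exists_le_sylow
  let f : (P : Subgroup G) →* (P : Subgroup G).map φ :=
    (φ.comp (P : Subgroup G).subtype).codRestrict _ fun x => Subgroup.mem_map_of_mem φ x.2
  have hcyc : IsCyclic ((P : Subgroup G).map φ) := isCyclic_of_odd hpodd (P.2.map φ)
  have hf : f.ker ≤ Subgroup.center (P : Subgroup G) := fun x hx => Subgroup.mem_center_iff.2 fun y =>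
    Subtype.ext (Subgroup.mem_center_iff.1 (hker (congrArg Subtype.val hx : φ (x : G) = 1)) y)
  have hab : IsMulCommutative (P : Subgroup G) := f.isMulCommutative_of_isCyclic_of_ker_le_center hf
  have hw1 : w = 1 := CfsgLib.Transfer.eq_one_of_abelian_sylow P hab
    (hPle (Subgroup.mem_zpowers w)) (fun n _ => Subgroup.mem_center_iff.1 hwc n)
    (hwdef ▸ pow_mem hzc _)
  rw [hw1, orderOf_one] at hw
  exact hp.one_lt.ne hw

/-- An odd central extension of `PSL(2, 2^n)` is `SL(2, 2^n) × A` with `A` abelian of odd order. -/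
theorem IsOddCover.split (h : IsOddCover G) :
    ∃ (F : Type) (_ : Field F) (_ : Fintype F) (A : Type) (_ : CommGroup A) (_ : Finite A),
      CharP F 2 ∧ Odd (Nat.card A) ∧
        Nonempty (G ≃* Matrix.SpecialLinearGroup (Fin 2) F × A) := by
  obtain ⟨F, iF, iF', f, hf, hF, φ, hφ, hker, hodd⟩ := h
  have : CharP F 2 := charP_two_of_card hF
  have hq : 3 ≤ Nat.card F := by
    rw [Nat.card_eq_fintype_card, hF]
    have := Nat.pow_le_pow_right two_pos hf
    omega
  have hbot := IsOddCover.ker_inf_commutator hker hodd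
  -- `G` is the product of its derived subgroup and the kernel
  have hsurj : ∀ g : G, ∃ a ∈ commutator G, φ a = φ g := fun g => by
    have : φ g ∈ (commutator G).map φ := by
      rw [commutator_def, Subgroup.map_commutator, Subgroup.map_top_of_surjective φ hφ, ← commutator_def,
        commutator_eq_top hq]
      exact Subgroup.mem_top _
    exact this
  let ψ : commutator G →* Matrix.ProjectiveSpecialLinearGroup (Fin 2) F :=
    φ.comp (commutator G).subtype
  have hψ : Function.Bijective ψ := by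
    refine ⟨(injective_iff_map_eq_one ψ).2 fun x hx => Subtype.ext ?_, fun y => ?_⟩
    · exact Subgroup.mem_bot.1 (hbot ▸ Subgroup.mem_inf.2 ⟨hx, x.2⟩)
    · obtain ⟨g, rfl⟩ := hφ y
      obtain ⟨a, ha, e⟩ := hsurj g
      exact ⟨⟨a, ha⟩, e⟩
  let m : commutator G × φ.ker →* G :=
    MonoidHom.noncommCoprod (commutator G).subtype φ.ker.subtype
      fun a k => Subgroup.mem_center_iff.1 (hker k.2) a
  have hm : Function.Bijective m := by
    refine ⟨(injective_iff_map_eq_one m).2 ?_, fun g => ?_⟩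
    · rintro ⟨a, k⟩ e
      change (a : G) * k = 1 at e
      have ha : (a : G) = 1 := Subgroup.mem_bot.1 (hbot ▸ Subgroup.mem_inf.2
        ⟨by rw [eq_inv_of_mul_eq_one_left e]; exact inv_mem k.2, a.2⟩)
      rw [ha, one_mul] at e
      exact Prod.ext (Subtype.ext ha) (Subtype.ext e)
    · obtain ⟨a, ha, e⟩ := hsurj g
      exact ⟨(⟨a, ha⟩, ⟨a⁻¹ * g, by rw [MonoidHom.mem_ker, map_mul, map_inv, e, inv_mul_cancel]⟩),
        mul_inv_cancel_left _ _⟩
  let iK : CommGroup φ.ker :=
    { (inferInstance : Group φ.ker) with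
      mul_comm := fun a b => Subtype.ext (Subgroup.mem_center_iff.1 (hker b.2) a) }
  let A := {_i : Fin (Nat.card φ.ker) // True}
  let e : A ≃ φ.ker := (Equiv.subtypeUnivEquiv fun _ => trivial).trans (Finite.equivFin φ.ker).symm
  refine ⟨F, iF, iF', A, e.commGroup, inferInstance, ‹_›, ?_, ⟨?_⟩⟩
  · rwa [Nat.card_congr e]
  let iA : CommGroup A := e.commGroup
  exact (MulEquiv.ofBijective m hm).symm.trans (MulEquiv.prodCongr
    ((MulEquiv.ofBijective ψ hψ).trans (slEquiv (F := F)).symm) (Equiv.mulEquiv e).symm)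

end CfsgLib.Invol.AIC
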