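import Cfsg.Agent.S0182
import Cfsg.Agent.S0731
import Cfsg.Agent.S1230
import Cfsg.Agent.Lib.SL2.Klein
import Cfsg.Agent.Lib.BrauerReynolds.EvenGeom

/-!
# An involution centraliser with trivially intersecting conjugates

The normaliser `N` of the involution centraliser `A` gives a Zassenhaus action on `G ⧸ N` with
kernel `A`, as soon as `A` is the centraliser of each of its involutions and `N` contains
the centraliser of each non-identity element of `A`. This covers the groups in which commuting is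
transitive, the groups with abelian involution centralisers and the groups with trivially
intersecting centralisers.
-/

set_option autoImplicit false
set_option linter.unusedSectionVars false

namespace CfsgLib.Invol.CASimple

open scoped Pointwise
open MulAction

variable {G : Type*} [Group G] [Finite G]

/-- Commuting is transitive on non-identity elements. -/
def CA (G : Type*) [Group G] : Prop :=
  ∀ x a b : G, x ≠ 1 → Commute a x → Commute b x → Commute a b

theorem mem_cent {x y : G} : y ∈ Subgroup.centralizer ({x} : Set G) ↔ Commute y x :=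
  Subgroup.mem_centralizer_singleton_iff

theorem cent_eq (h : CA G) {x y : G} (hx : x ≠ 1) (hy : y ≠ 1) (hc : Commute y x) :
    Subgroup.centralizer ({y} : Set G) = Subgroup.centralizer ({x} : Set G) := by
  ext z
  rw [mem_cent, mem_cent]
  exact ⟨fun hz => h y z x hy hz hc.symm, fun hz => h x z y hx hz hc⟩

theorem cent_conj (g x : G) {z : G} :
    z ∈ Subgroup.centralizer ({g * x * g⁻¹} : Set G) ↔
      g⁻¹ * z * g ∈ Subgroup.centralizer ({x} : Set G) := by
  simp only [mem_cent, Commute, SemiconjBy]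
  constructor <;> intro e
  · calc g⁻¹ * z * g * x = g⁻¹ * (z * (g * x * g⁻¹)) * g := by group
      _ = g⁻¹ * ((g * x * g⁻¹) * z) * g := by rw [e]
      _ = x * (g⁻¹ * z * g) := by group
  · calc z * (g * x * g⁻¹) = g * (g⁻¹ * z * g * x) * g⁻¹ := by group
      _ = g * (x * (g⁻¹ * z * g)) * g⁻¹ := by rw [e]
      _ = g * x * g⁻¹ * z := by group

/-- Two involutions that are not conjugate have an involution commuting with both. -/
theorem conj_or_link {s t : G} (hs : s * s = 1) (ht : t * t = 1) :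
    IsConj s t ∨ ∃ w : G, w ≠ 1 ∧ w * w = 1 ∧ Commute w s ∧ Commute w t := by
  have hsi : s⁻¹ = s := inv_eq_of_mul_eq_one_right hs
  have hti : t⁻¹ = t := inv_eq_of_mul_eq_one_right ht
  have hflip : s * (s * t) * s⁻¹ = (s * t)⁻¹ := by
    rw [mul_inv_rev, hsi, hti, ← mul_assoc, hs, one_mul]
  have hflipk : ∀ k : ℕ, s * (s * t) ^ k * s⁻¹ = ((s * t) ^ k)⁻¹ := fun k => by
    rw [← conj_pow, hflip, inv_pow]
  rcases Nat.even_or_odd (orderOf (s * t)) with ⟨k, hk⟩ | ⟨k, hk⟩
  · have hk0 : k ≠ 0 := by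
      rintro rfl
      exact (orderOf_pos (s * t)).ne' (by simpa using hk)
    refine Or.inr ⟨(s * t) ^ k, pow_ne_one_of_lt_orderOf hk0 (by omega), ?_⟩
    have hw : ((s * t) ^ k)⁻¹ = (s * t) ^ k := inv_eq_of_mul_eq_one_right (by
      rw [← pow_add, ← hk, pow_orderOf_eq_one])
    have hws : Commute ((s * t) ^ k) s := by
      have e := hflipk k
      rw [hw, mul_inv_eq_iff_eq_mul] at e
      exact e.symm
    refine ⟨inv_eq_iff_mul_eq_one.1 hw, hws, ?_⟩
    have hwr : Commute ((s * t) ^ k) (s * t) := (Commute.refl _).pow_left k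
    have := hws.mul_right hwr
    rwa [← mul_assoc, hs, one_mul] at this
  · refine Or.inl (isConj_iff.2 ⟨(s * t) ^ k, ?_⟩)
    have e := hflipk k
    have e2 : s * ((s * t) ^ k)⁻¹ = (s * t) ^ k * s := by
      rw [← e]
      calc s * (s * (s * t) ^ k * s⁻¹) = s * s * (s * t) ^ k * s⁻¹ := by group
        _ = _ := by rw [hs, one_mul, hsi]
    rw [mul_assoc, e2, ← mul_assoc, ← pow_add]
    have : (s * t) ^ (k + k) = (s * t)⁻¹ := by
      refine (inv_eq_of_mul_eq_one_left ?_).symm
      rw [← pow_succ, show k + k + 1 = orderOf (s * t) by omega, pow_orderOf_eq_one]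
    rw [this, mul_inv_rev, hsi, hti, mul_assoc, hs, mul_one]

theorem involution_iff {x : G} : orderOf x = 2 ↔ x * x = 1 ∧ x ≠ 1 := by
  rw [orderOf_eq_prime_iff, pow_two]

/-- An element squaring to one that normalises a subgroup of odd index lies in it. -/
theorem mem_of_sq_one {L : Subgroup G} (hL : ¬ 2 ∣ L.index) {x : G}
    (hx : x ∈ Subgroup.normalizer (L : Set G)) (hx2 : x * x = 1) : x ∈ L := by
  have hn : (L.subgroupOf (Subgroup.normalizer (L : Set G))).Normal := Subgroup.normal_in_normalizer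
  have hodd : ¬ 2 ∣ (L.subgroupOf (Subgroup.normalizer (L : Set G))).index := fun hd => hL (by
    rw [← Subgroup.relIndex_mul_index (Subgroup.le_normalizer (H := L))]
    exact dvd_mul_of_dvd_left hd _)
  let y : (Subgroup.normalizer (L : Set G)) ⧸ L.subgroupOf (Subgroup.normalizer (L : Set G)) :=
    QuotientGroup.mk ⟨x, hx⟩
  have hy2 : orderOf y ∣ 2 := orderOf_dvd_of_pow_eq_one (by
    rw [pow_two, ← QuotientGroup.mk_mul, ← QuotientGroup.mk_one]
    exact congrArg _ (Subtype.ext hx2))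
  have hy : orderOf y = 1 := by
    rcases (Nat.dvd_prime Nat.prime_two).1 hy2 with e | e
    · exact e
    · exact absurd (by rw [Subgroup.index_eq_card, ← e]; exact orderOf_dvd_natCard y) hodd
  exact (QuotientGroup.eq_one_iff (N := L.subgroupOf (Subgroup.normalizer (L : Set G))) _).1
    (orderOf_eq_one_iff.1 hy)

/-- The normaliser of `A`. -/
abbrev nA (A : Subgroup G) : Subgroup G := Subgroup.normalizer (A : Set G)

/-- The involutions of `A`. -/
abbrev invA (A : Subgroup G) : Set G := {x | x ∈ A ∧ x * x = 1 ∧ x ≠ 1}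

/-- An involution inverts no element of order above two of an abelian group of odd index that is
the centraliser of one of its involutions. -/
theorem sq_eq_one_of_inverted {A : Subgroup G} (hab : ∀ a ∈ A, ∀ b ∈ A, Commute a b)
    (hodd : ¬ 2 ∣ A.index) {v a : G} (hv : v * v = 1) (ha : a ∈ A) (hva : v * a * v = a⁻¹) :
    a * a = 1 := by
  have hvi : v⁻¹ = v := inv_eq_of_mul_eq_one_right hv
  have hle : A ≤ Subgroup.centralizer ({a} : Set G) := fun b hb => mem_cent.2 (hab b hb a ha)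
  have key : ∀ y : G, Commute y a → Commute (v * y * v) a := by
    intro y hy
    have e : Commute (v * y * v) (v * a * v) := by
      show v * y * v * (v * a * v) = v * a * v * (v * y * v)
      rw [show v * y * v * (v * a * v) = v * (y * (v * v) * a) * v by group,
        show v * a * v * (v * y * v) = v * (a * (v * v) * y) * v by group, hv, mul_one, mul_one, hy.eq]
    rw [hva] at e
    exact Commute.inv_right_iff.1 e
  have hv' : v ∈ Subgroup.centralizer ({a} : Set G) := by
    refine mem_of_sq_one (fun hd => hodd (hd.trans (Subgroup.index_dvd_of_le hle)))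
      (Subgroup.mem_normalizer_iff.2 fun y => ?_) hv
    rw [hvi, mem_cent, mem_cent]
    refine ⟨key y, fun hy => ?_⟩
    have e := key _ hy
    rwa [show v * (v * y * v) * v = (v * v) * y * (v * v) by group, hv, one_mul, mul_one] at e
  have e := (mem_cent.1 hv').eq
  rw [e, mul_assoc, hv, mul_one] at hva
  nth_rewrite 1 [hva]
  exact inv_mul_cancel a

/-- The set-up without the condition on centralisers: the centraliser `A` of the involution `t` is
of odd index, is not normal, and is the centraliser of each of its involutions. -/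
structure PreSetup (A : Subgroup G) (t : G) : Prop where
  invC : ∀ x ∈ A, x * x = 1 → x ≠ 1 → Subgroup.centralizer ({x} : Set G) = A
  sq : t * t = 1
  ne : t ≠ 1
  eq : A = Subgroup.centralizer ({t} : Set G)
  nonnormal : ¬ A.Normal
  sylow : ¬ 2 ∣ A.index

/-- The set-up: in addition the normaliser of `A` contains the centraliser of each non-identity
element of `A`. -/
structure Setup (A : Subgroup G) (t : G) : Prop extends PreSetup A t where
  cle : ∀ x ∈ A, x ≠ 1 → Subgroup.centralizer ({x} : Set G) ≤ Subgroup.normalizer (A : Set G)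

variable {A : Subgroup G} {t : G}

theorem PreSetup.t_mem (h : PreSetup A t) : t ∈ A := by
  rw [h.eq, mem_cent]

theorem PreSetup.comm_invol (h : PreSetup A t) {a s : G} (ha : a ∈ A) (hs : s ∈ A) (hs2 : s * s = 1) :
    Commute a s := by
  by_cases h1 : s = 1
  · exact h1 ▸ Commute.one_right a
  · exact mem_cent.1 ((h.invC s hs hs2 h1).symm ▸ ha)

theorem PreSetup.mem_of_commute (h : PreSetup A t) {x y : G} (hx : x ∈ A) (hx2 : x * x = 1) (h1 : x ≠ 1)
    (hc : Commute y x) : y ∈ A := by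
  rw [← h.invC x hx hx2 h1]; exact mem_cent.2 hc

theorem PreSetup.invol_mem (h : PreSetup A t) {x : G} (hx : x ∈ nA A) (hx2 : x * x = 1) : x ∈ A :=
  mem_of_sq_one h.sylow hx hx2

theorem PreSetup.mem_invA (h : PreSetup A t) {x : G} (hx : x ∈ nA A) (hx2 : x * x = 1) (h1 : x ≠ 1) :
    x ∈ invA A := ⟨h.invol_mem hx hx2, hx2, h1⟩

/-- Moving an involution of `A` into `A` is done by the normaliser. -/
theorem PreSetup.mem_nA_of_conj_invol (h : PreSetup A t) {g x : G} (hx : x ∈ A) (hx2 : x * x = 1)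
    (h1 : x ≠ 1) (hgx : g * x * g⁻¹ ∈ A) : g ∈ nA A := by
  refine Subgroup.mem_normalizer_iff.2 fun y => ?_
  have h2 : g * x * g⁻¹ ≠ 1 := fun e => h1 (conj_eq_one_iff.1 e)
  have h3 : g * x * g⁻¹ * (g * x * g⁻¹) = 1 := by
    rw [show g * x * g⁻¹ * (g * x * g⁻¹) = g * (x * x) * g⁻¹ by group, hx2, mul_one, mul_inv_cancel]
  rw [← h.invC x hx hx2 h1, ← (h.invC _ hgx h3 h2).trans (h.invC x hx hx2 h1).symm]
  rw [cent_conj g x (z := g * y * g⁻¹), h.invC _ hgx h3 h2, ← h.invC x hx hx2 h1]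
  simp [mul_assoc]

/-- Moving a non-identity element of `A` into `A` is done by the normaliser. -/
theorem Setup.mem_nA_of_conj (h : Setup A t) {g x : G} (hx : x ∈ A) (h1 : x ≠ 1)
    (hgx : g * x * g⁻¹ ∈ A) : g ∈ nA A := by
  have h2 : g * x * g⁻¹ ≠ 1 := fun e => h1 (conj_eq_one_iff.1 e)
  refine h.mem_nA_of_conj_invol h.t_mem h.sq h.ne (h.invol_mem (h.cle _ hgx h2 ?_) ?_)
  · rw [cent_conj, mem_cent, show g⁻¹ * (g * t * g⁻¹) * g = t by group]
    exact (h.comm_invol hx h.t_mem h.sq).symm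
  · rw [show g * t * g⁻¹ * (g * t * g⁻¹) = g * (t * t) * g⁻¹ by group, h.sq, mul_one, mul_inv_cancel]

theorem PreSetup.exists_outside (h : PreSetup A t) :
    ∃ u : G, u * u = 1 ∧ u ≠ 1 ∧ u ∉ nA A := by
  by_contra hc
  push Not at hc
  have hall : ∀ g : G, g * t * g⁻¹ ∈ A := fun g => h.invol_mem (hc _
    (by rw [show g * t * g⁻¹ * (g * t * g⁻¹) = g * (t * t) * g⁻¹ by group, h.sq, mul_one,
      mul_inv_cancel]) (fun e => h.ne (conj_eq_one_iff.1 e)))
    (by rw [show g * t * g⁻¹ * (g * t * g⁻¹) = g * (t * t) * g⁻¹ by group, h.sq, mul_one,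
      mul_inv_cancel])
  exact h.nonnormal ⟨fun a ha g =>
    (Subgroup.mem_normalizer_iff.1 (h.mem_nA_of_conj_invol h.t_mem h.sq h.ne (hall g)) a).1 ha⟩

theorem PreSetup.one_class (h : PreSetup A t) {s : G} (hs : s * s = 1) (hs1 : s ≠ 1) :
    IsConj t s := by
  obtain ⟨u, hu, hu1, huN⟩ := h.exists_outside
  have far : ∀ {x y : G}, x * x = 1 → y * y = 1 → x ∈ A → x ≠ 1 → y ∉ A → IsConj x y := by
    intro x y hx hy hxA hx1 hyA
    refine (conj_or_link hx hy).resolve_right fun ⟨w, hw1, hw2, hwx, hwy⟩ => hyA ?_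
    exact h.mem_of_commute (h.mem_of_commute hxA hx hx1 hwx) hw2 hw1 hwy.symm
  have huA : u ∉ A := fun e => huN (Subgroup.le_normalizer e)
  by_cases hsA : s ∈ A
  · exact (far h.sq hu h.t_mem h.ne huA).trans (far hs hu hsA hs1 huA).symm
  · exact far h.sq hs h.t_mem h.ne hsA

theorem PreSetup.conj_t_mem (h : PreSetup A t) {g : G} (hg : g ∈ nA A) : g * t * g⁻¹ ∈ invA A :=
  ⟨(Subgroup.mem_normalizer_iff.1 hg t).1 h.t_mem,
    by rw [show g * t * g⁻¹ * (g * t * g⁻¹) = g * (t * t) * g⁻¹ by group, h.sq, mul_one,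
      mul_inv_cancel], fun e => h.ne (conj_eq_one_iff.1 e)⟩

theorem conj_t_eq_iff {g k : G} :
    g * t * g⁻¹ = k * t * k⁻¹ ↔ g⁻¹ * k ∈ Subgroup.centralizer ({t} : Set G) := by
  rw [mem_cent]
  constructor
  · intro e
    calc g⁻¹ * k * t = g⁻¹ * (k * t * k⁻¹) * k := by group
      _ = g⁻¹ * (g * t * g⁻¹) * k := by rw [e]
      _ = t * (g⁻¹ * k) := by group
  · intro e
    calc g * t * g⁻¹ = g * (t * (g⁻¹ * k)) * k⁻¹ := by group
      _ = g * (g⁻¹ * k * t) * k⁻¹ := by rw [e.eq]
      _ = k * t * k⁻¹ := by group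

theorem PreSetup.card_invA (h : PreSetup A t) :
    Nat.card ((nA A) ⧸ A.subgroupOf (nA A)) = (invA A).ncard := by
  have hiff : ∀ g k : nA A, g⁻¹ * k ∈ A.subgroupOf (nA A) ↔
      (g : G) * t * (g : G)⁻¹ = (k : G) * t * (k : G)⁻¹ := fun g k => by
    rw [conj_t_eq_iff, ← h.eq, Subgroup.mem_subgroupOf]
    simp
  rw [← Nat.card_coe_set_eq]
  refine Nat.card_eq_of_bijective (fun x : (nA A) ⧸ A.subgroupOf (nA A) => Quotient.liftOn' x
    (fun g : nA A => (⟨_, h.conj_t_mem g.2⟩ : invA A))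
    (fun g k hgk => Subtype.ext ((hiff g k).1 (QuotientGroup.leftRel_apply.1 hgk)))) ⟨?_, ?_⟩
  · intro x y
    induction x using Quotient.inductionOn' with
    | h g =>
      induction y using Quotient.inductionOn' with
      | h k =>
        exact fun e => Quotient.sound' (QuotientGroup.leftRel_apply.2 ((hiff g k).2 (congrArg Subtype.val e)))
  · rintro ⟨s, hsA, hs, hs1⟩
    obtain ⟨g, hg⟩ := isConj_iff.1 (h.one_class hs hs1)
    exact ⟨Quotient.mk'' ⟨g, h.mem_nA_of_conj_invol h.t_mem h.sq h.ne (by rw [hg]; exact hsA)⟩, Subtype.ext hg⟩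

theorem PreSetup.card_invol (h : PreSetup A t) :
    Nat.card {x : G // x * x = 1 ∧ x ≠ 1} = A.index := by
  have hiff : ∀ g k : G, g⁻¹ * k ∈ A ↔ g * t * g⁻¹ = k * t * k⁻¹ := fun g k => by
    rw [conj_t_eq_iff, ← h.eq]
  rw [Subgroup.index_eq_card]
  symm
  refine Nat.card_eq_of_bijective (fun x : G ⧸ A => Quotient.liftOn' x
    (fun g => (⟨g * t * g⁻¹,
      by rw [show g * t * g⁻¹ * (g * t * g⁻¹) = g * (t * t) * g⁻¹ by group, h.sq, mul_one,
        mul_inv_cancel], fun e => h.ne (conj_eq_one_iff.1 e)⟩ : {x : G // x * x = 1 ∧ x ≠ 1}))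
    (fun g k hgk => Subtype.ext ((hiff g k).1 (QuotientGroup.leftRel_apply.1 hgk)))) ⟨?_, ?_⟩
  · intro x y
    induction x using Quotient.inductionOn' with
    | h g =>
      induction y using Quotient.inductionOn' with
      | h k =>
        exact fun e => Quotient.sound' (QuotientGroup.leftRel_apply.2 ((hiff g k).2 (congrArg Subtype.val e)))
  · rintro ⟨s, hs, hs1⟩
    obtain ⟨g, hg⟩ := isConj_iff.1 (h.one_class hs hs1)
    exact ⟨Quotient.mk'' g, Subtype.ext hg⟩

theorem Setup.fiber_inj (h : Setup A t) {v v' v'' : G} (hv' : v' * v' = 1) (hv'' : v'' * v'' = 1)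
    (hvN : v' ∉ nA A) (hA : v' * v⁻¹ * (v * v'') ∈ A) : v' = v'' := by
  rw [show v' * v⁻¹ * (v * v'') = v' * v'' by group] at hA
  by_contra hne
  have h1 : v' * v'' ≠ 1 := fun e => hne (by
    rw [← inv_eq_of_mul_eq_one_right hv', inv_eq_of_mul_eq_one_right e])
  refine hvN (h.mem_nA_of_conj hA h1 ?_)
  rw [inv_eq_of_mul_eq_one_right hv', ← mul_assoc v' v' v'', hv', one_mul]
  have e := inv_mem hA
  rwa [mul_inv_rev, inv_eq_of_mul_eq_one_right hv', inv_eq_of_mul_eq_one_right hv''] at e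

/-- Every coset of `N` other than `N` holds exactly as many involutions as `A`, and they hit
every coset of `A` in `N`. -/
theorem Setup.coset_invol (h : Setup A t) {g : G} (hg : g ∉ nA A) :
    ∃ v : G, v * v = 1 ∧ v ≠ 1 ∧ g⁻¹ * v ∈ nA A ∧
      ∀ n ∈ nA A, ∃ w : G, w * w = 1 ∧ v * w ∈ nA A ∧ n⁻¹ * (v * w) ∈ A := by
  classical
  have : Fintype G := Fintype.ofFinite G
  let V := {x : G // (x * x = 1 ∧ x ≠ 1) ∧ x ∉ nA A}
  let C := {c : G ⧸ nA A // c ≠ QuotientGroup.mk 1}
  let φ : V → C := fun x => ⟨QuotientGroup.mk x.1, fun e => x.2.2 (by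
    have := (QuotientGroup.eq.1 e.symm); simpa using this)⟩
  let Q := (nA A) ⧸ A.subgroupOf (nA A)
  have hdiff : ∀ c (x y : {x : V // φ x = c}), x.1.1⁻¹ * y.1.1 ∈ nA A := fun c x y =>
    QuotientGroup.eq.1 (congrArg Subtype.val (x.2.trans y.2.symm))
  have hinvv : ∀ x : V, x.1⁻¹ = x.1 := fun x => inv_eq_of_mul_eq_one_right x.2.1.1
  have hinj : ∀ c (b : {x : V // φ x = c}), Function.Injective
      (fun x : {x : V // φ x = c} => (QuotientGroup.mk ⟨b.1.1⁻¹ * x.1.1, hdiff c b x⟩ : Q)) := by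
    intro c b x y e
    have e' := Subgroup.mem_subgroupOf.1 (QuotientGroup.eq.1 e)
    simp only [Subgroup.coe_mul, Subgroup.coe_inv, mul_inv_rev, hinvv] at e'
    refine Subtype.ext (Subtype.ext (h.fiber_inj (v := b.1.1) x.1.2.1.1 y.1.2.1.1 x.1.2.2 ?_))
    rw [hinvv]
    exact e'
  have hle : ∀ c, Nat.card {x : V // φ x = c} ≤ Nat.card Q := by
    intro c
    rcases isEmpty_or_nonempty {x : V // φ x = c} with he | ⟨⟨b⟩⟩
    · simp
    · exact Nat.card_le_card_of_injective _ (hinj c b)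
  have hsplit : Nat.card {x : G // x * x = 1 ∧ x ≠ 1} = Nat.card V + (invA A).ncard := by
    rw [← Nat.card_coe_set_eq,
      ← Nat.card_congr (Equiv.sumCompl fun x : {x : G // x * x = 1 ∧ x ≠ 1} => (x : G) ∈ nA A),
      Nat.card_sum, add_comm]
    congr 1
    · exact Nat.card_congr (Equiv.subtypeSubtypeEquivSubtypeInter _ fun x : G => x ∉ nA A)
    · exact Nat.card_congr ((Equiv.subtypeSubtypeEquivSubtypeInter _ fun x : G => x ∈ nA A).trans
        (Equiv.subtypeEquivRight fun x => ⟨fun hx => h.mem_invA hx.2 hx.1.1 hx.1.2,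
          fun hx => ⟨hx.2, Subgroup.le_normalizer hx.1⟩⟩))
  have hC : Nat.card C + 1 = (nA A).index := by
    rw [Subgroup.index_eq_card, ← Nat.card_congr (Equiv.sumCompl fun c : G ⧸ nA A => c = QuotientGroup.mk 1),
      Nat.card_sum,
      show Nat.card {c : G ⧸ nA A // c = QuotientGroup.mk 1} = 1 from
        Nat.card_eq_one_iff_unique.2 ⟨⟨fun a b => Subtype.ext (a.2.trans b.2.symm)⟩, ⟨⟨_, rfl⟩⟩⟩]
    show Nat.card C + 1 = 1 + Nat.card C
    omega
  have hV : Nat.card V = Nat.card C * Nat.card Q := by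
    have hm := h.card_invol
    rw [hsplit, ← Subgroup.relIndex_mul_index (Subgroup.le_normalizer (H := A)), ← hC,
      ← h.card_invA] at hm
    rw [Subgroup.relIndex, Subgroup.index_eq_card] at hm
    change Nat.card V + Nat.card Q = Nat.card Q * (Nat.card C + 1) at hm
    rw [Nat.mul_add, mul_one, mul_comm (Nat.card Q)] at hm
    omega
  have heq : ∀ c, Nat.card {x : V // φ x = c} = Nat.card Q := by
    intro c
    have hs : ∑ c, Nat.card {x : V // φ x = c} = ∑ _c : C, Nat.card Q := by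
      rw [← Nat.card_sigma, Nat.card_congr (Equiv.sigmaFiberEquiv φ), hV, Finset.sum_const,
        Finset.card_univ, smul_eq_mul, Nat.card_eq_fintype_card (α := C)]
    exact (Finset.sum_eq_sum_iff_of_le fun c _ => hle c).1 hs c (Finset.mem_univ c)
  let c : C := ⟨QuotientGroup.mk g, fun e => hg (by
    have := QuotientGroup.eq.1 e.symm; simpa using this)⟩
  obtain ⟨b⟩ : Nonempty {x : V // φ x = c} := (Nat.card_pos_iff.1 (by
    rw [heq c]; exact Nat.card_pos)).1
  refine ⟨b.1.1, b.1.2.1.1, b.1.2.1.2, QuotientGroup.eq.1 (congrArg Subtype.val b.2).symm, ?_⟩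
  intro n hn
  obtain ⟨x, hx⟩ := ((Nat.bijective_iff_injective_and_card _).2 ⟨hinj c b, heq c⟩).2
    (QuotientGroup.mk ⟨n, hn⟩)
  have e' := Subgroup.mem_subgroupOf.1 (QuotientGroup.eq.1 hx.symm)
  refine ⟨x.1.1, x.1.2.1.1, ?_, ?_⟩
  · have := hdiff c b x; rwa [hinvv] at this
  · simp only [Subgroup.coe_mul, Subgroup.coe_inv] at e'
    rwa [hinvv] at e'

/-- The intersection of `N` with a conjugate. -/
abbrev hsub (A : Subgroup G) (u : G) : Subgroup G :=
  nA A ⊓ (nA A).map (MulAut.conj u).toMonoidHom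

theorem mem_hsub {u n : G} (hu : u * u = 1) : n ∈ hsub A u ↔ n ∈ nA A ∧ u * n * u ∈ nA A := by
  have hui : u⁻¹ = u := inv_eq_of_mul_eq_one_right hu
  rw [Subgroup.mem_inf]
  refine and_congr_right fun _ => ?_
  constructor
  · rintro ⟨m, hm, rfl⟩
    change u * (u * m * u⁻¹) * u ∈ nA A
    rw [hui, show u * (u * m * u) * u = (u * u) * m * (u * u) by group, hu, one_mul, mul_one]
    exact hm
  · intro hm
    refine ⟨_, hm, ?_⟩
    change u * (u * n * u) * u⁻¹ = n
    rw [hui, show u * (u * n * u) * u = (u * u) * n * (u * u) by group, hu, one_mul, mul_one]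

theorem Setup.hsub_inf (h : Setup A t) {u a : G} (hu : u * u = 1) (huN : u ∉ nA A) (ha : a ∈ A)
    (haH : a ∈ hsub A u) : a = 1 := by
  by_contra h1
  have hui : u⁻¹ = u := inv_eq_of_mul_eq_one_right hu
  obtain ⟨-, ha'⟩ := (mem_hsub hu).1 haH
  have h2 : u * a * u ≠ 1 := fun e => h1 (by
    have := congrArg (fun z => u * z * u) e
    simpa [mul_assoc, hu, ← mul_assoc u u] using this)
  -- the commutator of `a` and its conjugate lies in `A` and in the conjugate of `A`
  obtain ⟨c, hc⟩ : ∃ c, c = a * (u * a * u) * a⁻¹ * (u * a * u)⁻¹ := ⟨_, rfl⟩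
  have hcA : c ∈ A := by
    rw [hc, show a * (u * a * u) * a⁻¹ * (u * a * u)⁻¹ =
      a * ((u * a * u) * a⁻¹ * (u * a * u)⁻¹) by group]
    exact mul_mem ha ((Subgroup.mem_normalizer_iff.1 ha' _).1 (inv_mem ha))
  have hcA' : u * c * u⁻¹ ∈ A := by
    rw [hc, show u * (a * (u * a * u) * a⁻¹ * (u * a * u)⁻¹) * u⁻¹ =
      (u * a * u) * a * (u * a * u)⁻¹ * (u * (u * a * u)⁻¹ * u⁻¹) * 1 by
        rw [hui]; simp only [mul_inv_rev, hui, mul_one]; simp only [mul_assoc, hu, mul_one]
        simp only [← mul_assoc, hu, one_mul], mul_one]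
    refine mul_mem ((Subgroup.mem_normalizer_iff.1 ha' _).1 ha) ?_
    rw [hui, mul_inv_rev, mul_inv_rev, hui,
      show u * (u * (a⁻¹ * u)) * u = (u * u) * a⁻¹ * (u * u) by group, hu, one_mul, mul_one]
    exact inv_mem ha
  have hc1 : c = 1 := by
    by_contra hcne
    exact huN (h.mem_nA_of_conj hcA hcne hcA')
  have hcom : Commute (u * a * u) a := by
    rw [hc1, eq_comm, mul_inv_eq_one, mul_inv_eq_iff_eq_mul] at hc
    exact hc.symm
  by_cases ha2 : a * a = 1
  · exact huN (h.mem_nA_of_conj ha h1 (by rw [hui]; exact h.mem_of_commute ha ha2 h1 hcom))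
  by_cases hw : a * (u * a * u) = 1
  · exact huN (h.mem_nA_of_conj ha h1 (by
      rw [hui, eq_inv_of_mul_eq_one_right hw]; exact inv_mem ha))
  -- otherwise `a * (u * a * u)` commutes with `u`, so both factors normalise the conjugate of `A`
  obtain ⟨k, rfl⟩ := isConj_iff.1 (h.one_class hu fun e => huN (e ▸ one_mem _))
  obtain ⟨b, rfl⟩ : ∃ b, a = k * b * k⁻¹ := ⟨k⁻¹ * a * k, by group⟩
  have e1 : k * t * k⁻¹ * (k * b * k⁻¹) * (k * t * k⁻¹) = k * (t * b * t) * k⁻¹ := by group
  rw [e1] at hcom hw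
  have hb : Commute (t * b * t) b := by
    simpa [mul_assoc] using hcom.map (MulAut.conj k⁻¹).toMonoidHom
  have hw1 : b * (t * b * t) ≠ 1 := fun e => hw (by
    rw [show k * b * k⁻¹ * (k * (t * b * t) * k⁻¹) = k * (b * (t * b * t)) * k⁻¹ by group, e,
      mul_one, mul_inv_cancel])
  have hwA : b * (t * b * t) ∈ A := by
    rw [h.eq, mem_cent]
    show b * (t * b * t) * t = t * (b * (t * b * t))
    rw [show t * (b * (t * b * t)) = (t * b * t) * b * t by group, hb.eq]
  have hbN : b ∈ nA A := h.cle _ hwA hw1 (mem_cent.2 ((Commute.refl b).mul_right hb.symm))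
  have hd : t * b * t * b⁻¹ ∈ A := by
    rw [show t * b * t * b⁻¹ = t * (b * t * b⁻¹) by group]
    exact mul_mem h.t_mem ((Subgroup.mem_normalizer_iff.1 hbN t).1 h.t_mem)
  have hbb : b * b ∈ A := by
    have := mul_mem hwA (inv_mem hd)
    rwa [mul_inv_rev, inv_inv, mul_assoc b (t * b * t), ← mul_assoc (t * b * t) b, hb.eq,
      mul_assoc b (t * b * t), mul_inv_cancel, mul_one] at this
  have hbb1 : b * b ≠ 1 := fun e => ha2 (by
    rw [show k * b * k⁻¹ * (k * b * k⁻¹) = k * (b * b) * k⁻¹ by group, e, mul_one, mul_inv_cancel])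
  have hk : k ∈ nA A := h.mem_nA_of_conj hbb hbb1 (by
    have := mul_mem ha ha
    rwa [show k * b * k⁻¹ * (k * b * k⁻¹) = k * (b * b) * k⁻¹ by group] at this)
  exact huN (mul_mem (mul_mem hk (Subgroup.le_normalizer h.t_mem)) (inv_mem hk))

theorem Setup.hsub_invert (h : Setup A t) {u : G} (hu : u * u = 1)
    (huN : u ∉ nA A) :
    (∀ n ∈ hsub A u, u * n * u = n⁻¹) ∧
      ∀ n ∈ nA A, ∃ k ∈ hsub A u, n⁻¹ * k ∈ A := by
  obtain ⟨v, hv, -, hvg, hsur⟩ := h.coset_invol huN
  have hui : u⁻¹ = u := inv_eq_of_mul_eq_one_right hu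
  rw [hui] at hvg
  have hvi : v⁻¹ = v := inv_eq_of_mul_eq_one_right hv
  have key : ∀ n ∈ nA A, ∃ k ∈ hsub A u, n⁻¹ * k ∈ A ∧ u * k * u = k⁻¹ := by
    intro n hn
    obtain ⟨w₁, hw₁, hw₁N, hw₁A⟩ := hsur ((u * v)⁻¹ * n) (mul_mem (inv_mem hvg) hn)
    refine ⟨u * w₁, (mem_hsub hu).2 ⟨?_, ?_⟩, ?_, ?_⟩
    · rw [show u * w₁ = (u * v) * (v * w₁) by
        rw [show (u * v) * (v * w₁) = u * (v * v) * w₁ by group, hv, mul_one]]
      exact mul_mem hvg hw₁N
    · rw [show u * (u * w₁) * u = (u * w₁)⁻¹ by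
        rw [mul_inv_rev, hui, inv_eq_of_mul_eq_one_right hw₁, ← mul_assoc u u w₁, hu, one_mul]]
      refine inv_mem ?_
      rw [show u * w₁ = (u * v) * (v * w₁) by
        rw [show (u * v) * (v * w₁) = u * (v * v) * w₁ by group, hv, mul_one]]
      exact mul_mem hvg hw₁N
    · rw [show n⁻¹ * (u * w₁) = ((u * v)⁻¹ * n)⁻¹ * (v * w₁) by
        rw [mul_inv_rev, inv_inv,
          show n⁻¹ * (u * v) * (v * w₁) = n⁻¹ * (u * (v * v) * w₁) by group, hv, mul_one]]
      exact hw₁A
    · rw [mul_inv_rev, hui, inv_eq_of_mul_eq_one_right hw₁, ← mul_assoc u u w₁, hu, one_mul]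
  refine ⟨fun n hn => ?_, fun n hn => ?_⟩
  · obtain ⟨k, hk, hkA, hkinv⟩ := key n hn.1
    have := h.hsub_inf hu huN hkA (mul_mem (inv_mem hn) hk)
    rw [inv_mul_eq_one.1 this]
    exact hkinv
  · obtain ⟨k, hk, hkA, -⟩ := key n hn
    exact ⟨k, hk, hkA⟩

theorem Setup.hsub_comm (h : Setup A t) {u a b : G} (hu : u * u = 1)
    (huN : u ∉ nA A) (ha : a ∈ hsub A u) (hb : b ∈ hsub A u) : Commute a b := by
  have hi := (h.hsub_invert hu huN).1
  have e := hi _ (mul_mem ha hb)
  rw [show u * (a * b) * u = (u * a * u) * (u * b * u) by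
    rw [show (u * a * u) * (u * b * u) = u * a * (u * u) * b * u by group, hu, mul_one]; group,
    hi a ha, hi b hb, mul_inv_rev] at e
  exact Commute.inv_inv_iff.1 e

theorem Setup.hsub_not_invol (h : Setup A t) {u x : G} (hu : u * u = 1) (huN : u ∉ nA A)
    (hx : x ∈ hsub A u) (hx2 : x * x = 1) : x = 1 :=
  h.hsub_inf hu huN (h.invol_mem hx.1 hx2) hx

/-- A non-identity element of `H` fixes only two points. -/
theorem Setup.fix_eq (h : Setup A t) {u x g : G} (hu : u * u = 1)
    (huN : u ∉ nA A) (hx : x ∈ hsub A u) (hx1 : x ≠ 1) (hg : g ∉ nA A)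
    (hfix : g⁻¹ * x * g ∈ nA A) : u * g ∈ nA A := by
  have hui : u⁻¹ = u := inv_eq_of_mul_eq_one_right hu
  obtain ⟨hinv, hsur⟩ := h.hsub_invert hu huN
  obtain ⟨B, hB⟩ : ∃ B, B = Subgroup.centralizer ({x} : Set G) := ⟨_, rfl⟩
  have hxx : x * x ≠ 1 := fun e => hx1 (h.hsub_not_invol hu huN hx e)
  -- `u` inverts `B`: it acts on it without fixed points
  have hBinv : ∀ b ∈ B, u * b * u = b⁻¹ := by
    obtain ⟨k, hk⟩ := isConj_iff.1 (h.one_class hu fun e => huN (e ▸ one_mem _))
    have hmem : ∀ b, b ∈ B → u * b * u ∈ B := by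
      intro b hb
      rw [hB, mem_cent] at hb ⊢
      have e : Commute (u * b * u) (u * x * u) := by
        show u * b * u * (u * x * u) = u * x * u * (u * b * u)
        rw [show u * b * u * (u * x * u) = u * (b * (u * u) * x) * u by group,
          show u * x * u * (u * b * u) = u * (x * (u * u) * b) * u by group, hu, mul_one, mul_one,
          hb.eq]
      rw [hinv x hx] at e
      exact Commute.inv_right_iff.1 e
    let φ : B →* B :=
      { toFun := fun b => ⟨u * b * u, hmem b b.2⟩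
        map_one' := Subtype.ext (by show u * 1 * u = 1; rw [mul_one, hu])
        map_mul' := fun a b => Subtype.ext (by
          show u * ((a : G) * b) * u = u * a * u * (u * b * u)
          rw [show u * a * u * (u * b * u) = u * a * (u * u) * b * u by group, hu, mul_one]
          group) }
    have hinvol : Function.Involutive φ := fun b => Subtype.ext (by
      show u * (u * b * u) * u = b
      rw [show u * (u * b * u) * u = (u * u) * b * (u * u) by group, hu, one_mul, mul_one])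
    have hfpf : MonoidHom.FixedPointFree φ := by
      intro b hb
      by_contra hb1
      have hbu : u * b * u = (b : G) := congrArg Subtype.val hb
      have hbx : Commute (b : G) x := mem_cent.1 (hB ▸ b.2)
      subst hk
      obtain ⟨c, hc⟩ : ∃ c, (b : G) = k * c * k⁻¹ := ⟨k⁻¹ * b * k, by group⟩
      obtain ⟨y, rfl⟩ : ∃ y, x = k * y * k⁻¹ := ⟨k⁻¹ * x * k, by group⟩
      rw [hc] at hbu hbx
      have hc1 : c ≠ 1 := fun e => hb1 (Subtype.ext (by rw [hc, e, mul_one, mul_inv_cancel]; rfl))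
      have hyt : t * y * t = y⁻¹ := by
        have e := hinv _ hx
        rw [show k * t * k⁻¹ * (k * y * k⁻¹) * (k * t * k⁻¹) = k * (t * y * t) * k⁻¹ by group,
          show (k * y * k⁻¹)⁻¹ = k * y⁻¹ * k⁻¹ by group] at e
        exact mul_left_cancel (mul_right_cancel e)
      have hcA : c ∈ A := by
        rw [h.eq, mem_cent]
        rw [show k * t * k⁻¹ * (k * c * k⁻¹) * (k * t * k⁻¹) = k * (t * c * t) * k⁻¹ by group] at hbu
        have e := mul_left_cancel (mul_right_cancel hbu)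
        show c * t = t * c
        nth_rewrite 1 [← e]
        rw [mul_assoc, h.sq, mul_one]
      have hyN : y ∈ nA A := h.cle c hcA hc1 (mem_cent.2 (by
        simpa [mul_assoc] using (hbx.map (MulAut.conj k⁻¹).toMonoidHom).symm))
      have hyy : y⁻¹ * y⁻¹ ∈ A := by
        nth_rewrite 1 [← hyt]
        rw [show t * y * t * y⁻¹ = t * (y * t * y⁻¹) by group]
        exact mul_mem h.t_mem ((Subgroup.mem_normalizer_iff.1 hyN t).1 h.t_mem)
      have e4 : y * y * (y * y) = 1 := by
        have hti : t⁻¹ = t := inv_eq_of_mul_eq_one_right h.sq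
        have e3 : t * y⁻¹ * t = y := by
          rw [← hyt, show t * (t * y * t) * t = (t * t) * y * (t * t) by group, h.sq, one_mul, mul_one]
        have e : t * (y⁻¹ * y⁻¹) * t = y⁻¹ * y⁻¹ := by
          rw [← (h.comm_invol hyy h.t_mem h.sq).eq, mul_assoc, h.sq, mul_one]
        have e5 : y * y = y⁻¹ * y⁻¹ := by
          rw [← e]
          nth_rewrite 1 2 [← e3]
          rw [show t * y⁻¹ * t * (t * y⁻¹ * t) = t * (y⁻¹ * (t * t) * y⁻¹) * t by group, h.sq, mul_one]
        nth_rewrite 1 [e5]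
        group
      have hxx2 : (k * y * k⁻¹) * (k * y * k⁻¹) = 1 := h.hsub_not_invol hu huN (mul_mem hx hx) (by
        rw [show k * y * k⁻¹ * (k * y * k⁻¹) * (k * y * k⁻¹ * (k * y * k⁻¹)) =
          k * (y * y * (y * y)) * k⁻¹ by group, e4, mul_one, mul_inv_cancel])
      exact hxx hxx2
    intro b hb
    exact congrArg Subtype.val (congrFun (hfpf.coe_eq_inv_of_involutive hinvol) ⟨b, hb⟩)
  -- no involution `u b` lies in `N`
  have hub : ∀ b ∈ B, u * b ∉ nA A := by
    intro b hb hubN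
    have h2 : u * b * (u * b) = 1 := by
      rw [← mul_assoc, hBinv b hb, inv_mul_cancel]
    have hubA := h.invol_mem hubN h2
    have hbx : Commute b x := mem_cent.1 (hB ▸ hb)
    have e : u * b * x * (u * b)⁻¹ = x⁻¹ := by
      rw [mul_assoc u b x, hbx.eq, mul_inv_rev, hui,
        show u * (x * b) * (b⁻¹ * u) = u * x * u by group, hinv x hx]
    refine hxx (h.hsub_inf hu huN ?_ (mul_mem hx hx))
    have e' : x * x = (x * (u * b) * x⁻¹) * (u * b)⁻¹ := by
      have e1 : u * b * x = x⁻¹ * (u * b) := mul_inv_eq_iff_eq_mul.1 e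
      have e2 : u * b * x⁻¹ = x * (u * b) := by
        rw [mul_inv_eq_iff_eq_mul, mul_assoc, e1, mul_inv_cancel_left]
      rw [mul_assoc x (u * b) x⁻¹, e2, ← mul_assoc x x, mul_inv_cancel_right]
    rw [e']
    exact mul_mem ((Subgroup.mem_normalizer_iff.1 hx.1 _).1 hubA) (inv_mem hubA)
  obtain ⟨v, hv, -, hvg, -⟩ := h.coset_invol hg
  have hvi : v⁻¹ = v := inv_eq_of_mul_eq_one_right hv
  have hvN : v ∉ nA A := fun e => hg (by
    have := mul_mem e (inv_mem hvg)
    rwa [mul_inv_rev, inv_inv, ← mul_assoc, mul_inv_cancel, one_mul] at this)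
  have hxv : x ∈ hsub A v := (mem_hsub hv).2 ⟨hx.1, by
    have := mul_mem (mul_mem (inv_mem hvg) hfix) hvg
    rwa [show (g⁻¹ * v)⁻¹ * (g⁻¹ * x * g) * (g⁻¹ * v) = v⁻¹ * x * v by group, hvi] at this⟩
  have hxvinv := (h.hsub_invert hv hvN).1 x hxv
  have hbB : u * v ∈ B := by
    rw [hB, mem_cent]
    show u * v * x = x * (u * v)
    have e1 : v * x = x⁻¹ * v := by
      rw [← hxvinv, mul_assoc (v * x) v v, hv, mul_one]
    have e2 : u * x⁻¹ = x * u := by
      have e := congrArg (fun z => u * z) (hinv x hx)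
      simp only [← mul_assoc, hu, one_mul] at e
      exact e.symm
    rw [mul_assoc, e1, ← mul_assoc, e2, mul_assoc]
  -- so `v = u b` with `b ∈ B`, and `B ≤ N`
  have hbN : u * v ∈ nA A := by
    by_contra hb
    obtain ⟨z, hz, -, hzb, -⟩ := h.coset_invol hb
    have hzi : z⁻¹ = z := inv_eq_of_mul_eq_one_right hz
    have hzN : z ∉ nA A := fun e => hb (by
      have := mul_mem e (inv_mem hzb)
      rwa [mul_inv_rev, inv_inv, ← mul_assoc, mul_inv_cancel, one_mul] at this)
    obtain ⟨b, hbdef⟩ : ∃ b, b = u * v := ⟨_, rfl⟩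
    rw [← hbdef] at hb hzb hbB
    have hbx : Commute b x := mem_cent.1 (hB ▸ hbB)
    have hxz : x ∈ hsub A z := (mem_hsub hz).2 ⟨hx.1, by
      have := mul_mem (mul_mem (inv_mem hzb) hx.1) hzb
      rwa [show (b⁻¹ * z)⁻¹ * x * (b⁻¹ * z) = z⁻¹ * (b * x * b⁻¹) * z by group,
        hbx.eq, mul_inv_cancel_right, hzi] at this⟩
    have hxzinv := (h.hsub_invert hz hzN).1 x hxz
    have hb2 : u * z ∈ B := by
      rw [hB, mem_cent]
      show u * z * x = x * (u * z)
      have e1 : z * x = x⁻¹ * z := by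
        rw [← hxzinv, mul_assoc (z * x) z z, hz, mul_one]
      have e2 : u * x⁻¹ = x * u := by
        have e := congrArg (fun y => u * y) (hinv x hx)
        simp only [← mul_assoc, hu, one_mul] at e
        exact e.symm
      rw [mul_assoc, e1, ← mul_assoc, e2, mul_assoc]
    refine hub (b * (u * z)) (mul_mem hbB hb2) ?_
    have e : u * b = b⁻¹ * u := by
      rw [← hBinv b hbB, mul_assoc (u * b) u u, hu, mul_one]
    rw [← mul_assoc, e, mul_assoc, ← mul_assoc u u z, hu, one_mul]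
    exact hzb
  rw [show u * g = (u * v) * (g⁻¹ * v)⁻¹ by group]
  exact mul_mem hbN (inv_mem hvg)

end CfsgLib.Invol.CASimple
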