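import Mathlib.GroupTheory.GroupAction.Quotient
import Mathlib.GroupTheory.Index
import Mathlib.GroupTheory.OrderOfElement
import Mathlib.Data.Nat.Factorization.Basic
import Mathlib.GroupTheory.Perm.Basic
import Mathlib.GroupTheory.Sylow

/-!
# Groups with a four-group all of whose involutions have small centralizers

The order is bounded by the centralizer orders and the order of a Sylow 2-subgroup
(an elementary form of the Brauer–Fowler bound).
-/

set_option autoImplicit false
set_option linter.unusedSectionVars false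
set_option linter.style.haveILetI false

universe u

namespace CfsgLib.FourBound

open Subgroup

variable {G : Type*} [Group G] [Finite G]

/-- The order of the centralizer of `x`. -/
noncomputable def cent (x : G) : ℕ := Nat.card (centralizer ({x} : Set G))

theorem cent_pos (x : G) : 0 < cent x := Nat.card_pos

theorem cent_conj (g x : G) : cent (g * x * g⁻¹) = cent x := by
  refine Nat.card_congr
    { toFun := fun w => ⟨g⁻¹ * w * g, ?_⟩
      invFun := fun w => ⟨g * w * g⁻¹, ?_⟩
      left_inv := fun w => Subtype.ext (by group)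
      right_inv := fun w => Subtype.ext (by group) }
  · have h := mem_centralizer_singleton_iff.mp w.2
    refine mem_centralizer_singleton_iff.mpr ?_
    calc g⁻¹ * w * g * x = g⁻¹ * ((w : G) * (g * x * g⁻¹)) * g := by group
      _ = _ := by rw [h]; group
  · have h := mem_centralizer_singleton_iff.mp w.2
    refine mem_centralizer_singleton_iff.mpr ?_
    calc g * w * g⁻¹ * (g * x * g⁻¹) = g * ((w : G) * x) * g⁻¹ := by group
      _ = _ := by rw [h]; group

/-- A map whose fibres lie in single centralizer cosets. -/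
theorem card_le_cent_mul {x : G} {α : Type*} (s : Set G) (φ : s → α) [Finite α]
    (hφ : ∀ a b : s, φ a = φ b → Commute ((a : G) * (b : G)⁻¹) x) :
    Nat.card s ≤ cent x * Nat.card α := by
  classical
  rcases isEmpty_or_nonempty s with he | hne
  · simp
  let sec : α → s := Function.invFun φ
  have hsec : ∀ a, φ (sec (φ a)) = φ a := fun a => Function.invFun_eq ⟨a, rfl⟩
  rw [cent, ← Nat.card_prod]
  refine Nat.card_le_card_of_injective (fun a =>
    ((⟨(a : G) * (sec (φ a) : G)⁻¹, mem_centralizer_singleton_iff.mpr (hφ _ _ (hsec a).symm)⟩ :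
      centralizer ({x} : Set G)), φ a)) fun a b h => ?_
  obtain ⟨h1, h2⟩ := Prod.mk.injEq .. ▸ h
  have h3 := congrArg Subtype.val h1
  simp only [h2, mul_left_inj] at h3
  exact Subtype.ext h3

/-- An odd normal subgroup is bounded by the centralizers of the involutions of a four-group. -/
theorem card_odd_le {N : Subgroup G} [N.Normal] (hN : Odd (Nat.card N)) {x y : G} {c : ℕ}
    (hx : x * x = 1) (hy : y * y = 1) (hxy : Commute x y) (hcx : cent x ≤ c) (hcy : cent y ≤ c)
    (hcz : cent (x * y) ≤ c) : Nat.card N ≤ c * (c * c) := by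
  classical
  obtain ⟨m, hm⟩ := hN
  have hinvx : x⁻¹ = x := inv_eq_of_mul_eq_one_right hx
  have hinvy : y⁻¹ = y := inv_eq_of_mul_eq_one_right hy
  have hpow : ∀ n ∈ N, n ^ (2 * m + 1) = 1 := fun n hn =>
    orderOf_dvd_iff_pow_eq_one.mp (hm ▸ (orderOf_mk n hn ▸ orderOf_dvd_natCard (⟨n, hn⟩ : N)))
  have hsq : ∀ n ∈ N, (n ^ 2) ^ (m + 1) = n := fun n hn => by
    rw [← pow_mul, show 2 * (m + 1) = 2 * m + 1 + 1 by ring, pow_succ, hpow n hn, one_mul]
  have hconjy : ∀ n ∈ N, y * n * y ∈ N := fun n hn => by
    have := Subgroup.Normal.conj_mem inferInstance n hn y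
    rwa [hinvy] at this
  have hconjx : ∀ n ∈ N, x * n * x ∈ N := fun n hn => by
    have := Subgroup.Normal.conj_mem inferInstance n hn x
    rwa [hinvx] at this
  set I : Set G := {n | n ∈ N ∧ x * n * x = n⁻¹} with hI
  have h1 : Nat.card (N : Set G) ≤ cent x * Nat.card I := by
    refine card_le_cent_mul (x := x) (N : Set G) (fun n => ⟨(n : G)⁻¹ * (x * n * x),
      mul_mem (inv_mem n.2) (hconjx _ n.2), ?_⟩) fun a b h => ?_
    · calc x * ((n : G)⁻¹ * (x * n * x)) * x = (x * (n : G)⁻¹ * x) * n * (x * x) := by group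
        _ = ((n : G)⁻¹ * (x * n * x))⁻¹ := by
          rw [hx, mul_one, mul_inv_rev, inv_inv, mul_inv_rev, mul_inv_rev, hinvx]
          group
    · have h' : (a : G)⁻¹ * (x * a * x) = (b : G)⁻¹ * (x * b * x) := congrArg Subtype.val h
      show (a : G) * (b : G)⁻¹ * x = x * ((a : G) * (b : G)⁻¹)
      calc (a : G) * (b : G)⁻¹ * x
          = (a : G) * ((b : G)⁻¹ * (x * b * x)) * x⁻¹ * (b : G)⁻¹ * x⁻¹ * x := by group
        _ = x * ((a : G) * (b : G)⁻¹) := by rw [← h']; group
  -- the second splitting
  set C' : Set G := {d | d ∈ N ∧ Commute d y ∧ x * d * x = d⁻¹} with hC'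
  have key : ∀ i : I, ∃ d : C', ∃ j : centralizer ({(d : G)⁻¹ * (x * y)} : Set G),
      (i : G) = (d : G) * (j : G) := by
    rintro ⟨i, hiN, hix⟩
    set q := i⁻¹ * (y * i * y) with hqdef
    have hqN : q ∈ N := mul_mem (inv_mem hiN) (hconjy i hiN)
    have hqy : y * q * y = q⁻¹ := by
      rw [hqdef, mul_inv_rev, mul_inv_rev, mul_inv_rev, inv_inv, hinvy]
      calc y * (i⁻¹ * (y * i * y)) * y = y * i⁻¹ * y * i * (y * y) := by group
        _ = _ := by rw [hy, mul_one]; group
    set j := (q ^ (m + 1))⁻¹ with hjdef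
    have hjN : j ∈ N := inv_mem (pow_mem hqN _)
    have hj2 : j * j = q⁻¹ := by
      rw [hjdef, ← mul_inv_rev, ← pow_add, show m + 1 + (m + 1) = 2 * m + 1 + 1 by ring, pow_succ,
        hpow q hqN, one_mul]
    have hjy : y * j * y = j⁻¹ := by
      have hcj := map_pow (MulAut.conj y) q (m + 1)
      simp only [MulAut.conj_apply, hinvy, hqy] at hcj
      rw [hjdef, inv_inv]
      calc y * (q ^ (m + 1))⁻¹ * y = (y⁻¹ * q ^ (m + 1) * y⁻¹)⁻¹ := by group
        _ = ((q⁻¹) ^ (m + 1))⁻¹ := by rw [hinvy, hcj]
        _ = q ^ (m + 1) := by rw [inv_pow, inv_inv]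
    set d := i * j⁻¹ with hddef
    have hdN : d ∈ N := mul_mem hiN (inv_mem hjN)
    have hdy : Commute d y := by
      have h2 : y * i * y = i * (j * j)⁻¹ := by rw [hj2, inv_inv, hqdef]; group
      have h3 : y * d * y = d := by
        calc y * d * y = (y * i * y) * (y⁻¹ * j⁻¹ * y) := by rw [hddef]; group
          _ = i * (j * j)⁻¹ * (y * j * y)⁻¹ := by
              simp only [h2, mul_inv_rev, hinvy, mul_assoc]
          _ = d := by rw [hjy, hddef]; group
      calc d * y = y * d * y * y := by rw [h3]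
        _ = y * d := by rw [mul_assoc (y * d), hy, mul_one]
    -- uniqueness of the splitting, applied to the image under `x`
    set a := x * d * x with hadef
    set b := x * j * x with hbdef
    have hab : a * b = d⁻¹ * (d * j⁻¹ * d⁻¹) := by
      calc a * b = x * d * (x * x) * j * x := by rw [hadef, hbdef]; group
        _ = x * i * x := by rw [hx, hddef]; group
        _ = _ := by rw [hix, hddef]; group
    have hay : y * a * y = a := by
      calc y * a * y = (y * x) * d * (x * y) := by rw [hadef]; group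
        _ = (x * y) * d * (y * x) := by rw [hxy.eq]
        _ = x * (y * d * y) * x := by group
        _ = a := by rw [← hdy.eq, mul_assoc d y y, hy, mul_one, hadef]
    have hby : y * b * y = b⁻¹ := by
      calc y * b * y = (y * x) * j * (x * y) := by rw [hbdef]; group
        _ = (x * y) * j * (y * x) := by rw [hxy.eq]
        _ = x * (y * j * y) * x := by group
        _ = b⁻¹ := by rw [hjy, hbdef, mul_inv_rev, mul_inv_rev, hinvx, mul_assoc]
    set b' := d * j⁻¹ * d⁻¹ with hb'def
    have hb'y : y * b' * y = b'⁻¹ := by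
      calc y * b' * y = (y * d) * j⁻¹ * (d⁻¹ * y) := by rw [hb'def]; group
        _ = (d * y) * j⁻¹ * (y * d⁻¹) := by rw [hdy.eq, hdy.inv_left.eq]
        _ = d * (y⁻¹ * j * y⁻¹)⁻¹ * d⁻¹ := by group
        _ = b'⁻¹ := by rw [hinvy, hjy, hb'def]; group
    have hbN : b ∈ N := hconjx _ hjN
    have hb'N : b' ∈ N := Subgroup.Normal.conj_mem inferInstance _ (inv_mem hjN) d
    have hbb : b = b' := by
      have hd' : y * d⁻¹ * y = d⁻¹ := by rw [← hdy.inv_left.eq, mul_assoc, hy, mul_one]
      have h5 : a * b⁻¹ = d⁻¹ * b'⁻¹ := by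
        calc a * b⁻¹ = (y * a * y) * (y * b * y) := by rw [hay, hby]
          _ = y * a * (y * y) * b * y := by group
          _ = y * (a * b) * y := by rw [hy]; group
          _ = (y * d⁻¹ * y) * (y⁻¹ * b' * y) := by rw [hab]; group
          _ = d⁻¹ * b'⁻¹ := by rw [hd', hinvy, hb'y]
      have h6 : b ^ 2 = b' ^ 2 := by
        calc b ^ 2 = (a * b⁻¹)⁻¹ * (a * b) := by rw [sq]; group
          _ = b' ^ 2 := by rw [h5, hab, sq]; group
      rw [← hsq b hbN, h6, hsq b' hb'N]
    have haa : a = d⁻¹ := by
      rw [hbb] at hab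
      exact mul_right_cancel hab
    refine ⟨⟨d, hdN, hdy, haa⟩, ⟨j, mem_centralizer_singleton_iff.mpr ?_⟩,
      (inv_mul_cancel_right i j).symm⟩
    show j * (d⁻¹ * (x * y)) = d⁻¹ * (x * y) * j
    have h7 : (x * y) * j * (y * x) = (d * j⁻¹ * d⁻¹)⁻¹ := by
      calc (x * y) * j * (y * x) = x * (y * j * y) * x := by group
        _ = (x⁻¹ * j * x⁻¹)⁻¹ := by rw [hjy]; group
        _ = _ := by rw [hinvx, ← hbdef, hbb]
    calc j * (d⁻¹ * (x * y))
        = d⁻¹ * (d * j⁻¹ * d⁻¹)⁻¹ * (x * y) := by group
      _ = d⁻¹ * ((x * y) * j * (y * x) * (x * y)) := by rw [h7, mul_assoc d⁻¹]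
      _ = d⁻¹ * (x * y) * j * ((y * x) * (x * y)) := by group
      _ = d⁻¹ * (x * y) * j := by
          rw [show (y * x) * (x * y) = y * (x * x) * y by group, hx, mul_one, hy, mul_one]
  have h2 : Nat.card I ≤ c * c := by
    choose d j hdj using key
    haveI : Fintype C' := Fintype.ofFinite _
    have hle : ∀ e : C', Nat.card (centralizer ({(e : G)⁻¹ * (x * y)} : Set G)) ≤ c := by
      rintro ⟨e, heN, hey, hex⟩
      set f := e ^ (m + 1) with hfdef
      have hf2 : f * f = e := by
        rw [hfdef, ← pow_add, show m + 1 + (m + 1) = 2 * m + 1 + 1 by ring, pow_succ, hpow e heN,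
          one_mul]
      have hexf : x * f * x = f⁻¹ := by
        have := map_pow (MulAut.conj x) e (m + 1)
        simp only [MulAut.conj_apply, hinvx, hex] at this
        rw [hfdef, this, inv_pow]
      have hfy : Commute f y := hey.pow_left _
      have hz : (x * y) * f = f⁻¹ * (x * y) := by
        calc (x * y) * f = x * f * y := by rw [mul_assoc, ← hfy.eq, mul_assoc]
          _ = x * f * (x * x) * y := by rw [hx, mul_one]
          _ = (x * f * x) * (x * y) := by group
          _ = _ := by rw [hexf]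
      have he : (e : G)⁻¹ * (x * y) = f⁻¹ * (x * y) * (f⁻¹)⁻¹ := by
        rw [inv_inv, mul_assoc f⁻¹, hz, ← hf2, mul_inv_rev]
        group
      show cent ((e : G)⁻¹ * (x * y)) ≤ c
      rw [he, cent_conj]
      exact hcz
    have hC'card : Nat.card C' ≤ c := by
      refine le_trans ?_ hcy
      exact Nat.card_le_card_of_injective
        (fun e : C' => (⟨e, mem_centralizer_singleton_iff.mpr e.2.2.1.eq⟩ : centralizer ({y} : Set G)))
        fun e e' h => by
          exact Subtype.ext (congrArg (fun w : centralizer ({y} : Set G) => (w : G)) h)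
    calc Nat.card I ≤ Nat.card (Σ e : C', centralizer ({(e : G)⁻¹ * (x * y)} : Set G)) :=
          Nat.card_le_card_of_injective (fun i => ⟨d i, j i⟩) fun i i' h => Subtype.ext (by
            rw [hdj i, hdj i']
            exact congrArg (fun s : Σ e : C', centralizer ({(e : G)⁻¹ * (x * y)} : Set G) =>
              (s.1 : G) * (s.2 : G)) h)
      _ ≤ c * c := by
          rw [Nat.card_sigma]
          exact (Finset.sum_le_sum fun e _ => hle e).trans (by
            rw [Finset.sum_const, Finset.card_univ, smul_eq_mul, ← Nat.card_eq_fintype_card]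
            exact Nat.mul_le_mul_right c hC'card)
  exact h1.trans (Nat.mul_le_mul hcx h2)

/-- Passing to a quotient costs at most the order of the kernel. -/
theorem cent_map_le {Q : Type*} [Group Q] [Finite Q] (f : G →* Q) (hf : Function.Surjective f)
    (x : G) : cent (f x) ≤ cent x * Nat.card f.ker := by
  set H : Set G := {h | Commute (f h) (f x)} with hH
  refine le_trans (Nat.card_le_card_of_surjective
    (fun h : H => (⟨f h, mem_centralizer_singleton_iff.mpr h.2.eq⟩ : centralizer ({f x} : Set Q)))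
    fun w => ?_) (card_le_cent_mul (x := x) H
      (fun h => (⟨(h : G)⁻¹ * x * (h : G) * x⁻¹, ?_⟩ : f.ker)) fun a b e => ?_)
  · obtain ⟨g, hg⟩ := hf w
    exact ⟨⟨g, by show Commute (f g) (f x); rw [hg]; exact mem_centralizer_singleton_iff.mp w.2⟩,
      Subtype.ext hg⟩
  · rw [MonoidHom.mem_ker, map_mul, map_mul, map_mul, map_inv, map_inv,
      mul_assoc (f h)⁻¹, ← (show Commute (f (h : G)) (f x) from h.2).eq]
    group
  · have e' : (a : G)⁻¹ * x * a = (b : G)⁻¹ * x * b := mul_right_cancel (congrArg Subtype.val e)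
    show (a : G) * (b : G)⁻¹ * x = x * ((a : G) * (b : G)⁻¹)
    calc (a : G) * (b : G)⁻¹ * x = (a : G) * ((b : G)⁻¹ * x * b) * (b : G)⁻¹ := by group
      _ = _ := by rw [← e']; group

/-- An element of a small normal subgroup with a small centralizer bounds the group. -/
theorem card_le_of_mem {N : Subgroup G} [N.Normal] {x : G} (hx : x ∈ N) :
    Nat.card G ≤ cent x * Nat.card N := by
  rw [← Nat.card_congr (Equiv.Set.univ G)]
  refine card_le_cent_mul (x := x) Set.univ (fun g => (⟨(g : G)⁻¹ * x * g,
    by simpa using Subgroup.Normal.conj_mem inferInstance x hx (g : G)⁻¹⟩ : N)) fun a b e => ?_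
  have e' : (a : G)⁻¹ * x * a = (b : G)⁻¹ * x * b := congrArg Subtype.val e
  show (a : G) * (b : G)⁻¹ * x = x * ((a : G) * (b : G)⁻¹)
  calc (a : G) * (b : G)⁻¹ * x = (a : G) * ((b : G)⁻¹ * x * b) * (b : G)⁻¹ := by group
    _ = _ := by rw [← e']; group

end CfsgLib.FourBound
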