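import Cfsg.Agent.Lib.Invol.FourBound
import Mathlib.GroupTheory.GroupAction.ConjAct
import Mathlib.GroupTheory.PGroup
import Mathlib.GroupTheory.SpecificGroups.Cyclic
import Mathlib.Data.Finite.Perm
import Mathlib.Data.Fintype.Card
import Mathlib.Order.Preorder.Finite

/-!
# The order bound for a four-group with small centralizers
-/

set_option autoImplicit false
set_option linter.unusedSectionVars false
set_option linter.style.haveILetI false

universe u

namespace CfsgLib.FourBound

open Subgroup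

variable {G : Type*} [Group G] [Finite G]

theorem pow_le_of_dvd {a k : ℕ} (ha : (Nat.card G).factorization 2 ≤ a) (h : 2 ^ k ∣ Nat.card G) :
    k ≤ a :=
  ((Nat.prime_two.pow_dvd_iff_le_factorization Nat.card_pos.ne').mp h).trans ha

/-- A normal subgroup of even order centralized up to `c` has an element with a large centralizer. -/
theorem exists_index_le {N : Subgroup G} [N.Normal] {x : G} (hx : x * x = 1) {c : ℕ} (hc : cent x ≤ c)
    (hN : c < Nat.card N) :
    ∃ n : N, n ≠ 1 ∧ (centralizer ({n} : Set N)).index ≤ 2 * (c * c) := by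
  classical
  haveI : Fintype G := Fintype.ofFinite G
  have hinv : x⁻¹ = x := inv_eq_of_mul_eq_one_right hx
  set S : Finset G := Finset.univ.image fun m : N => (m : G) * x * (m : G)⁻¹ with hS
  have hmem : ∀ t ∈ S, ∃ m : N, (m : G) * x * (m : G)⁻¹ = t := fun t ht => by
    simpa [hS] using ht
  have hsN : Nat.card N ≤ c * S.card := by
    refine le_trans ?_ (Nat.mul_le_mul_right _ hc)
    rw [← Nat.card_eq_finsetCard S]
    refine card_le_cent_mul (x := x) (N : Set G) (fun n => (⟨(n : G)⁻¹ * x * n,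
      Finset.mem_image.mpr ⟨⟨(n : G)⁻¹, inv_mem n.2⟩, Finset.mem_univ _, by simp⟩⟩ : S))
      fun a b e => ?_
    have e' : (a : G)⁻¹ * x * a = (b : G)⁻¹ * x * b := congrArg Subtype.val e
    show (a : G) * (b : G)⁻¹ * x = x * ((a : G) * (b : G)⁻¹)
    calc (a : G) * (b : G)⁻¹ * x = (a : G) * ((b : G)⁻¹ * x * b) * (b : G)⁻¹ := by group
      _ = _ := by rw [← e']; group
  have hs2 : 2 ≤ S.card := by
    by_contra h
    have : c * S.card ≤ c := by
      calc c * S.card ≤ c * 1 := Nat.mul_le_mul_left _ (by omega)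
        _ = c := mul_one c
    omega
  set T : Finset (G × G) := S.offDiag
  have htt : ∀ t ∈ S, t * t = 1 := fun t ht => by
    obtain ⟨m, rfl⟩ := hmem t ht
    calc (m : G) * x * (m : G)⁻¹ * ((m : G) * x * (m : G)⁻¹) = (m : G) * (x * x) * (m : G)⁻¹ := by
          group
      _ = 1 := by rw [hx]; group
  have hTN : ∀ tu ∈ T, tu.1 * tu.2 ∈ ((Finset.univ : Finset G).filter fun n => n ∈ N ∧ n ≠ 1) := by
    rintro ⟨t, u⟩ htu
    obtain ⟨ht, hu, hne⟩ := Finset.mem_offDiag.mp htu
    obtain ⟨m, rfl⟩ := hmem t ht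
    obtain ⟨m', rfl⟩ := hmem u hu
    refine Finset.mem_filter.mpr ⟨Finset.mem_univ _, ?_, fun h1 => hne ?_⟩
    · have e : (m : G) * x * (m : G)⁻¹ * ((m' : G) * x * (m' : G)⁻¹) =
          (m : G) * (x * ((m : G)⁻¹ * m') * x⁻¹) * (m' : G)⁻¹ := by rw [hinv]; group
      show (m : G) * x * (m : G)⁻¹ * ((m' : G) * x * (m' : G)⁻¹) ∈ N
      rw [e]
      exact mul_mem (mul_mem m.2 (Subgroup.Normal.conj_mem inferInstance _
        (mul_mem (inv_mem m.2) m'.2) x)) (inv_mem m'.2)
    · exact mul_left_cancel ((htt _ (Finset.mem_image_of_mem _ (Finset.mem_univ m))).trans h1.symm)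
  obtain ⟨n, hn, hbig⟩ : ∃ n ∈ ((Finset.univ : Finset G).filter fun n => n ∈ N ∧ n ≠ 1),
      T.card ≤ Nat.card N * (T.filter fun tu => tu.1 * tu.2 = n).card := by
    by_contra hall
    push Not at hall
    have h1 := Finset.card_eq_sum_card_fiberwise hTN
    have hne : ((Finset.univ : Finset G).filter fun n => n ∈ N ∧ n ≠ 1).Nonempty := by
      have : 0 < T.card := by
        rw [Finset.offDiag_card]
        have := Nat.mul_le_mul_right S.card hs2
        omega
      obtain ⟨tu, htu⟩ := Finset.card_pos.mp this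
      exact ⟨_, hTN tu htu⟩
    have h2 := Finset.sum_lt_sum_of_nonempty hne hall
    rw [← Finset.mul_sum, ← h1, Finset.sum_const, smul_eq_mul] at h2
    have hle : ((Finset.univ : Finset G).filter fun n => n ∈ N ∧ n ≠ 1).card ≤ Nat.card N := by
      rw [Nat.card_eq_fintype_card]
      refine (Finset.card_le_card fun z hz => ?_).trans
        (le_of_eq (Fintype.card_subtype fun z => z ∈ N).symm)
      simp only [Finset.mem_filter] at hz ⊢
      exact ⟨hz.1, hz.2.1⟩
    exact absurd (Nat.mul_le_mul_right T.card hle) (not_le.mpr h2)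
  obtain ⟨-, hnN, hn1⟩ := Finset.mem_filter.mp hn
  refine ⟨⟨n, hnN⟩, fun h => hn1 (congrArg Subtype.val h), ?_⟩
  have hfib : (T.filter fun tu => tu.1 * tu.2 = n).card ≤
      Nat.card (centralizer ({(⟨n, hnN⟩ : N)} : Set N)) := by
    rcases Finset.eq_empty_or_nonempty (T.filter fun tu => tu.1 * tu.2 = n) with he | ⟨tu₀, h0⟩
    · simp [he]
    rw [← Nat.card_eq_finsetCard]
    have hprop : ∀ tu ∈ T.filter (fun tu => tu.1 * tu.2 = n),
        tu.1 * tu₀.1 ∈ N ∧ Commute (tu.1 * tu₀.1) n := by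
      intro tu htu
      obtain ⟨hT, he⟩ := Finset.mem_filter.mp htu
      obtain ⟨hT0, he0⟩ := Finset.mem_filter.mp h0
      obtain ⟨ht, hu, -⟩ := Finset.mem_offDiag.mp hT
      obtain ⟨ht0, hu0, -⟩ := Finset.mem_offDiag.mp hT0
      have hi : tu.1 * n * tu.1 = n⁻¹ := by
        rw [← he, mul_inv_rev, inv_eq_of_mul_eq_one_right (htt _ ht),
          inv_eq_of_mul_eq_one_right (htt _ hu), ← mul_assoc, htt _ ht, one_mul]
      have hi0 : tu₀.1 * n * tu₀.1 = n⁻¹ := by
        rw [← he0, mul_inv_rev, inv_eq_of_mul_eq_one_right (htt _ ht0),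
          inv_eq_of_mul_eq_one_right (htt _ hu0), ← mul_assoc, htt _ ht0, one_mul]
      refine ⟨?_, ?_⟩
      · obtain ⟨a, hae⟩ := hmem _ ht
        obtain ⟨b, hbe⟩ := hmem _ ht0
        rw [← hae, ← hbe, show (a : G) * x * (a : G)⁻¹ * ((b : G) * x * (b : G)⁻¹) =
          (a : G) * (x * ((a : G)⁻¹ * b) * x⁻¹) * (b : G)⁻¹ by rw [hinv]; group]
        exact mul_mem (mul_mem a.2 (Subgroup.Normal.conj_mem inferInstance _
          (mul_mem (inv_mem a.2) b.2) x)) (inv_mem b.2)
      · have h00 : tu₀.1⁻¹ = tu₀.1 := inv_eq_of_mul_eq_one_right (htt _ ht0)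
        show tu.1 * tu₀.1 * n = n * (tu.1 * tu₀.1)
        calc tu.1 * tu₀.1 * n = tu.1 * (tu₀.1 * n * tu₀.1) * tu₀.1 := by
              conv_rhs => rw [mul_assoc, mul_assoc (tu₀.1 * n), htt _ ht0, mul_one, ← mul_assoc]
          _ = tu.1 * n⁻¹ * tu₀.1 := by rw [hi0]
          _ = tu.1 * (tu.1 * n * tu.1) * tu₀.1 := by rw [hi]
          _ = (tu.1 * tu.1) * n * (tu.1 * tu₀.1) := by group
          _ = _ := by rw [htt _ ht, one_mul]
    refine Nat.card_le_card_of_injective (fun tu : (T.filter fun tu => tu.1 * tu.2 = n) =>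
      (⟨⟨tu.1.1 * tu₀.1, (hprop _ tu.2).1⟩, mem_centralizer_singleton_iff.mpr
        (Subtype.ext (hprop _ tu.2).2.eq)⟩ : centralizer ({(⟨n, hnN⟩ : N)} : Set N))) ?_
    intro tu tu' h
    have h1 : tu.1.1 = tu'.1.1 := mul_right_cancel (congrArg
      (fun w : centralizer ({(⟨n, hnN⟩ : N)} : Set N) => ((w : N) : G)) h)
    have h2 : tu.1.1 * tu.1.2 = tu'.1.1 * tu'.1.2 := by
      rw [(Finset.mem_filter.mp tu.2).2, (Finset.mem_filter.mp tu'.2).2]
    rw [h1] at h2
    exact Subtype.ext (Prod.ext h1 (mul_left_cancel h2))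
  set C := Nat.card (centralizer ({(⟨n, hnN⟩ : N)} : Set N)) with hC
  have hmul := Subgroup.index_mul_card (centralizer ({(⟨n, hnN⟩ : N)} : Set N))
  rw [← hC] at hmul
  have hT : S.card * S.card ≤ 2 * T.card := by
    rw [Finset.offDiag_card]
    have := Nat.mul_le_mul_right S.card hs2
    omega
  have h3 : Nat.card N * Nat.card N ≤ Nat.card N * (2 * (c * c) * C) := by
    calc Nat.card N * Nat.card N ≤ (c * S.card) * (c * S.card) := Nat.mul_le_mul hsN hsN
      _ = c * c * (S.card * S.card) := by ring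
      _ ≤ c * c * (2 * (Nat.card N * C)) := Nat.mul_le_mul_left _
          (hT.trans (Nat.mul_le_mul_left _ (hbig.trans (Nat.mul_le_mul_left _ hfib))))
      _ = _ := by ring
  have h4 := Nat.le_of_mul_le_mul_left h3 Nat.card_pos
  conv_lhs at h4 => rw [← hmul]
  exact Nat.le_of_mul_le_mul_right h4 Nat.card_pos

/-- A minimal normal subgroup of even order. -/
theorem card_minimal_le {N : Subgroup G} [N.Normal] (hev : 2 ∣ Nat.card N)
    (hmin : ∀ K : Subgroup G, K.Normal → K ≤ N → K ≠ ⊥ → K = N)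
    {a : ℕ} (ha : (Nat.card G).factorization 2 ≤ a) {x : G} (hx : x * x = 1) {c : ℕ}
    (hc : cent x ≤ c) :
    Nat.card N ≤ 2 ^ a + c + ((2 * (c * c)).factorial) ^ a := by
  classical
  by_cases hsmall : Nat.card N ≤ c
  · exact hsmall.trans ((Nat.le_add_left c _).trans (Nat.le_add_right _ _))
  by_cases hab : ∀ g ∈ N, ∀ h ∈ N, g * h = h * g
  · let K : Subgroup G :=
      { carrier := {g | g ∈ N ∧ g * g = 1}
        one_mem' := ⟨one_mem _, one_mul 1⟩
        mul_mem' := fun {g h} hg hh => ⟨mul_mem hg.1 hh.1, by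
          rw [mul_assoc, ← mul_assoc h, hab h hh.1 g hg.1, mul_assoc g h, hh.2, mul_one, hg.2]⟩
        inv_mem' := fun {g} hg => ⟨inv_mem hg.1, by rw [← mul_inv_rev, hg.2, inv_one]⟩ }
    have hK : K.Normal := ⟨fun g hg t => ⟨Subgroup.Normal.conj_mem inferInstance g hg.1 t, by
      rw [show t * g * t⁻¹ * (t * g * t⁻¹) = t * (g * g) * t⁻¹ by group, hg.2]; group⟩⟩
    have : Fact (Nat.Prime 2) := ⟨Nat.prime_two⟩
    obtain ⟨g, hg⟩ := exists_prime_orderOf_dvd_card' 2 hev
    have hgG : orderOf (g : G) = 2 := by rw [Subgroup.orderOf_coe, hg]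
    have hgK : (g : G) ∈ K := ⟨g.2, by rw [← sq, ← hgG, pow_orderOf_eq_one]⟩
    have hKN := hmin K hK (fun z hz => hz.1) fun h => by
      rw [h, Subgroup.mem_bot] at hgK
      rw [hgK, orderOf_one] at hgG
      omega
    have hp : IsPGroup 2 N := fun z => ⟨1, Subtype.ext (by
      have hz : (z : G) ∈ K := by rw [hKN]; exact z.2
      rw [pow_one, SubmonoidClass.coe_pow, sq]
      exact hz.2)⟩
    obtain ⟨k, hk⟩ := IsPGroup.iff_card.mp hp
    have := Nat.pow_le_pow_right Nat.two_pos (pow_le_of_dvd ha (hk ▸ card_subgroup_dvd_card N))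
    omega
  obtain ⟨n, hn1, hidx⟩ := exists_index_le hx hc (not_le.mp hsmall)
  set Cn := centralizer ({n} : Set N)
  have hCne : Cn ≠ ⊤ := fun h => by
    have hcen : n ∈ center N := Subgroup.mem_center_iff.mpr fun g =>
      mem_centralizer_singleton_iff.mp (show g ∈ Cn by rw [h]; exact Subgroup.mem_top g)
    have hZn : ((center N).map N.subtype).Normal := inferInstance
    have hZ := hmin _ hZn (Subgroup.map_subtype_le _) fun hb => hn1 (Subtype.ext (by
      have : (n : G) ∈ (center N).map N.subtype := ⟨n, hcen, rfl⟩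
      rw [hb, Subgroup.mem_bot] at this
      exact this))
    refine hab fun g hg h hh => ?_
    obtain ⟨g', hg', rfl⟩ : g ∈ (center N).map N.subtype := by rw [hZ]; exact hg
    exact (congrArg Subtype.val (Subgroup.mem_center_iff.mp hg' ⟨h, hh⟩)).symm
  have hcore : Cn.normalCore.index ≤ (2 * (c * c)).factorial := by
    rw [normalCore_eq_ker, Subgroup.index_ker]
    refine (Nat.card_le_card_of_injective _ Subtype.val_injective).trans ?_
    rw [Nat.card_perm, ← Subgroup.index]
    exact Nat.factorial_le hidx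
  -- a maximal normal subgroup above the core
  obtain ⟨M0, ⟨hle, hnor, hne⟩, hmax⟩ :=
    Set.Finite.exists_maximalFor (fun M : Subgroup N => Nat.card M)
      {M : Subgroup N | Cn.normalCore ≤ M ∧ M.Normal ∧ M ≠ ⊤} (Set.toFinite _) ⟨Cn.normalCore, le_rfl, inferInstance, fun h =>
        hCne (top_le_iff.mp (h ▸ Cn.normalCore_le))⟩
  have hM0max : ∀ K : Subgroup N, K.Normal → M0 ≤ K → K = M0 ∨ K = ⊤ := fun K hK hMK => by
    by_contra hc'
    push Not at hc'
    have h := hmax ⟨hle.trans hMK, hK, hc'.2⟩ (Subgroup.card_le_of_le hMK)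
    exact hc'.1 (Subgroup.eq_of_le_of_card_ge hMK h).symm
  let τ : G → (N ≃* N) := fun g => MulAut.conjNormal g
  have hMg : ∀ g : G, (M0.map (τ g).toMonoidHom).Normal := fun g =>
    hnor.map _ (τ g).surjective
  have hidxg : ∀ g : G, (M0.map (τ g).toMonoidHom).index = M0.index := fun g =>
    Subgroup.index_map_equiv M0 (τ g)
  -- a least intersection of conjugates
  obtain ⟨J, ⟨hJn, k, hJk⟩, hJmin⟩ :=
    Set.Finite.exists_minimalFor (fun J : Subgroup N => Nat.card J)
      {J : Subgroup N | J.Normal ∧ ∃ k, J.index = M0.index ^ k} (Set.toFinite _) ⟨⊤, inferInstance, 0, by simp⟩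
  have hJle : ∀ g : G, J ≤ M0.map (τ g).toMonoidHom := fun g => by
    set Mg := M0.map (τ g).toMonoidHom with hMgdef
    haveI := hMg g
    by_contra hnle
    have hsup : J ⊔ Mg = ⊤ := by
      rcases hM0max ((J ⊔ Mg).comap (τ g).toMonoidHom) (Subgroup.Normal.comap inferInstance _)
        (Subgroup.map_le_iff_le_comap.mp le_sup_right) with h | h
      · exfalso
        apply hnle
        have e : J ⊔ Mg = Mg := (Subgroup.map_comap_eq_self_of_surjective
          (f := (τ g).toMonoidHom) (τ g).surjective _).symm.trans (congrArg _ h)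
        exact le_sup_left.trans e.le
      · exact (Subgroup.map_comap_eq_self_of_surjective
          (f := (τ g).toMonoidHom) (τ g).surjective _).symm.trans
          ((congrArg _ h).trans (Subgroup.map_top_of_surjective _ (τ g).surjective))
    have hnew : (J ⊓ Mg).index = M0.index ^ (k + 1) := by
      have h1 := Subgroup.relIndex_mul_index (inf_le_left : J ⊓ Mg ≤ J)
      rw [Subgroup.inf_relIndex_left, ← Subgroup.relIndex_sup_right, hsup, Subgroup.relIndex_top_right,
        hidxg g, hJk] at h1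
      rw [← h1, pow_succ, mul_comm]
    exact hnle ((Subgroup.eq_of_le_of_card_ge inf_le_left
      (hJmin ⟨inferInstance, k + 1, hnew⟩ (Subgroup.card_le_of_le inf_le_left))).symm.le.trans
        inf_le_right)
  have hJbot : J = ⊥ := by
    let I0 : Subgroup G :=
      { carrier := {z | ∀ g : G, g⁻¹ * z * g ∈ M0.map N.subtype}
        one_mem' := fun g => by simp
        mul_mem' := fun {z w} hz hw g => by
          rw [show g⁻¹ * (z * w) * g = (g⁻¹ * z * g) * (g⁻¹ * w * g) by group]
          exact mul_mem (hz g) (hw g)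
        inv_mem' := fun {z} hz g => by
          rw [show g⁻¹ * z⁻¹ * g = (g⁻¹ * z * g)⁻¹ by group]
          exact inv_mem (hz g) }
    have hI0 : I0.Normal := ⟨fun z hz t g => by
      rw [show g⁻¹ * (t * z * t⁻¹) * g = (t⁻¹ * g)⁻¹ * z * (t⁻¹ * g) by group]
      exact hz _⟩
    have hI0N : I0 ≤ N := fun z hz => by
      have := Subgroup.map_subtype_le M0 (hz 1)
      simpa using this
    have hI0ne : I0 ≠ N := fun h => hne (eq_top_iff.mpr fun z _ => by
      have := (show (z : G) ∈ I0 by rw [h]; exact z.2) 1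
      simp only [inv_one, one_mul, mul_one] at this
      obtain ⟨w, hw, e⟩ := this
      rwa [← Subtype.ext e])
    have hI0bot : I0 = ⊥ := by
      by_contra hb
      exact hI0ne (hmin I0 hI0 hI0N hb)
    rw [eq_bot_iff]
    intro z hz
    have hzI : (z : G) ∈ I0 := fun g => by
      obtain ⟨w, hw, e⟩ := hJle g hz
      refine ⟨w, hw, ?_⟩
      have e' : g * (w : G) * g⁻¹ = (z : G) := by
        rw [← e]; exact (MulAut.conjNormal_apply g w).symm
      rw [← e']
      show (w : G) = _
      group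
    rw [hI0bot, Subgroup.mem_bot] at hzI
    exact Subgroup.mem_bot.mpr (Subtype.ext hzI)
  rw [hJbot, Subgroup.index_bot] at hJk
  have hL : 2 ∣ M0.index := Nat.prime_two.dvd_of_dvd_pow (hJk ▸ hev)
  have hk : k ≤ a := pow_le_of_dvd ha
    ((pow_dvd_pow_of_dvd hL k).trans (hJk ▸ card_subgroup_dvd_card N))
  have hLle : M0.index ≤ (2 * (c * c)).factorial :=
    (Nat.le_of_dvd (Nat.pos_of_ne_zero Subgroup.index_ne_zero_of_finite)
      (Subgroup.index_dvd_of_le hle)).trans hcore
  rw [hJk]
  exact ((Nat.pow_le_pow_left hLle k).trans (Nat.pow_le_pow_right (Nat.factorial_pos _) hk)).trans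
    (Nat.le_add_left _ _)

/-- **Bounded order**: a four-group all of whose involutions have centralizers of order at most `c`
in a group with Sylow 2-subgroups of order at most `2 ^ a`. -/
theorem exists_bound (a : ℕ) : ∀ c : ℕ, ∃ F : ℕ, ∀ (G : Type u) [Group G] [Finite G] (x y : G),
    (Nat.card G).factorization 2 ≤ a → x * x = 1 → y * y = 1 → Commute x y → x ≠ 1 → y ≠ 1 →
    x ≠ y → cent x ≤ c → cent y ≤ c → cent (x * y) ≤ c → Nat.card G ≤ F := by
  induction a with
  | zero =>
    refine fun c => ⟨0, fun G _ _ x y ha hx _ _ hx1 _ _ _ _ _ => absurd ?_ hx1⟩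
    have h2 : orderOf x ∣ 2 := orderOf_dvd_of_pow_eq_one (by rw [sq, hx])
    rcases (Nat.dvd_prime Nat.prime_two).mp h2 with h | h
    · exact orderOf_eq_one_iff.mp h
    · have := pow_le_of_dvd (k := 1) ha (by rw [pow_one, ← h]; exact orderOf_dvd_natCard x)
      omega
  | succ a ih =>
    intro c
    set o := c * (c * c) with ho
    set c' := c * o with hc'
    set B := 2 ^ (a + 1) + c' + ((2 * (c' * c')).factorial) ^ (a + 1) with hB
    obtain ⟨F, hF⟩ := ih (c' * B)
    refine ⟨o * (c' * B + B * F + 1), fun G _ _ x y ha hx hy hxy hx1 hy1 hne hcx hcy hcz => ?_⟩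
    classical
    obtain ⟨O, ⟨hOn, hOodd⟩, hOmax⟩ :=
      Set.Finite.exists_maximalFor (fun O : Subgroup G => Nat.card O)
      {O : Subgroup G | O.Normal ∧ Odd (Nat.card O)} (Set.toFinite _) ⟨⊥, inferInstance, by simp⟩
    haveI := hOn
    have hOle : Nat.card O ≤ o := card_odd_le hOodd hx hy hxy hcx hcy hcz
    have hnotO : ∀ z : G, z * z = 1 → z ≠ 1 → z ∉ O := fun z hz hz1 hzO => by
      have h2 : orderOf (⟨z, hzO⟩ : O) = 2 := orderOf_eq_prime (Subtype.ext (by simp [sq, hz]))
        fun h => hz1 (congrArg Subtype.val h)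
      have := orderOf_dvd_natCard (⟨z, hzO⟩ : O)
      rw [h2] at this
      exact Nat.not_even_iff_odd.mpr hOodd (even_iff_two_dvd.mpr this)
    set f := QuotientGroup.mk' O with hf
    have hfs := QuotientGroup.mk'_surjective O
    have hker : Nat.card f.ker = Nat.card O := by rw [hf, QuotientGroup.ker_mk']
    have hQ : Nat.card G = Nat.card (G ⧸ O) * Nat.card O := card_eq_card_quotient_mul_card_subgroup O
    have hcentQ : ∀ z : G, cent z ≤ c → cent (f z) ≤ c' := fun z hz =>
      (cent_map_le f hfs z).trans (Nat.mul_le_mul hz (hker ▸ hOle))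
    suffices hgoal : Nat.card (G ⧸ O) ≤ c' * B + B * F + 1 by
      rw [hQ, mul_comm]; exact Nat.mul_le_mul hOle hgoal
    have haQ : (Nat.card (G ⧸ O)).factorization 2 ≤ a + 1 :=
      (Nat.factorization_le_iff_dvd Nat.card_pos.ne' Nat.card_pos.ne' |>.mpr
        (Dvd.intro _ hQ.symm) 2).trans ha
    by_cases htriv : Nat.card (G ⧸ O) = 1
    · omega
    haveI : Nontrivial (G ⧸ O) := Finite.one_lt_card_iff_nontrivial.mp
      (lt_of_le_of_ne Nat.card_pos (Ne.symm htriv))
    obtain ⟨N, ⟨hNn, hNb⟩, hNmin⟩ :=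
      Set.Finite.exists_minimalFor (fun N : Subgroup (G ⧸ O) => Nat.card N)
      {N : Subgroup (G ⧸ O) | N.Normal ∧ N ≠ ⊥} (Set.toFinite _) ⟨⊤, inferInstance, top_ne_bot⟩
    haveI := hNn
    have hNmin' : ∀ K : Subgroup (G ⧸ O), K.Normal → K ≤ N → K ≠ ⊥ → K = N := fun K hK hle hb =>
      Subgroup.eq_of_le_of_card_ge hle (hNmin ⟨hK, hb⟩ (Subgroup.card_le_of_le hle))
    have hev : 2 ∣ Nat.card N := by
      by_contra hodd
      have hO' : Odd (Nat.card N) := Nat.not_even_iff_odd.mp fun h => hodd (even_iff_two_dvd.mp h)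
      have hc2 : Nat.card (N.comap f) = Nat.card N * Nat.card O := by
        have h1 := Subgroup.index_mul_card (N.comap f)
        rw [Subgroup.index_comap_of_surjective _ hfs, hQ, ← Subgroup.index_mul_card N,
          mul_assoc] at h1
        exact Nat.eq_of_mul_eq_mul_left (Nat.pos_of_ne_zero Subgroup.index_ne_zero_of_finite) h1
      have h := hOmax (j := N.comap f) ⟨inferInstance, by rw [hc2]; exact hO'.mul hOodd⟩
        (show Nat.card O ≤ Nat.card (N.comap f) by
          rw [hc2]; exact Nat.le_mul_of_pos_left _ Nat.card_pos)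
      have h1 : Nat.card N = 1 := by
        change Nat.card (N.comap f) ≤ Nat.card O at h
        rw [hc2] at h
        have hpos := Nat.card_pos (α := N)
        have hpos' := Nat.card_pos (α := O)
        by_contra hn
        have : 2 * Nat.card O ≤ Nat.card N * Nat.card O := Nat.mul_le_mul_right _ (by omega)
        omega
      exact hNb (Subgroup.card_eq_one.mp h1)
    have hNB : Nat.card N ≤ B := card_minimal_le hev hNmin' haQ (x := f x)
      (by rw [← map_mul, hx, map_one]) (hcentQ x hcx)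
    by_cases hmem : f x ∈ N ∨ f y ∈ N ∨ f (x * y) ∈ N
    · have : Nat.card (G ⧸ O) ≤ c' * B := by
        rcases hmem with h | h | h <;>
          exact (card_le_of_mem h).trans (Nat.mul_le_mul (hcentQ _ (by assumption)) hNB)
      omega
    push Not at hmem
    set g := QuotientGroup.mk' N with hg
    have hgs := QuotientGroup.mk'_surjective N
    have hk1 : ∀ z, g (f z) = 1 ↔ f z ∈ N := fun z => QuotientGroup.eq_one_iff _
    have hfac : (Nat.card ((G ⧸ O) ⧸ N)).factorization 2 ≤ a := by
      have h := card_eq_card_quotient_mul_card_subgroup N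
      rw [h, Nat.factorization_mul Nat.card_pos.ne' Nat.card_pos.ne', Finsupp.add_apply] at haQ
      have := Nat.Prime.factorization_pos_of_dvd Nat.prime_two Nat.card_pos.ne' hev
      omega
    have hcent2 : ∀ z, cent (f z) ≤ c' → cent (g (f z)) ≤ c' * B := fun z hz =>
      (cent_map_le g hgs _).trans (Nat.mul_le_mul hz (by rw [hg, QuotientGroup.ker_mk']; exact hNB))
    have h2 : Nat.card ((G ⧸ O) ⧸ N) ≤ F := by
      refine hF _ (g (f x)) (g (f y)) hfac (by rw [← map_mul, ← map_mul, hx, map_one, map_one])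
        (by rw [← map_mul, ← map_mul, hy, map_one, map_one]) ((hxy.map f).map g)
        (fun h => hmem.1 ((hk1 x).mp h)) (fun h => hmem.2.1 ((hk1 y).mp h)) (fun h => hmem.2.2 ?_)
        (hcent2 x (hcentQ x hcx)) (hcent2 y (hcentQ y hcy))
        (by rw [← map_mul, ← map_mul]; exact hcent2 _ (hcentQ _ hcz))
      refine (hk1 _).mp ?_
      rw [map_mul, map_mul, h, ← map_mul, ← map_mul, hy, map_one, map_one]
    have h3 : Nat.card (G ⧸ O) ≤ B * F := by
      rw [card_eq_card_quotient_mul_card_subgroup N, mul_comm]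
      exact Nat.mul_le_mul hNB h2
    omega

end CfsgLib.FourBound
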