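import Cfsg.Agent.Lib.GL2.QuaternionEight
import Cfsg.Agent.S0257
import Mathlib

/-!
# Recognition of `GL(2,3)` as a split extension of `Q₈` by `S₃`
-/

set_option autoImplicit false

namespace CfsgLib.Invol.Octa

open QuaternionGroup CfsgLib.GL2

local notation "Q8" => QuaternionGroup 2
local notation "D3" => DihedralGroup 3

/-- The automorphism `i ↦ j ↦ k`. -/
def rot : Q8 → Q8 := ext8 (xa 0) (xa 3)

/-- The automorphism `i ↦ i⁻¹`, `j ↦ k⁻¹`. -/
def flip : Q8 → Q8 := ext8 (a 3) (xa 1)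

/-- The action of `D₃` on `Q₈`. -/
def act : D3 → Q8 → Q8
  | .r i => rot^[i.val]
  | .sr i => flip ∘ rot^[i.val]

theorem act_mul : ∀ g h : D3, ∀ x, act (g * h) x = act g (act h x) := by decide +kernel

theorem act_one : ∀ x, act 1 x = x := by decide +kernel

theorem act_map : ∀ g : D3, ∀ x y, act g (x * y) = act g x * act g y := by decide +kernel

/-- The action, as a homomorphism. -/
def actHom : D3 →* MulAut Q8 where
  toFun g :=
    { toFun := act g
      invFun := act g⁻¹
      left_inv := fun x => by rw [← act_mul, inv_mul_cancel, act_one]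
      right_inv := fun x => by rw [← act_mul, mul_inv_cancel, act_one]
      map_mul' := act_map g }
  map_one' := MulEquiv.ext act_one
  map_mul' g h := MulEquiv.ext (act_mul g h)

/-- Recognition of the semidirect product. -/
theorem equiv_model {X : Type*} [Group X] [Finite X] (hcard : Nat.card X = 48) (f : Q8 →* X)
    (hf : Function.Injective f) (α τ : X) (hα : α * α * α = 1) (hα' : α ∉ f.range)
    (hτ : τ * τ = 1) (hτα : τ * α * τ⁻¹ = α⁻¹) (h1 : ∀ x, α * f x * α⁻¹ = f (rot x))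
    (h2 : ∀ x, τ * f x * τ⁻¹ = f (flip x)) :
    Nonempty (SemidirectProduct Q8 D3 actHom ≃* X) := by
  classical
  set A : ZMod 3 → X := fun k => α ^ k.val with hA
  have hα3 : α ^ 3 = 1 := by rw [pow_succ, pow_two, hα]
  have hadd : ∀ i j, A (i + j) = A i * A j := by
    intro i j
    simp only [hA]
    rw [← pow_add, ZMod.val_add]
    exact (pow_eq_pow_mod _ hα3).symm
  have hA0 : A 0 = 1 := by simp [hA]
  have hneg : ∀ i, A (-i) = (A i)⁻¹ := by
    intro i
    rw [eq_inv_iff_mul_eq_one, ← hadd, neg_add_cancel, hA0]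
  have hconj : ∀ i, τ * A i * τ⁻¹ = (A i)⁻¹ := by
    intro i
    simp only [hA]
    rw [← conj_pow, hτα, inv_pow]
  have hcomm : ∀ i, A i * τ = τ * (A i)⁻¹ := by
    intro i
    calc A i * τ = ((A i)⁻¹)⁻¹ * τ := by rw [inv_inv]
      _ = (τ * A i * τ⁻¹)⁻¹ * τ := by rw [hconj]
      _ = τ * (A i)⁻¹ := by group
  let F : D3 → X := fun x =>
    match x with
    | .r k => A k
    | .sr k => τ * A k
  have hmul : ∀ x y, F (x * y) = F x * F y := by
    rintro (i | i) (j | j)
    · rw [DihedralGroup.r_mul_r]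
      exact hadd i j
    · rw [DihedralGroup.r_mul_sr]
      show τ * A (j - i) = A i * (τ * A j)
      rw [sub_eq_add_neg, add_comm, hadd, hneg, ← mul_assoc, ← mul_assoc, hcomm]
    · rw [DihedralGroup.sr_mul_r]
      show τ * A (i + j) = τ * A i * A j
      rw [hadd, mul_assoc]
    · rw [DihedralGroup.sr_mul_sr]
      show A (j - i) = τ * A i * (τ * A j)
      rw [sub_eq_add_neg, add_comm, hadd, hneg]
      calc (A i)⁻¹ * A j = τ * τ * ((A i)⁻¹ * A j) := by rw [hτ, one_mul]
        _ = τ * (τ * (A i)⁻¹) * A j := by group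
        _ = τ * (A i * τ) * A j := by rw [hcomm]
        _ = τ * A i * (τ * A j) := by group
  let g : D3 →* X := MonoidHom.mk' F hmul
  have hAf : ∀ i x, A i * f x * (A i)⁻¹ = f (rot^[i.val] x) := by
    intro i x
    simp only [hA]
    generalize i.val = n
    induction n with
    | zero => simp
    | succ n ih =>
      rw [pow_succ', Function.iterate_succ_apply', ← h1, ← ih]
      group
  have hgf : ∀ d x, g d * f x * (g d)⁻¹ = f (act d x) := by
    rintro (i | i) x
    · exact hAf i x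
    · show τ * A i * f x * (τ * A i)⁻¹ = f (flip (rot^[i.val] x))
      rw [← h2, ← hAf]
      group
  let L : SemidirectProduct Q8 D3 actHom →* X :=
    SemidirectProduct.lift f g fun d => MonoidHom.ext fun x => (hgf d x).symm
  have hα2 : α ^ 2 ∉ f.range := fun h => hα' (by
    rw [show α = (α ^ 2)⁻¹ * α ^ 3 by group, hα3, mul_one]
    exact inv_mem h)
  have hout : ∀ d, g d ∈ f.range → d = 1 := by
    rintro (i | i) hd
    · have hi : i.val = 0 ∨ i.val = 1 ∨ i.val = 2 := by have := ZMod.val_lt i; omega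
      rcases hi with hi | hi | hi
      · rw [(ZMod.val_eq_zero i).mp hi]; rfl
      · refine absurd ?_ hα'
        have h : α ^ i.val ∈ f.range := hd
        rwa [hi, pow_one] at h
      · refine absurd ?_ hα2
        have h : α ^ i.val ∈ f.range := hd
        rwa [hi] at h
    · exfalso
      obtain ⟨q, hq⟩ : τ * A i ∈ f.range := hd
      -- the commutator with `α` lies in the kernel
      refine hα2 ⟨rot q * q⁻¹, ?_⟩
      have h3 : τ * A i * α * (τ * A i)⁻¹ = α⁻¹ := by
        have hc : A i * α * (A i)⁻¹ = α := by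
          simp only [hA]; rw [← pow_succ, pow_succ', mul_inv_cancel_right]
        calc τ * A i * α * (τ * A i)⁻¹ = τ * (A i * α * (A i)⁻¹) * τ⁻¹ := by group
          _ = α⁻¹ := by rw [hc, hτα]
      rw [← hq] at h3
      rw [map_mul, map_inv, ← h1]
      calc α * f q * α⁻¹ * (f q)⁻¹ = α * (f q * α * (f q)⁻¹)⁻¹ := by group
        _ = α ^ 2 := by rw [h3, inv_inv, pow_two]
  have hL : Function.Injective L := by
    rw [← MonoidHom.ker_eq_bot_iff, Subgroup.eq_bot_iff_forall]
    intro m hm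
    have hm' : f m.left * g m.right = 1 := MonoidHom.mem_ker.mp hm
    have hr : m.right = 1 := hout _ ⟨(m.left)⁻¹, by rw [map_inv, inv_eq_of_mul_eq_one_right hm']⟩
    rw [hr, map_one, mul_one] at hm'
    exact SemidirectProduct.ext (hf (by rw [hm', SemidirectProduct.one_left, map_one])) hr
  refine ⟨MulEquiv.ofBijective L ((Nat.bijective_iff_injective_and_card _).mpr ⟨hL, ?_⟩)⟩
  rw [SemidirectProduct.card, hcard, DihedralGroup.nat_card, Nat.card_eq_fintype_card,
    QuaternionGroup.card]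

/-- The quaternion subgroup of `GL(2,3)`. -/
def qGL : Q8 →* GL (Fin 2) (ZMod 3) :=
  Matrix.SpecialLinearGroup.toGL.comp (MonoidHom.mk' Cfsg.Agent.S0257.qMap Cfsg.Agent.S0257.qMap_mul)

/-- An element of order three. -/
def uGL : GL (Fin 2) (ZMod 3) := ⟨!![1, 1; 0, 1], !![1, 2; 0, 1], by decide, by decide⟩

/-- An involution inverting `uGL`. -/
def dGL : GL (Fin 2) (ZMod 3) := ⟨!![1, 0; 0, 2], !![1, 0; 0, 2], by decide, by decide⟩

theorem gl_rels : uGL * uGL * uGL = 1 ∧ dGL * dGL = 1 ∧ dGL * uGL * dGL⁻¹ = uGL⁻¹ ∧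
    (∀ x, uGL * qGL x * uGL⁻¹ = qGL (rot x)) ∧ (∀ x, dGL * qGL x * dGL⁻¹ = qGL (flip x)) ∧
    (∀ x, qGL x ≠ uGL) ∧ (∀ x y, qGL x = qGL y → x = y) := by
  decide +kernel

theorem gl_card : Nat.card (GL (Fin 2) (ZMod 3)) = 48 := by
  haveI : Fact (Nat.Prime 3) := ⟨Nat.prime_three⟩
  rw [Matrix.card_GL_field, ZMod.card]
  decide

/-- Recognition of `GL(2,3)`. -/
theorem equiv_gl {X : Type*} [Group X] [Finite X] (hcard : Nat.card X = 48) (f : Q8 →* X)
    (hf : Function.Injective f) (α τ : X) (hα : α * α * α = 1) (hα' : α ∉ f.range)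
    (hτ : τ * τ = 1) (hτα : τ * α * τ⁻¹ = α⁻¹) (h1 : ∀ x, α * f x * α⁻¹ = f (rot x))
    (h2 : ∀ x, τ * f x * τ⁻¹ = f (flip x)) : Nonempty (X ≃* GL (Fin 2) (ZMod 3)) := by
  obtain ⟨e⟩ := equiv_model hcard f hf α τ hα hα' hτ hτα h1 h2
  obtain ⟨g1, g2, g3, g4, g5, g6, g7⟩ := gl_rels
  obtain ⟨e'⟩ := equiv_model gl_card qGL g7 uGL dGL g1 (fun ⟨x, hx⟩ => g6 x hx) g2 g3 g4 g5
  exact ⟨e.symm.trans e'⟩

end CfsgLib.Invol.Octa
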