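import Mathlib

/-!
# Odd product graphs on involutions
-/

set_option autoImplicit false

namespace CfsgLib.Invol

/-- A graph in which non-adjacent vertices have a common neighbour, and which is not complete, has diameter two. -/
theorem diam_eq_two {V : Type*} (G : SimpleGraph V)
    (h : ∀ u v : V, u ≠ v → ¬ G.Adj u v → ∃ w, G.Adj u w ∧ G.Adj w v)
    (hne : ∃ u v : V, u ≠ v ∧ ¬ G.Adj u v) : G.Connected ∧ G.diam = 2 := by
  obtain ⟨a, b, hab, hnab⟩ := hne
  haveI : Nonempty V := ⟨a⟩
  have hle : G.ediam ≤ 2 := by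
    refine SimpleGraph.ediam_le_of_edist_le fun u v => ?_
    rcases eq_or_ne u v with rfl | huv
    · simp
    by_cases hadj : G.Adj u v
    · rw [SimpleGraph.edist_eq_one_iff_adj.mpr hadj]; norm_num
    · obtain ⟨w, h1, h2⟩ := h u v huv hadj
      exact (SimpleGraph.edist_le (SimpleGraph.Walk.cons h1 (SimpleGraph.Walk.cons h2 SimpleGraph.Walk.nil))).trans (by simp)
  have hne_top : G.ediam ≠ ⊤ := ne_top_of_le_ne_top (by decide) hle
  have hge : (2 : ℕ∞) ≤ G.ediam := by
    refine le_trans ?_ (SimpleGraph.edist_le_ediam (u := a) (v := b))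
    have h0 : G.edist a b ≠ 0 := fun e => hab (SimpleGraph.edist_eq_zero_iff.mp e)
    have h1 : G.edist a b ≠ 1 := fun e => hnab (SimpleGraph.edist_eq_one_iff_adj.mp e)
    revert h0 h1
    generalize G.edist a b = n
    intro h0 h1
    induction n with
    | top => exact le_top
    | coe n =>
      have : 2 ≤ n := by
        rcases n with _ | _ | n
        · exact absurd rfl h0
        · exact absurd rfl h1
        · omega
      exact_mod_cast this
  refine ⟨SimpleGraph.connected_of_ediam_ne_top hne_top, ?_⟩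
  rw [SimpleGraph.diam, le_antisymm hle hge]
  rfl

/-- Two non-commuting involutions with abelian centralizers have a product of odd order. -/
theorem odd_orderOf_mul_of_abelian {G : Type*} [Group G] [Finite G]
    (hab : ∀ z : G, orderOf z = 2 → ∀ a b : G, a * z = z * a → b * z = z * b → a * b = b * a)
    {x y : G} (hx : x * x = 1) (hy : y * y = 1) (hne : x * y ≠ y * x) : Odd (orderOf (x * y)) := by
  by_contra h
  rw [Nat.not_odd_iff_even] at h
  obtain ⟨m, hm⟩ := h
  have hpos := orderOf_pos (x * y)
  have hz : orderOf ((x * y) ^ m) = 2 := by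
    rw [orderOf_pow' _ (by omega), hm, show m + m = m * 2 by ring, Nat.gcd_mul_right_left, Nat.mul_div_cancel_left _ (by omega)]
  set z := (x * y) ^ m with hzdef
  have hzz : z * z = 1 := by rw [hzdef, ← pow_add, ← hm, pow_orderOf_eq_one]
  have hxi : x⁻¹ = x := inv_eq_of_mul_eq_one_right hx
  have hyi : y⁻¹ = y := inv_eq_of_mul_eq_one_right hy
  have hzi : z⁻¹ = z := inv_eq_of_mul_eq_one_right hzz
  have hcx : x * (x * y) * x⁻¹ = (x * y)⁻¹ := by
    rw [mul_inv_rev, hxi, hyi, ← mul_assoc x x y, hx, one_mul]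
  have hxz : x * z = z * x := by
    refine mul_inv_eq_iff_eq_mul.mp ?_
    rw [hzdef, ← conj_pow, hcx, inv_pow, ← hzdef, hzi]
  have hyz : y * z = z * y := by
    have h1 : Commute z (x * y) := by rw [hzdef]; exact (Commute.refl _).pow_left m
    calc y * z = x * ((x * y) * z) := by rw [← mul_assoc, ← mul_assoc, hx, one_mul]
      _ = x * (z * (x * y)) := by rw [h1.eq]
      _ = (x * z) * (x * y) := by group
      _ = (z * x) * (x * y) := by rw [hxz]
      _ = z * y := by rw [mul_assoc, ← mul_assoc x x y, hx, one_mul]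
  exact hne (hab z hz x y hxz hyz)

end CfsgLib.Invol
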