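import Cfsg.Agent.Lib.Invol.SelfNormalizing

/-!
# The set-up in a simple group with self-normalising non-abelian subgroups
-/

set_option autoImplicit false
set_option linter.unusedSectionVars false
set_option linter.style.haveILetI false

namespace CfsgLib.Invol.SelfNorm

open CfsgLib.Invol.CASimple

universe u

variable {G : Type u} [Group G] [Finite G] [IsSimpleGroup G]

/-- A non-abelian subgroup centralising an element `w` of prime order is an abelian group
extended by an element of `p`-power order. -/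
theorem split_of_central (hna : NC (⊤ : Subgroup G)) (hS : SN G) {p : ℕ} [Fact p.Prime]
    {H : Subgroup G} (hH : NC H) {w : G} (hwH : w ∈ H) (hw : orderOf w = p)
    (hwc : ∀ x ∈ H, Commute x w) :
    ∃ K : Subgroup G, K ≤ H ∧ ¬ NC K ∧ w ∉ K ∧ (∀ h ∈ H, ∀ x ∈ K, h * x * h⁻¹ ∈ K) ∧
      (∀ x ∈ H, (orderOf x).Coprime p → x ∈ K) ∧
      ∃ b ∈ H, (∃ j, b ^ p ^ j = 1) ∧ ∀ x ∈ H, ∃ k ∈ K, ∃ i : ℕ, x = k * b ^ i := by
  classical
  let w' : H := ⟨w, hwH⟩
  have hw' : orderOf w' = p := by rw [← Subgroup.orderOf_coe]; exact hw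
  have hwp : IsPGroup p (Subgroup.zpowers w') := IsPGroup.of_card (n := 1) (by
    rw [Nat.card_zpowers, hw', pow_one])
  obtain ⟨R, hwR⟩ := hwp.exists_le_sylow
  have hRG : IsPGroup p ((R : Subgroup H).map H.subtype) := R.2.map _
  obtain ⟨S, hRS⟩ := hRG.exists_le_sylow
  have hRab : ¬ NC ((R : Subgroup H).map H.subtype) := fun h => sylow_comm hna hS S (h.mono hRS)
  letI : CommGroup (R : Subgroup H) :=
    { (inferInstance : Group (R : Subgroup H)) with
      mul_comm := fun a b => Subtype.ext (Subtype.ext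
        (commute_of_not_nc hRab ⟨a.1, a.2, rfl⟩ ⟨b.1, b.2, rfl⟩).eq) }
  let τ : H →* (R : Subgroup H) := MonoidHom.transfer (MonoidHom.id _)
  have hcen : ∀ z : H, Commute z w' := fun z => Subtype.ext (hwc z z.2).eq
  have hτw : τ w' ≠ 1 := by
    rw [MonoidHom.transfer_eq_pow _ w' (fun k g₀ _ => by
      rw [mul_assoc, ← ((hcen g₀).pow_right k).eq, ← mul_assoc, inv_mul_cancel, one_mul])]
    intro e
    have e' : w' ^ (R : Subgroup H).index = 1 := congrArg Subtype.val e
    have := orderOf_dvd_of_pow_eq_one e'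
    rw [hw'] at this
    exact R.not_dvd_index this
  let K : Subgroup G := τ.ker.map H.subtype
  have hKH : K ≤ H := by rintro _ ⟨x, -, rfl⟩; exact x.2
  have hKn : ∀ h ∈ H, ∀ x ∈ K, h * x * h⁻¹ ∈ K := by
    rintro h hh _ ⟨x, hx, rfl⟩
    exact ⟨_, τ.normal_ker.conj_mem x hx ⟨h, hh⟩, rfl⟩
  have hwK : w ∉ K := by
    rintro ⟨x, hx, hxw⟩
    exact hτw ((Subtype.ext hxw : x = w') ▸ MonoidHom.mem_ker.1 hx)
  have hKab : ¬ NC K := fun h => hwK (le_of_normalized hS h hKn hwH)
  have hco : ∀ x ∈ H, (orderOf x).Coprime p → x ∈ K := by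
    intro x hx hc
    refine ⟨⟨x, hx⟩, MonoidHom.mem_ker.2 (orderOf_eq_one_iff.1 ?_), rfl⟩
    obtain ⟨k, hk⟩ := R.2 (τ ⟨x, hx⟩)
    exact Nat.eq_one_of_dvd_coprimes (hc.pow_right k)
      ((orderOf_map_dvd τ _).trans (by rw [← Subgroup.orderOf_coe])) (orderOf_dvd_of_pow_eq_one hk)
  refine ⟨K, hKH, hKab, hwK, hKn, hco, ?_⟩
  have hdec : ∀ b : H, ∀ x ∈ (τ.ker ⊔ Subgroup.zpowers b), ∃ k ∈ K, ∃ i : ℕ, (x : G) = k * (b : G) ^ i := by
    intro b x hx
    obtain ⟨k, hk, z, hz, rfl⟩ := Subgroup.mem_sup_of_normal_left.1 hx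
    obtain ⟨i, hi⟩ := (mem_powers_iff_mem_zpowers).2 hz
    exact ⟨_, ⟨k, hk, rfl⟩, i, by rw [← hi]; simp⟩
  by_cases hcyc : ∃ b : H, τ.ker ⊔ Subgroup.zpowers b = ⊤
  · obtain ⟨b, hb⟩ := hcyc
    -- pass to the `p`-part of `b`
    obtain ⟨j, m, hm, hbm⟩ := Nat.exists_eq_pow_mul_and_not_dvd (orderOf_pos b).ne' p (Fact.out : p.Prime).ne_one
    have hcop : (p ^ j).Coprime m := ((Nat.Prime.coprime_iff_not_dvd Fact.out).2 hm).pow_left j
    obtain ⟨a, c, hac⟩ : ∃ a c : ℤ, (p ^ j : ℕ) * a + (m : ℕ) * c = 1 :=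
      ⟨_, _, by rw [← Nat.gcd_eq_gcd_ab, hcop.gcd_eq_one]; rfl⟩
    have hzK : (b ^ ((p ^ j : ℕ) * a : ℤ) : H) ∈ τ.ker := by
      rw [zpow_mul, zpow_natCast]
      refine Subgroup.zpow_mem _ ?_ a
      obtain ⟨x, hx, hxe⟩ := hco _ (SetLike.coe_mem (b ^ p ^ j)) (by
        rw [Subgroup.orderOf_coe]
        refine ((hcop.symm.coprime_dvd_left (orderOf_dvd_of_pow_eq_one (?_ : (b ^ p ^ j) ^ m = 1))).coprime_dvd_right
          ?_) 
        · rw [← pow_mul, ← hbm, pow_orderOf_eq_one]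
        · exact dvd_pow_self p (fun e => by
            subst e
            rw [pow_zero, one_mul] at hbm
            exact hwK (by
              have hb1 := hco _ (SetLike.coe_mem b) (by
                rw [Subgroup.orderOf_coe, hbm]; exact ((Nat.Prime.coprime_iff_not_dvd Fact.out).2 hm).symm)
              obtain ⟨k, hk, i, hi⟩ := hdec b w' (hb ▸ Subgroup.mem_top _)
              rw [show w = k * (b : G) ^ i from hi]
              exact mul_mem hk (pow_mem hb1 i))))
      rwa [← Subtype.ext hxe]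
    refine ⟨((b ^ ((m : ℕ) * c : ℤ) : H) : G), SetLike.coe_mem _, ⟨j, ?_⟩, fun x hx => ?_⟩
    · rw [← Subgroup.coe_pow, ← Subgroup.coe_one H]
      refine congrArg Subtype.val ?_
      rw [← zpow_natCast, ← zpow_mul, mul_comm ((m : ℤ) * c), ← mul_assoc,
        ← Nat.cast_mul, ← hbm, zpow_mul, zpow_natCast, pow_orderOf_eq_one, one_zpow]
    · have hb' : τ.ker ⊔ Subgroup.zpowers (b ^ ((m : ℕ) * c : ℤ)) = ⊤ := by
        rw [eq_top_iff, ← hb]
        refine sup_le le_sup_left (Subgroup.zpowers_le.2 ?_)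
        have e : b = b ^ ((p ^ j : ℕ) * a : ℤ) * b ^ ((m : ℕ) * c : ℤ) := by
          rw [← zpow_add, hac, zpow_one]
        have hm := Subgroup.mul_mem_sup hzK (Subgroup.mem_zpowers (b ^ ((m : ℕ) * c : ℤ)))
        rwa [← e] at hm
      exact hdec _ ⟨x, hx⟩ (hb' ▸ Subgroup.mem_top _)
  · exfalso
    push Not at hcyc
    have hKc : ∀ y ∈ H, ∀ k ∈ K, Commute k y := by
      intro y hy k hk
      by_contra hc
      have hn : (τ.ker ⊔ Subgroup.zpowers (⟨y, hy⟩ : H)).Normal := by
        refine ⟨fun a ha g => ?_⟩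
        have e : g * a * g⁻¹ = (g * a * g⁻¹ * a⁻¹) * a := by group
        rw [e]
        refine mul_mem (Subgroup.mem_sup_left (MonoidHom.mem_ker.2 ?_)) ha
        simp only [map_mul, map_inv]
        rw [mul_comm (τ g), mul_inv_cancel_right, mul_inv_cancel]
      have hnc : NC ((τ.ker ⊔ Subgroup.zpowers (⟨y, hy⟩ : H)).map H.subtype) := by
        obtain ⟨k', hk', rfl⟩ := hk
        exact ⟨_, ⟨k', Subgroup.mem_sup_left hk', rfl⟩, _,
          ⟨_, Subgroup.mem_sup_right (Subgroup.mem_zpowers _), rfl⟩, hc⟩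
      refine hcyc ⟨y, hy⟩ (eq_top_iff.2 fun z _ => ?_)
      obtain ⟨z', hz', hzz⟩ := le_of_normalized hS hnc (H := H) (by
        rintro g hg _ ⟨a, ha, rfl⟩
        exact ⟨_, hn.conj_mem a ha ⟨g, hg⟩, rfl⟩) z.2
      rwa [← Subtype.ext (show (z' : G) = (z : G) from hzz)]
    -- the Sylow subgroup of `H` supplements the central subgroup `K`
    have hsup : τ.ker ⊔ (R : Subgroup H) = ⊤ := by
      have := τ.normal_ker
      have h1 : (τ.ker ⊔ (R : Subgroup H)).index ∣ (R : Subgroup H).index :=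
        Subgroup.index_dvd_of_le le_sup_right
      have h2 : (τ.ker ⊔ (R : Subgroup H)).index ∣ Nat.card (R : Subgroup H) := by
        refine (Subgroup.index_dvd_of_le le_sup_left).trans ?_
        rw [Subgroup.index_ker]
        exact Subgroup.card_subgroup_dvd_card _
      exact Subgroup.index_eq_one.1 (Nat.eq_one_of_dvd_coprimes R.card_coprime_index h2 h1)
    obtain ⟨a, ha, b, hb, hab⟩ := hH
    have hdec' : ∀ x ∈ H, ∃ k ∈ K, ∃ r ∈ (R : Subgroup H).map H.subtype, x = k * r := by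
      intro x hx
      obtain ⟨k, hk, r, hr, e⟩ := Subgroup.mem_sup_of_normal_left.1
        (hsup ▸ Subgroup.mem_top (⟨x, hx⟩ : H))
      exact ⟨_, ⟨k, hk, rfl⟩, _, ⟨r, hr, rfl⟩, (congrArg Subtype.val e).symm⟩
    obtain ⟨k, hk, r, hr, rfl⟩ := hdec' a ha
    obtain ⟨k', hk', r', hr', rfl⟩ := hdec' b hb
    refine hab (Commute.mul_left (hKc _ hb k hk) (Commute.mul_right ?_ ?_))
    · exact (hKc r (by obtain ⟨x, -, rfl⟩ := hr; exact x.2) k' hk').symm
    · exact commute_of_not_nc hRab hr hr'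

/-- The centraliser of an element of prime order is abelian. -/
theorem prime_cent_comm (hna : NC (⊤ : Subgroup G)) (hS : SN G) {p : ℕ} [Fact p.Prime] {s : G}
    (hsp : orderOf s = p) : ¬ NC (Subgroup.centralizer ({s} : Set G)) := by
  intro hH
  obtain ⟨H, hHdef⟩ : ∃ H, H = Subgroup.centralizer ({s} : Set G) := ⟨_, rfl⟩
  rw [← hHdef] at hH
  obtain ⟨K, hKH, hKab, hsK, hKn, hco, -⟩ :=
    split_of_central hna hS hH (hHdef ▸ Subgroup.mem_centralizer_singleton_iff.2 rfl)
      hsp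
      fun x hx => Subgroup.mem_centralizer_singleton_iff.1 (hHdef ▸ hx)
  -- the elements of odd order form an abelian normal subgroup `O`
  let O : Subgroup H :=
    { carrier := {x | (orderOf x).Coprime p}
      one_mem' := by simp
      inv_mem' := fun {x} hx => by simpa using hx
      mul_mem' := fun {x y} hx hy => by
        have hc : Commute x y := Subtype.ext (commute_of_not_nc hKab
          (hco _ x.2 (by rwa [Subgroup.orderOf_coe])) (hco _ y.2 (by rwa [Subgroup.orderOf_coe]))).eq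
        exact Nat.Coprime.coprime_dvd_left (hc.orderOf_mul_dvd_lcm.trans (Nat.lcm_dvd_mul _ _))
          (Nat.Coprime.mul_left hx hy) }
  have hOn : O.Normal := ⟨fun x hx g => by
    show (orderOf (g * x * g⁻¹)).Coprime p
    rwa [show orderOf (g * x * g⁻¹) = orderOf x from
      orderOf_injective (MulAut.conj g).toMonoidHom (MulAut.conj g).injective x]⟩
  -- a Sylow subgroup through `s` lies in `H` and is abelian
  have hsz : IsPGroup p (Subgroup.zpowers s) := IsPGroup.of_card (n := 1) (by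
    rw [Nat.card_zpowers, pow_one, hsp])
  obtain ⟨S, hsS⟩ := hsz.exists_le_sylow
  have hSab := sylow_comm hna hS S
  have hSH : (S : Subgroup G) ≤ H := fun z hz => hHdef ▸
    Subgroup.mem_centralizer_singleton_iff.2 (commute_of_not_nc hSab hz (hsS (Subgroup.mem_zpowers s))).eq
  have hsup : O ⊔ (S : Subgroup G).subgroupOf H = ⊤ := by
    refine Subgroup.index_eq_one.1 (Nat.eq_one_iff_not_exists_prime_dvd.2 fun r hr hd => ?_)
    have : Fact r.Prime := ⟨hr⟩
    by_cases h2 : r = p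
    · subst h2
      refine (S.subtype hSH).not_dvd_index (hd.trans ?_)
      exact Subgroup.index_dvd_of_le le_sup_right
    · obtain ⟨P⟩ : Nonempty (Sylow r H) := inferInstance
      refine P.not_dvd_index (hd.trans (Subgroup.index_dvd_of_le fun x hx => Subgroup.mem_sup_left ?_))
      obtain ⟨k, hk⟩ := P.2 ⟨x, hx⟩
      exact (((Nat.coprime_primes hr Fact.out).2 h2).pow_left k).coprime_dvd_left
        (orderOf_dvd_of_pow_eq_one (congrArg Subtype.val hk))
  have hdec : ∀ x : H, ∃ o ∈ O, ∃ r ∈ (S : Subgroup G).subgroupOf H, o * r = x := fun x =>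
    Subgroup.mem_sup_of_normal_left.1 (hsup ▸ Subgroup.mem_top x)
  by_cases hall : ∀ o ∈ O, ∀ r ∈ (S : Subgroup G).subgroupOf H, Commute o r
  · obtain ⟨x, hx, y, hy, hxy⟩ := hH
    obtain ⟨o, ho, r, hr, e⟩ := hdec ⟨x, hx⟩
    obtain ⟨o', ho', r', hr', e'⟩ := hdec ⟨y, hy⟩
    have hoo : Commute o o' := Subtype.ext (commute_of_not_nc hKab
      (hco _ o.2 (by rw [Subgroup.orderOf_coe]; exact ho)) (hco _ o'.2 (by rw [Subgroup.orderOf_coe]; exact ho'))).eq
    have hrr : Commute r r' := Subtype.ext (commute_of_not_nc hSab hr hr').eq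
    have h2 : Commute (o * r) (o' * r') :=
      Commute.mul_left (hoo.mul_right (hall o ho r' hr')) ((hall o' ho' r hr).symm.mul_right hrr)
    rw [e, e'] at h2
    exact hxy (congrArg Subtype.val h2.eq)
  · push Not at hall
    obtain ⟨o, ho, x, hx, hox⟩ := hall
    -- `O ⟨x⟩` is all of `H`, so `S` is cyclic
    have hn : ∀ h : H, ∀ z ∈ O ⊔ Subgroup.zpowers x, h * z * h⁻¹ ∈ O ⊔ Subgroup.zpowers x := by
      intro h z hz
      obtain ⟨o₁, ho₁, x₁, hx₁, rfl⟩ := Subgroup.mem_sup_of_normal_left.1 hz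
      obtain ⟨o₂, ho₂, r, hr, rfl⟩ := hdec h
      obtain ⟨i, rfl⟩ := hx₁
      have hrx : Commute r x := Subtype.ext (commute_of_not_nc hSab hr hx).eq
      rw [show o₂ * r * (o₁ * x ^ i) * (o₂ * r)⁻¹ =
        o₂ * ((r * o₁ * r⁻¹) * (r * x ^ i * r⁻¹)) * o₂⁻¹ by group, (hrx.zpow_right i).eq, mul_inv_cancel_right]
      exact mul_mem (mul_mem (Subgroup.mem_sup_left ho₂) (mul_mem (Subgroup.mem_sup_left (hOn.conj_mem o₁ ho₁ r))
        (Subgroup.mem_sup_right ⟨i, rfl⟩))) (inv_mem (Subgroup.mem_sup_left ho₂))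
    have hnc : NC ((O ⊔ Subgroup.zpowers x).map H.subtype) :=
      ⟨_, ⟨o, Subgroup.mem_sup_left ho, rfl⟩, _, ⟨x, Subgroup.mem_sup_right (Subgroup.mem_zpowers x), rfl⟩,
        fun e => hox (Subtype.ext e.eq)⟩
    have htop := le_of_normalized hS hnc (H := H) (by
      rintro h hh _ ⟨z, hz, rfl⟩
      exact ⟨_, hn ⟨h, hh⟩ z hz, rfl⟩)
    have hcyc : IsCyclic (S : Subgroup G) := by
      refine ⟨⟨⟨(x : G), hx⟩, fun ⟨r, hr⟩ => ?_⟩⟩
      obtain ⟨z, hz, hzr⟩ := htop (hSH hr)
      obtain ⟨o₁, ho₁, x₁, ⟨i, rfl⟩, rfl⟩ := Subgroup.mem_sup_of_normal_left.1 hz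
      refine ⟨i, Subtype.ext ?_⟩
      have ho1 : (o₁ : G) ∈ (S : Subgroup G) := by
        have := mul_mem hr (inv_mem (zpow_mem (show (x : G) ∈ (S : Subgroup G) from hx) i))
        rwa [← hzr, map_mul, map_zpow, Subgroup.coe_subtype, mul_inv_cancel_right] at this
      obtain ⟨k, hk⟩ := S.2 ⟨o₁, ho1⟩
      have h1 : o₁ = 1 := orderOf_eq_one_iff.1 (Nat.eq_one_of_dvd_coprimes (Nat.Coprime.pow_right k ho₁)
        dvd_rfl (orderOf_dvd_of_pow_eq_one (Subtype.ext (congrArg Subtype.val hk : (o₁ : G) ^ p ^ k = 1))))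
      subst hzr
      subst h1
      simp
    -- the normaliser of `S` centralises it
    have hSne : (S : Subgroup G) ≠ ⊥ := fun e => by
      have := hsS (Subgroup.mem_zpowers s)
      rw [e, Subgroup.mem_bot] at this
      rw [this, orderOf_one] at hsp
      exact (Fact.out : p.Prime).one_lt.ne hsp
    have hs1 : s ≠ 1 := fun e => by
      rw [e, orderOf_one] at hsp
      exact (Fact.out : p.Prime).one_lt.ne hsp
    have hle : Subgroup.normalizer ((S : Subgroup G) : Set G) ≤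
        Subgroup.centralizer ((S : Subgroup G) : Set G) := by
      intro g hg
      have hgs : g * s * g⁻¹ ∈ Subgroup.zpowers s := by
        -- the elements of the cyclic group `S` killed by `p` are the powers of `s`
        classical
        letI := Fintype.ofFinite (S : Subgroup G)
        have hc := hcyc.card_pow_eq_one_le (α := (S : Subgroup G)) (Fact.out : p.Prime).pos
        let F := Finset.univ.filter fun z : (S : Subgroup G) => z ^ p = 1
        let W : Finset (S : Subgroup G) :=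
          Finset.univ.filter fun z => (z : G) ∈ Subgroup.zpowers s
        have hWF : W ⊆ F := fun z hz => by
          rw [Finset.mem_filter] at hz ⊢
          obtain ⟨i, hi⟩ := hz.2
          refine ⟨Finset.mem_univ _, Subtype.ext ?_⟩
          rw [Subgroup.coe_pow, ← hi, ← zpow_natCast, zpow_comm, zpow_natCast,
            orderOf_dvd_iff_pow_eq_one.1 hsp.dvd, one_zpow]
          rfl
        have hW : W.card = p := by
          letI := Fintype.ofFinite (Subgroup.zpowers s)
          refine Eq.trans ?_ ((Nat.card_zpowers s).trans hsp)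
          rw [Nat.card_eq_fintype_card]
          refine Finset.card_bij (fun z hz => ⟨(z : G), (Finset.mem_filter.1 hz).2⟩)
            (fun _ _ => Finset.mem_univ _) (fun _ _ _ _ e => Subtype.ext (congrArg (fun w : Subgroup.zpowers s => (w : G)) e))
            fun w _ => ⟨⟨(w : G), hsS w.2⟩, Finset.mem_filter.2 ⟨Finset.mem_univ _, w.2⟩, rfl⟩
        have hFW : F = W := (Finset.eq_of_subset_of_card_le hWF (by rw [hW]; exact hc)).symm
        have hmem : (⟨g * s * g⁻¹, (Subgroup.mem_normalizer_iff.1 hg s).1 (hsS (Subgroup.mem_zpowers s))⟩ :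
            (S : Subgroup G)) ∈ F := Finset.mem_filter.2 ⟨Finset.mem_univ _, Subtype.ext (by
          rw [Subgroup.coe_pow, conj_pow, orderOf_dvd_iff_pow_eq_one.1 hsp.dvd, mul_one, mul_inv_cancel]
          rfl)⟩
        rw [hFW] at hmem
        exact (Finset.mem_filter.1 hmem).2
      -- so `g⁻¹` normalises the centraliser of `s`
      have hgH : g ∈ H := by
        have hinv : g⁻¹ ∈ H := by
          refine hS H (NC.mono hnc (fun z hz => ?_)) g⁻¹ fun h hh => ?_
          · obtain ⟨z, -, rfl⟩ := hz; exact z.2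
          · obtain ⟨i, hi⟩ := hgs
            have hh' : Commute h (g * s * g⁻¹) := by
              rw [← hi]
              exact Commute.zpow_right (Subgroup.mem_centralizer_singleton_iff.1 (hHdef ▸ hh)) i
            rw [hHdef, Subgroup.mem_centralizer_singleton_iff]
            calc g⁻¹ * h * g⁻¹⁻¹ * s = g⁻¹ * (h * (g * s * g⁻¹)) * g := by group
              _ = g⁻¹ * (g * s * g⁻¹ * h) * g := by rw [hh'.eq]
              _ = s * (g⁻¹ * h * g⁻¹⁻¹) := by group
        exact inv_inv g ▸ inv_mem hinv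
      obtain ⟨o', ho', r, hr, hor⟩ := hdec ⟨g, hgH⟩
      refine Subgroup.mem_centralizer_iff.2 fun y hy => ?_
      have hry : Commute (r : G) y := commute_of_not_nc hSab hr hy
      -- the commutator of `o'` and `y` lies in `O` and in `S`
      have hgy : (⟨g, hgH⟩ : H) * ⟨y, hSH hy⟩ * (⟨g, hgH⟩ : H)⁻¹ = o' * ⟨y, hSH hy⟩ * o'⁻¹ := by
        rw [← hor]
        have hry' : Commute r (⟨y, hSH hy⟩ : H) := Subtype.ext hry.eq
        rw [show o' * r * (⟨y, hSH hy⟩ : H) * (o' * r)⁻¹ = o' * (r * ⟨y, hSH hy⟩ * r⁻¹) * o'⁻¹ by group,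
          hry'.eq, mul_inv_cancel_right]
      obtain ⟨c, hc⟩ : ∃ c, c = o' * (⟨y, hSH hy⟩ : H) * o'⁻¹ * (⟨y, hSH hy⟩ : H)⁻¹ := ⟨_, rfl⟩
      have hcO : c ∈ O := by
        rw [hc, show o' * (⟨y, hSH hy⟩ : H) * o'⁻¹ * (⟨y, hSH hy⟩ : H)⁻¹ =
          o' * ((⟨y, hSH hy⟩ : H) * o'⁻¹ * (⟨y, hSH hy⟩ : H)⁻¹) by group]
        exact mul_mem ho' (hOn.conj_mem _ (inv_mem ho') _)
      have hcS : (c : G) ∈ (S : Subgroup G) := by
        rw [hc, ← hgy]
        exact mul_mem ((Subgroup.mem_normalizer_iff.1 hg y).1 hy) (inv_mem hy)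
      obtain ⟨k, hk⟩ := S.2 ⟨c, hcS⟩
      have hc1 : c = 1 := orderOf_eq_one_iff.1 (Nat.eq_one_of_dvd_coprimes (Nat.Coprime.pow_right k hcO)
        dvd_rfl (orderOf_dvd_of_pow_eq_one (Subtype.ext (congrArg Subtype.val hk : (c : G) ^ p ^ k = 1))))
      rw [hc1, eq_comm, mul_inv_eq_one, ← hgy] at hc
      have e := congrArg Subtype.val hc
      simp only [Subgroup.coe_mul, Subgroup.coe_inv] at e
      calc y * g = g * y * g⁻¹ * g := by rw [e]
        _ = g * y := by group
    have hcompl := MonoidHom.ker_transferSylow_isComplement' S hle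
    rcases (MonoidHom.transferSylow S hle).normal_ker.eq_bot_or_eq_top with e | e <;> rw [e] at hcompl
    · exact hSab (Subgroup.isComplement'_bot_left.1 hcompl ▸ hna)
    · exact hSne (Subgroup.isComplement'_top_left.1 hcompl)

theorem ca_of_sn (hna : NC (⊤ : Subgroup G)) (hS : SN G) : CA G := by
  intro x a b hx ha hb
  obtain ⟨p, hp, hdvd⟩ := Nat.exists_prime_and_dvd (fun e => hx (orderOf_eq_one_iff.1 e))
  have : Fact p.Prime := ⟨hp⟩
  have hw : orderOf (x ^ (orderOf x / p)) = p := orderOf_pow_orderOf_div (orderOf_pos x).ne' hdvd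
  exact commute_of_not_nc (prime_cent_comm hna hS hw)
    (Subgroup.mem_centralizer_singleton_iff.2 (ha.pow_right _).eq)
    (Subgroup.mem_centralizer_singleton_iff.2 (hb.pow_right _).eq)

end CfsgLib.Invol.SelfNorm
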