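import Cfsg.Agent.Lib.Invol.TICentKernel
import Cfsg.Agent.Lib.Invol.CAClass
import Cfsg.Agent.Lib.Invol.SelfNormalizingPSL
import Cfsg.Agent.Lib.CNOdd.Solvable
import Cfsg.Agent.Lib.Fitting.Basic
import Cfsg.Agent.S0183
import Cfsg.Prelude.Def_OddOrderLocal

/-!
# Groups in which every centraliser is a TI-subset

Commuting non-identity elements have centralisers with the same normaliser `M`. The Fitting
subgroup `F` of `M` is then a nilpotent TI-subgroup containing the centraliser of each of its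
non-identity elements.
-/

set_option autoImplicit false
set_option linter.unusedSectionVars false

namespace CfsgLib.Invol.TICent

open CfsgLib.Invol.CASimple

universe u

variable {G : Type u} [Group G] [Finite G]

/-- Every centraliser is a TI-subset. -/
def AllTI (G : Type u) [Group G] : Prop :=
  ∀ x : G, Cfsg.IsTISubset (Subgroup.centralizer ({x} : Set G) : Set G)

/-- The normaliser of the centraliser of an element. -/
abbrev centNorm (x : G) : Subgroup G :=
  Subgroup.normalizer (Subgroup.centralizer ({x} : Set G) : Set G)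

theorem mem_centNorm_of (h : AllTI G) {g x y : G} (hy : y ≠ 1) (h1 : Commute y x)
    (h2 : Commute (g * y * g⁻¹) x) : g ∈ centNorm x := by
  by_contra hg
  exact hy (h x g hg y (mem_cent.2 h1) (mem_cent.2 h2))

/-- A conjugate of `x` by the normaliser of its centraliser is central in that centraliser. -/
theorem commute_conj_of_mem {g x y : G} (hg : g ∈ centNorm x) (hy : Commute y x) :
    Commute (g * x * g⁻¹) y := by
  have e : g⁻¹ * y * g ∈ Subgroup.centralizer ({x} : Set G) := by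
    have := (Subgroup.mem_normalizer_iff.1 (inv_mem hg) y).1 (mem_cent.2 hy)
    rwa [inv_inv] at this
  exact (mem_cent.1 ((cent_conj g x).2 e)).symm

theorem centNorm_le (h : AllTI G) {x y : G} (hx : x ≠ 1) (hc : Commute x y) :
    centNorm x ≤ centNorm y := fun _ hg =>
  mem_centNorm_of h hx hc (commute_conj_of_mem hg hc.symm)

theorem centNorm_eq (h : AllTI G) {x y : G} (hx : x ≠ 1) (hy : y ≠ 1) (hc : Commute x y) :
    centNorm x = centNorm y :=
  le_antisymm (centNorm_le h hx hc) (centNorm_le h hy hc.symm)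

theorem cent_le_centNorm (x : G) : Subgroup.centralizer ({x} : Set G) ≤ centNorm x :=
  Subgroup.le_normalizer

/-- An element whose centraliser is normal lies in the Fitting subgroup. -/
theorem mem_fitting_of_normal {x : G} (hn : (Subgroup.centralizer ({x} : Set G)).Normal) :
    x ∈ Cfsg.fittingSubgroup G := by
  let C := Subgroup.centralizer ({x} : Set G)
  have : C.Normal := hn
  let Z : Subgroup G := (Subgroup.center C).map C.subtype
  have hZn : Z.Normal := ConjAct.normal_of_characteristic_of_normal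
  have hZc : IsMulCommutative Z := ⟨⟨fun a b => Subtype.ext (by
    obtain ⟨_, a, ha, rfl⟩ := a
    obtain ⟨_, b, hb, rfl⟩ := b
    show (a : G) * b = b * a
    exact congrArg Subtype.val (Subgroup.mem_center_iff.1 hb a))⟩⟩
  have hZnil : Group.IsNilpotent Z := by
    let _ : CommGroup Z := { (inferInstance : Group Z) with mul_comm := hZc.is_comm.comm }
    infer_instance
  refine CfsgLib.Fitting.le_fittingSubgroup hZn hZnil ?_
  exact ⟨⟨x, mem_cent.2 (Commute.refl x)⟩, Subgroup.mem_center_iff.2 fun c => Subtype.ext (mem_cent.1 c.2).eq, rfl⟩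

/-- The class of an element: `F` is a nilpotent TI-subgroup containing the centraliser of each of
its non-identity elements, with normaliser `M`. -/
structure Cls (M F : Subgroup G) : Prop where
  nil : Group.IsNilpotent F
  le : F ≤ M
  norm : ∀ g ∈ M, ∀ a ∈ F, g * a * g⁻¹ ∈ F
  cc : ∀ a ∈ F, a ≠ 1 → Subgroup.centralizer ({a} : Set G) ≤ F
  eq : ∀ a ∈ F, a ≠ 1 → centNorm a = M
  mem : ∀ y : G, y ≠ 1 → centNorm y = M → y ∈ F
  ti : ∀ g : G, ∀ a ∈ F, a ≠ 1 → g * a * g⁻¹ ∈ F → g ∈ M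

theorem exists_cls (h : AllTI G) {x : G} (hx : x ≠ 1) :
    ∃ M F : Subgroup G, Cls M F ∧ centNorm x = M ∧ x ∈ F := by
  classical
  obtain ⟨M, hM⟩ : ∃ M, M = centNorm x := ⟨_, rfl⟩
  let F : Subgroup G := (Cfsg.fittingSubgroup M).map M.subtype
  have hFM : F ≤ M := Subgroup.map_subtype_le _
  have hFn : ∀ g ∈ M, ∀ a ∈ F, g * a * g⁻¹ ∈ F := by
    rintro g hg _ ⟨a, ha, rfl⟩
    exact ⟨_, (CfsgLib.Fitting.fittingSubgroup_normal (G := M)).conj_mem a ha ⟨g, hg⟩, rfl⟩
  have hnil : Group.IsNilpotent F :=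
    have := CfsgLib.Fitting.fittingSubgroup_isNilpotent (G := M)
    Group.nilpotent_of_surjective ((Cfsg.fittingSubgroup M).equivMapOfInjective _
      M.subtype_injective).toMonoidHom (MulEquiv.surjective _)
  -- every element whose centraliser has normaliser `M` lies in `F`
  have hmem : ∀ y : G, y ≠ 1 → centNorm y = M → y ∈ F := by
    intro y hy hyM
    have hyM' : y ∈ M := hyM ▸ cent_le_centNorm y (mem_cent.2 (Commute.refl y))
    refine ⟨⟨y, hyM'⟩, mem_fitting_of_normal ⟨fun c hc g => ?_⟩, rfl⟩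
    rw [mem_cent] at hc ⊢
    have hg : (g : G) ∈ centNorm y := hyM.symm ▸ g.2
    exact Subtype.ext (mem_cent.1 ((Subgroup.mem_normalizer_iff.1 hg (c : G)).1
      (mem_cent.2 (hc.map M.subtype)))).eq
  have hxF : x ∈ F := hmem x hx hM.symm
  have : Nontrivial F := ⟨⟨⟨x, hxF⟩, 1, fun e => hx (congrArg Subtype.val e)⟩⟩
  have := hnil
  have : Nontrivial (Subgroup.center F) := (Subgroup.nontrivial_iff_ne_bot _).2 fun e => by
    have h1 := CfsgLib.Critical.inf_center_ne_bot (⊤ : Subgroup F) top_ne_bot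
    rw [top_inf_eq] at h1
    exact h1 e
  obtain ⟨⟨z, hzc⟩, hz1⟩ := exists_ne (1 : Subgroup.center F)
  have hzne : (z : G) ≠ 1 := fun e => hz1 (Subtype.ext (Subtype.ext e))
  have hzcom : ∀ a ∈ F, Commute a (z : G) := fun a ha =>
    congrArg Subtype.val (Subgroup.mem_center_iff.1 hzc ⟨a, ha⟩)
  have hzM : centNorm (z : G) = M := (centNorm_eq h hx hzne (hzcom x hxF)).symm.trans hM.symm
  have heq : ∀ a ∈ F, a ≠ 1 → centNorm a = M := fun a ha ha1 =>
    (centNorm_eq h ha1 hzne (hzcom a ha)).trans hzM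
  have hcc : ∀ a ∈ F, a ≠ 1 → Subgroup.centralizer ({a} : Set G) ≤ F := fun a ha ha1 w hw => by
    by_cases hw1 : w = 1
    · exact hw1 ▸ one_mem F
    · exact hmem w hw1 ((centNorm_eq h hw1 ha1 (mem_cent.1 hw)).trans (heq a ha ha1))
  refine ⟨M, F, ⟨hnil, hFM, hFn, hcc, heq, hmem, fun g a ha ha1 hga => ?_⟩, hM.symm, hxF⟩
  rw [← hzM]
  exact mem_centNorm_of h ha1 (hzcom a ha) (hzcom _ hga)

variable {M F : Subgroup G}

theorem Cls.normalizer (h : Cls M F) : M ≤ Subgroup.normalizer (F : Set G) := fun g hg =>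
  Subgroup.mem_normalizer_fintype fun a ha => h.norm g hg a ha

/-- A Sylow subgroup for a prime dividing the order of `F` lies in a conjugate of `F`. -/
theorem Cls.sylow_le (h : Cls M F) {p : ℕ} [Fact p.Prime] (hp : p ∣ Nat.card F) :
    ∃ P : Sylow p G, (P : Subgroup G) ≤ F := by
  obtain ⟨⟨y, hy⟩, hyo⟩ := exists_prime_orderOf_dvd_card' (G := F) p hp
  rw [Subgroup.orderOf_mk] at hyo
  have hP : IsPGroup p (Subgroup.zpowers y) :=
    IsPGroup.of_card (n := 1) (by rw [Nat.card_zpowers, hyo, pow_one])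
  obtain ⟨P, hPle⟩ := hP.exists_le_sylow
  refine ⟨P, ?_⟩
  have hy1 : y ≠ 1 := fun e => (Fact.out : p.Prime).ne_one (by rw [← hyo, e, orderOf_one])
  have hyP : y ∈ (P : Subgroup G) := hPle (Subgroup.mem_zpowers y)
  have : Nontrivial (P : Subgroup G) := ⟨⟨⟨y, hyP⟩, 1, fun e => hy1 (congrArg Subtype.val e)⟩⟩
  have := P.2.center_nontrivial
  obtain ⟨⟨z, hzc⟩, hz1⟩ := exists_ne (1 : Subgroup.center (P : Subgroup G))
  have hzcom : ∀ a ∈ (P : Subgroup G), Commute a (z : G) := fun a ha =>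
    congrArg Subtype.val (Subgroup.mem_center_iff.1 hzc ⟨a, ha⟩)
  have hzF : (z : G) ∈ F := h.cc y hy hy1 (mem_cent.2 (hzcom y hyP).symm)
  exact fun a ha => h.cc z hzF (fun e => hz1 (Subtype.ext (Subtype.ext e))) (mem_cent.2 (hzcom a ha))

/-- The centraliser structure makes `C(x)` nilpotent. -/
theorem isCN (h : AllTI G) : ∀ x : G, x ≠ 1 → Group.IsNilpotent (Subgroup.centralizer ({x} : Set G)) := by
  intro x hx
  obtain ⟨M, F, hF, -, hxF⟩ := exists_cls h hx
  exact Cfsg.Agent.CNOdd.nilpotent_mono (hF.cc x hxF hx) hF.nil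

/-- When some class is normal in `G` or self-normalising, `G` has a nilpotent Frobenius complement
in which all centralisers are normal. -/
theorem exists_complement (h : AllTI G) (hnn : ¬ Group.IsNilpotent G) {x : G} (hx : x ≠ 1)
    {M F : Subgroup G} (hF : Cls M F) (hxF : x ∈ F) (hMF : M = F ∨ M = ⊤) :
    ∃ E : Subgroup G, Cfsg.IsFrobeniusComplement E ∧ Group.IsNilpotent E ∧
      ∀ y ∈ E, ∀ g ∈ E, Commute (g * y * g⁻¹) y := by
  classical
  have hcomm : ∀ {M F : Subgroup G}, Cls M F → ∀ y ∈ F, ∀ g ∈ F, Commute (g * y * g⁻¹) y := by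
    intro M F hF y hy g hg
    by_cases hy1 : y = 1
    · subst hy1; simp
    · exact commute_conj_of_mem (hF.eq y hy hy1 ▸ hF.le hg) (Commute.refl y)
  have hFtop : F ≠ ⊤ := fun e => hnn (by
    have := hF.nil
    rw [e] at this
    exact Group.nilpotent_of_surjective (Subgroup.topEquiv (G := G)).toMonoidHom
      (Subgroup.topEquiv (G := G)).surjective)
  have self : ∀ {M F : Subgroup G}, Cls M F → M = F → F ≠ ⊤ → F ≠ ⊥ → Cfsg.IsFrobeniusComplement F := by
    intro M F hF hMF hFtop hFbot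
    refine ⟨hFbot, hFtop, fun g hg => (Subgroup.eq_bot_iff_forall _).2 fun a ha => ?_⟩
    by_contra ha1
    obtain ⟨ha, ha'⟩ := Subgroup.mem_inf.1 ha
    rw [Subgroup.mem_pointwise_smul_iff_inv_smul_mem] at ha'
    rw [← map_inv, MulAut.smul_def, MulAut.conj_apply] at ha'
    exact hg (inv_mem_iff.1 (hMF ▸ hF.ti g⁻¹ a ha ha1 ha'))
  have hFbot : F ≠ ⊥ := fun e => hx (Subgroup.mem_bot.1 (e ▸ hxF))
  rcases hMF with hMF | hMF
  · exact ⟨F, self hF hMF hFtop hFbot, hF.nil, hcomm hF⟩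
  have hFn : F.Normal := ⟨fun a ha g => hF.norm g (hMF ▸ Subgroup.mem_top g) a ha⟩
  have hcop : (Nat.card F).Coprime F.index := by
    refine Nat.coprime_of_dvd fun p hp hpF hpi => ?_
    have := Fact.mk hp
    obtain ⟨P, hP⟩ := hF.sylow_le hpF
    exact P.not_dvd_index (hpi.trans (Subgroup.index_dvd_of_le hP))
  obtain ⟨H, hc⟩ := Subgroup.exists_right_complement'_of_coprime hcop
  have hH : H ≠ ⊥ := fun e => hFtop (Subgroup.isComplement'_bot_right.1 (e ▸ hc))
  have hfpf : ∀ b ∈ H, b ≠ 1 → ∀ k ∈ F, k * b = b * k → k = 1 := by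
    intro b hb hb1 k hk e
    by_contra hk1
    exact hb1 (Subgroup.mem_bot.1 (hc.disjoint.le_bot ⟨hF.cc k hk hk1 (mem_cent.2 e.symm), hb⟩))
  have hFC : Cfsg.IsFrobeniusComplement H := CfsgLib.FrobCompl.isFrobeniusComplement_of_fpf hc hFbot hH hfpf
  have hfpf' : ∀ b ∈ H, b ≠ 1 → F ⊓ Subgroup.centralizer {b} = ⊥ := fun b hb hb1 =>
    (Subgroup.eq_bot_iff_forall _).2 fun k hk => hfpf b hb hb1 k hk.1 (mem_cent.1 hk.2).eq
  obtain ⟨V, hVc, hV, hHV, hVfpf⟩ := CfsgLib.FrobCompl.exists_abelian_module hc hFbot hH hfpf'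
  have := hVc
  obtain ⟨⟨z, hzc⟩, hz1⟩ := Subgroup.ne_bot_iff_exists_ne_one.1
    (CfsgLib.FrobCompl.center_ne_bot hH hV hHV hVfpf)
  have hzne : (z : G) ≠ 1 := fun e => hz1 (Subtype.ext (Subtype.ext e))
  obtain ⟨M', F', hF', -, hzF'⟩ := exists_cls h hzne
  have hHF' : H ≤ F' := fun a ha =>
    hF'.cc z hzF' hzne (mem_cent.2 (congrArg Subtype.val (Subgroup.mem_center_iff.1 hzc ⟨a, ha⟩) :))
  have hdis : ∀ k ∈ F, k ∈ F' → k = 1 := by
    intro k hk hk'
    by_contra hk1
    have h1 : M' = ⊤ := (hF'.eq k hk' hk1).symm.trans ((hF.eq k hk hk1).trans hMF)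
    have hzF : (z : G) ∈ F := hF.mem z hzne ((hF'.eq z hzF' hzne).trans (h1.trans hMF.symm))
    exact hzne (Subgroup.mem_bot.1 (hc.disjoint.le_bot ⟨hzF, z.2⟩))
  have heq : F' = H := by
    refine le_antisymm (fun a ha => ?_) hHF'
    obtain ⟨k, hk, b, hb, rfl⟩ := CfsgLib.FrobCompl.exists_kernel_mul hc a
    have : k ∈ F' := by
      have := mul_mem ha (inv_mem (hHF' hb))
      rwa [mul_inv_cancel_right] at this
    rw [hdis k hk this, one_mul]; exact hb
  have hM' : M' = F' := by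
    refine le_antisymm (fun g hg => ?_) hF'.le
    by_contra hgF
    have hz' : g * z * g⁻¹ ∈ H := heq ▸ hF'.norm g hg z hzF'
    exact hzne (conj_eq_one_iff.1 (Subgroup.mem_bot.1 ((hFC.2.2 g (heq ▸ hgF)).le
      ⟨hz', Subgroup.mem_map.2 ⟨z, z.2, rfl⟩⟩)))
  exact ⟨H, hFC, heq ▸ hF'.nil, heq ▸ hcomm hF'⟩

/-- A nilpotent Frobenius complement in which conjugates of an element commute with it is cyclic or
the product of a cyclic group of odd order and the quaternion group of order eight. -/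
theorem complement_shape {E : Subgroup G} (hE : Cfsg.IsFrobeniusComplement E)
    (hnil : Group.IsNilpotent E) (hcomm : ∀ y ∈ E, ∀ g ∈ E, Commute (g * y * g⁻¹) y) :
    IsCyclic E ∨ ∃ m : ℕ, Odd m ∧ Nonempty (E ≃* Multiplicative (ZMod m) × QuaternionGroup 2) := by
  classical
  obtain ⟨K, hKs, hKn, hc⟩ := CfsgLib.FrobCompl.exists_kernel_complement hE
  have := hKn
  have hK : K ≠ ⊥ := fun e => hE.2.1 (Subgroup.isComplement'_bot_left.1 (e ▸ hc))
  have hfpf : ∀ b ∈ E, b ≠ 1 → K ⊓ Subgroup.centralizer {b} = ⊥ := fun b hb hb1 =>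
    (Subgroup.eq_bot_iff_forall _).2 fun k hk => Subgroup.mem_bot.1 (hc.disjoint.le_bot
      ⟨hk.1, CfsgLib.FrobCompl.mem_of_commute hE hb hb1 (mem_cent.1 hk.2).eq⟩)
  obtain ⟨V, hVc, hV, hEV, hVfpf⟩ := CfsgLib.FrobCompl.exists_abelian_module hc hK hE.1 hfpf
  have := hVc
  rcases Cfsg.Agent.CNOdd.cyclic_or_quaternion_of_fpf hV hEV hVfpf hnil with
    hcy | ⟨C, Q, hsup, hCQ, hCc, hCodd, n, ⟨e⟩⟩
  · exact Or.inl hcy
  have hCE : C ≤ E := hsup ▸ le_sup_left
  have hQE : Q ≤ E := hsup ▸ le_sup_right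
  have hQcard : Nat.card Q = 4 * 2 ^ n := by
    rw [Nat.card_congr e.toEquiv, Nat.card_eq_fintype_card, QuaternionGroup.card]
  have hcop : (Nat.card C).Coprime (Nat.card Q) := by
    rw [hQcard, show 4 * 2 ^ n = 2 ^ (n + 2) by ring]
    exact Nat.Coprime.pow_right _ (Nat.coprime_two_right.2 hCodd)
  -- the product decomposition
  let f : C × Q →* E := MonoidHom.noncommCoprod (Subgroup.inclusion hCE) (Subgroup.inclusion hQE)
    fun a b => Subtype.ext (hCQ a a.2 b b.2)
  have hf : Function.Bijective f := by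
    refine ⟨(injective_iff_map_eq_one f).2 ?_, fun x => ?_⟩
    · rintro ⟨a, b⟩ e'
      have e'' : (a : G) * b = 1 := congrArg Subtype.val e'
      have hab : (a : G) ∈ C ⊓ Q := ⟨a.2, (eq_inv_of_mul_eq_one_left e'').symm ▸ Q.inv_mem b.2⟩
      rw [(Subgroup.disjoint_of_coprime_natCard hcop).eq_bot, Subgroup.mem_bot] at hab
      rw [hab, one_mul] at e''
      exact Prod.ext (Subtype.ext hab) (Subtype.ext e'')
    · have hx : (x : G) ∈ f.range.map E.subtype := by
        refine le_of_eq_of_le hsup.symm (sup_le (fun a ha => ?_) (fun b hb => ?_)) x.2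
        · exact ⟨f (⟨a, ha⟩, 1), ⟨_, rfl⟩, show a * 1 = a from mul_one a⟩
        · exact ⟨f (1, ⟨b, hb⟩), ⟨_, rfl⟩, show 1 * b = b from one_mul b⟩
      obtain ⟨y, ⟨z, rfl⟩, hy⟩ := hx
      exact ⟨z, Subtype.ext hy⟩
  have := hCc
  let E' : E ≃* Multiplicative (ZMod (Nat.card C)) × QuaternionGroup (2 ^ n) :=
    (MulEquiv.ofBijective f hf).symm.trans
      (MulEquiv.prodCongr (zmodMulEquivOfGenerator hCc.exists_generator.choose_spec rfl).symm e)
  have hn : n ≤ 1 := by
    by_contra hn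
    push Not at hn
    have h2 := hcomm _ (hQE (e.symm (QuaternionGroup.xa 0)).2) _ (hQE (e.symm (QuaternionGroup.a 1)).2)
    have h3 : Commute ((QuaternionGroup.a 1 : QuaternionGroup (2 ^ n)) * QuaternionGroup.xa 0 *
        (QuaternionGroup.a 1)⁻¹) (QuaternionGroup.xa 0) := by
      have h4 : Commute (e.symm (QuaternionGroup.a 1) * e.symm (QuaternionGroup.xa 0) *
          (e.symm (QuaternionGroup.a 1))⁻¹) (e.symm (QuaternionGroup.xa 0)) := Subtype.ext h2.eq
      simpa using h4.map e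
    have h5 := h3.eq
    have hinv : (QuaternionGroup.a 1 : QuaternionGroup (2 ^ n))⁻¹ = QuaternionGroup.a (-1) :=
      inv_eq_of_mul_eq_one_right (by rw [QuaternionGroup.a_mul_a, add_neg_cancel, QuaternionGroup.a_zero])
    simp only [hinv, QuaternionGroup.a_mul_xa, QuaternionGroup.xa_mul_a,
      QuaternionGroup.xa_mul_xa, QuaternionGroup.a.injEq] at h5
    have h6 : ((4 : ℕ) : ZMod (2 * 2 ^ n)) = 0 := by
      push_cast
      linear_combination h5
    rw [ZMod.natCast_eq_zero_iff] at h6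
    have := Nat.le_of_dvd (by norm_num) h6
    have := Nat.pow_le_pow_right two_pos hn
    omega
  interval_cases n
  · left
    have : IsCyclic (QuaternionGroup (2 ^ 0)) := QuaternionGroup.quaternionGroup_one_isCyclic
    have : IsCyclic Q := isCyclic_of_surjective e.symm.toMonoidHom e.symm.surjective
    have := IsCyclic.commGroup (α := C)
    exact (MulEquiv.ofBijective f hf).isCyclic.1 (Group.isCyclic_prod_iff.2 ⟨hCc, ‹IsCyclic Q›, hcop⟩)
  · exact Or.inr ⟨Nat.card C, hCodd, ⟨E'⟩⟩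

/-- The classification. -/
theorem classify (h : AllTI G) (hnn : ¬ Group.IsNilpotent G)
    (hno : ∀ (x : G) (M F : Subgroup G), x ≠ 1 → Cls M F → x ∈ F → M ≠ F ∧ M ≠ ⊤) :
    ∃ (K : Type) (_ : Field K) (_ : Fintype K) (f : ℕ), 2 ≤ f ∧ Fintype.card K = 2 ^ f ∧
      Nonempty (G ≃* Matrix.ProjectiveSpecialLinearGroup (Fin 2) K) := by
  classical
  have : Nontrivial G := by
    by_contra hs
    rw [not_nontrivial_iff_subsingleton] at hs
    exact hnn inferInstance
  -- there is no normal abelian subgroup, so the order is even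
  have heven : 2 ∣ Nat.card G := by
    by_contra hodd
    obtain ⟨N, hN, hN1, hNab⟩ := CfsgLib.Invol.SelfNorm.exists_abelian_normal
      (Cfsg.Agent.S0183.result (Nat.odd_iff.2 (Nat.two_dvd_ne_zero.1 hodd)) (isCN h))
    obtain ⟨⟨x, hxN⟩, hx⟩ := Subgroup.ne_bot_iff_exists_ne_one.1 hN1
    have hx' : x ≠ 1 := fun e => hx (Subtype.ext e)
    obtain ⟨M, F, hF, -, hxF⟩ := exists_cls h hx'
    refine (hno x M F hx' hF hxF).2 (eq_top_iff.2 fun g _ => ?_)
    have hgx : g * x * g⁻¹ ∈ N := hN.conj_mem x hxN g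
    exact hF.ti g x hxF hx' (hF.cc x hxF hx' (mem_cent.2 (hNab _ hgx _ hxN)))
  have : Fact (Nat.Prime 2) := ⟨Nat.prime_two⟩
  obtain ⟨x, hx⟩ := exists_prime_orderOf_dvd_card' (G := G) 2 heven
  have hx1 : x ≠ 1 := (involution_iff.1 hx).2
  obtain ⟨M, F, hF, -, hxF⟩ := exists_cls h hx1
  obtain ⟨hMF, hMtop⟩ := hno x M F hx1 hF hxF
  obtain ⟨T, hT⟩ := hF.sylow_le (p := 2) (hx ▸ Subgroup.orderOf_dvd_natCard F hxF)
  have hodd : ¬ 2 ∣ F.index := fun hd => T.not_dvd_index (hd.trans (Subgroup.index_dvd_of_le hT))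
  -- a central involution of `F`
  have : Nontrivial (T : Subgroup G) := Subgroup.nontrivial_iff_ne_bot _ |>.2 (T.ne_bot_of_dvd_card heven)
  have := T.2.center_nontrivial
  obtain ⟨z, hz⟩ := exists_prime_orderOf_dvd_card' (G := Subgroup.center (T : Subgroup G)) 2
    (((T.2.to_subgroup _).card_eq_or_dvd).resolve_left (Finite.one_lt_card).ne')
  obtain ⟨hz2, hz1⟩ := involution_iff.1 hz
  obtain ⟨t, htdef⟩ : ∃ t, t = ((z : (T : Subgroup G)) : G) := ⟨_, rfl⟩
  have hsq : t * t = 1 := htdef ▸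
    congrArg (fun w : Subgroup.center (T : Subgroup G) => ((w : (T : Subgroup G)) : G)) hz2
  have hne : t ≠ 1 := htdef ▸ fun e => hz1 (Subtype.ext (Subtype.ext e))
  have htF : t ∈ F := htdef ▸ hT (z : (T : Subgroup G)).2
  have htcom : ∀ a ∈ F, Commute a t := by
    intro a ha
    have := hF.nil
    -- the odd part of `a` commutes with `t` by nilpotency, the even part lies in `T`
    obtain ⟨k, m, hm, hkm⟩ := Nat.exists_eq_two_pow_mul_odd (orderOf_pos a).ne'
    have h1 : Commute (a ^ 2 ^ k) t := by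
      have hcop : (orderOf (⟨a ^ 2 ^ k, pow_mem ha _⟩ : F)).Coprime (orderOf (⟨t, htF⟩ : F)) := by
        rw [Subgroup.orderOf_mk, Subgroup.orderOf_mk, involution_iff.2 ⟨hsq, hne⟩, Nat.coprime_two_right]
        refine hm.of_dvd_nat (orderOf_dvd_of_pow_eq_one ?_)
        rw [← pow_mul, ← hkm, pow_orderOf_eq_one]
      exact (CfsgLib.Char.PiPart.commute_of_coprime hcop).map F.subtype
    have h2 : Commute (a ^ m) t := by
      have hp : IsPGroup 2 (Subgroup.zpowers (⟨a ^ m, pow_mem ha _⟩ : F)) := by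
        rintro ⟨y, hy⟩
        obtain ⟨j, rfl⟩ := Subgroup.mem_zpowers_iff.1 hy
        refine ⟨k, Subtype.ext (Subtype.ext ?_)⟩
        show ((a ^ m) ^ j) ^ 2 ^ k = 1
        rw [← zpow_natCast, ← _root_.zpow_mul, mul_comm, _root_.zpow_mul, zpow_natCast, ← pow_mul,
          mul_comm m, ← hkm, pow_orderOf_eq_one, one_zpow]
      let S : Sylow 2 F := T.subtype hT
      have hS : (S : Subgroup F).Normal := inferInstance
      have hmemS : (⟨a ^ m, pow_mem ha _⟩ : F) ∈ (S : Subgroup F) :=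
        (le_sup_left.trans (S.3 (hp.to_sup_of_normal_right S.2) le_sup_right).le) (Subgroup.mem_zpowers _)
      rw [htdef]
      exact congrArg Subtype.val (Subgroup.mem_center_iff.1 z.2 ⟨a ^ m, hmemS⟩)
    have hcop : (2 ^ k).Coprime m := Nat.Coprime.pow_left k (Nat.coprime_two_left.2 hm)
    have e : a = (a ^ 2 ^ k) ^ Nat.gcdA (2 ^ k) m * (a ^ m) ^ Nat.gcdB (2 ^ k) m := by
      rw [← zpow_natCast a (2 ^ k), ← zpow_natCast a m, ← _root_.zpow_mul, ← _root_.zpow_mul, ← zpow_add,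
        ← Nat.gcd_eq_gcd_ab, hcop.gcd_eq_one, Nat.cast_one, zpow_one]
    rw [e]
    exact (h1.zpow_left _).mul_left (h2.zpow_left _)
  -- the set-up
  have hCt : F = Subgroup.centralizer ({t} : Set G) :=
    le_antisymm (fun a ha => mem_cent.2 (htcom a ha)) (hF.cc t htF hne)
  have hinvM : ∀ u ∈ M, u * u = 1 → u ∈ F := fun u hu hu2 => mem_of_sq_one hodd (hF.normalizer hu) hu2
  obtain ⟨u, hu2, hu1, huM⟩ : ∃ u : G, u * u = 1 ∧ u ≠ 1 ∧ u ∉ M := by
    by_contra hc
    push Not at hc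
    refine hMtop (eq_top_iff.2 fun g _ => hF.ti g t htF hne ?_)
    have h2 : g * t * g⁻¹ * (g * t * g⁻¹) = 1 := by
      rw [show g * t * g⁻¹ * (g * t * g⁻¹) = g * (t * t) * g⁻¹ by group, hsq, mul_one, mul_inv_cancel]
    exact hinvM _ (hc _ h2 fun e => hne (conj_eq_one_iff.1 e)) h2
  have hinvC : ∀ s ∈ F, s * s = 1 → s ≠ 1 → Subgroup.centralizer ({s} : Set G) = F := by
    intro s hs hs2 hs1
    refine le_antisymm (hF.cc s hs hs1) fun a ha => mem_cent.2 ?_
    have far : ∀ {y : G}, y ∈ F → y * y = 1 → y ≠ 1 → IsConj y u := fun {y} hy hy2 hy1 =>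
      (conj_or_link hy2 hu2).resolve_right fun ⟨w, hw1, _, hws, hwu⟩ => huM (hF.le
        (hF.cc w (hF.cc y hy hy1 (mem_cent.2 hws)) hw1 (mem_cent.2 hwu.symm)))
    obtain ⟨g, hg⟩ := isConj_iff.1 ((far htF hsq hne).trans (far hs hs2 hs1).symm)
    have hgM : g ∈ M := hF.ti g t htF hne (hg.symm ▸ hs)
    have h' := htcom _ (hF.norm g⁻¹ (inv_mem hgM) a ha)
    rw [inv_inv] at h'
    rw [← hg]
    show a * (g * t * g⁻¹) = g * t * g⁻¹ * a
    calc a * (g * t * g⁻¹) = g * (g⁻¹ * a * g * t) * g⁻¹ := by group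
      _ = g * (t * (g⁻¹ * a * g)) * g⁻¹ := by rw [h'.eq]
      _ = g * t * g⁻¹ * a := by group
  have hNM : Subgroup.normalizer (F : Set G) = M := le_antisymm
    (fun g hg => hF.ti g t htF hne ((Subgroup.mem_normalizer_iff.1 hg t).1 htF)) hF.normalizer
  have hS : Setup F t := ⟨⟨hinvC, hsq, hne, hCt, fun hn => hMtop
    (hNM ▸ Subgroup.normalizer_eq_top_iff.2 hn), hodd⟩,
    fun a ha ha1 => (hF.cc a ha ha1).trans Subgroup.le_normalizer⟩
  have he : 2 ≤ (invA F).ncard := by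
    by_contra hlt
    refine hMF (le_antisymm (fun g hg => ?_) hF.le)
    refine hF.cc t htF hne (mem_cent.2 ?_)
    have h1 : ({t, g * t * g⁻¹} : Set G) ⊆ invA F := by
      rintro y (rfl | rfl)
      · exact ⟨htF, hsq, hne⟩
      · exact hS.conj_t_mem (show g ∈ Subgroup.normalizer (F : Set G) from hNM.symm ▸ hg)
    have h2 := Set.ncard_le_ncard h1 (Set.toFinite _)
    have e : t = g * t * g⁻¹ := by
      by_contra hd
      rw [Set.ncard_pair hd] at h2
      omega
    exact (eq_mul_inv_iff_mul_eq.1 e).symm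
  by_cases hab : ∀ a ∈ F, ∀ b ∈ F, Commute a b
  · obtain ⟨K, iK, iK', f, hf, hK, -, -, hiso⟩ := hS.classify_of_two_le hab he T hT
    exact ⟨K, iK, iK', f, hf, hK, hiso⟩
  -- a non-abelian `F` is impossible
  exfalso
  have hZ := hS.isZassenhaus he
  have hz' := CfsgLib.Zassenhaus.ZG.mk' hZ.1 hZ.2.1 hZ.2.2.1 hZ.2.2.2.1
  have huN : u ∉ nA F := fun e => huM (hNM ▸ e)
  have hub : base F ≠ QuotientGroup.mk u := fun e => huN (mk_eq_base_iff.1 e.symm)
  have hD : CfsgLib.Zassenhaus.D2 G (base F) (QuotientGroup.mk u : G ⧸ nA F) = hsub F u := by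
    ext y
    rw [CfsgLib.Zassenhaus.mem_D2, mem_hsub hu2, smul_base_iff, smul_mk_eq_iff,
      inv_eq_of_mul_eq_one_right hu2]
  have hDne : CfsgLib.Zassenhaus.D2 G (base F) (QuotientGroup.mk u : G ⧸ nA F) ≠ ⊥ := fun e => by
    have := hS.hsub_card hu2 huN
    rw [← hD, e, Subgroup.card_bot] at this
    omega
  have hDodd : Odd (Nat.card (CfsgLib.Zassenhaus.D2 G (base F) (QuotientGroup.mk u : G ⧸ nA F))) := by
    rw [hD, ← Nat.not_even_iff_odd, even_iff_two_dvd]
    intro hd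
    obtain ⟨⟨y, hy⟩, hyo⟩ := exists_prime_orderOf_dvd_card' (G := hsub F u) 2 hd
    rw [Subgroup.orderOf_mk] at hyo
    exact (involution_iff.1 hyo).2 (hS.hsub_not_invol hu2 huN hy (involution_iff.1 hyo).1)
  have hU : CfsgLib.Zassenhaus.RegKernel (base F) F :=
    { le := fun a ha => smul_base_iff.2 (Subgroup.le_normalizer ha)
      normal := fun g hg a ha => (Subgroup.mem_normalizer_iff.1 (smul_base_iff.1 hg) a).1 ha
      reg := hS.regular he
      nil := hF.nil }
  refine hab fun a ha b hb => congrArg Subtype.val (abelian_kernel hz' hZ.2.2.2.2 hub hDne hDodd hU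
    (fun g hg y hy => ?_) ⟨a, ha⟩ ⟨b, hb⟩)
  by_cases hy1 : y = 1
  · subst hy1; simp
  · exact commute_conj_of_mem (by rw [hF.eq y hy hy1, ← hNM]; exact smul_base_iff.1 hg) (Commute.refl y)

end CfsgLib.Invol.TICent
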