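import Cfsg.Agent.Lib.Zassenhaus.SuzukiMain
import Cfsg.Agent.Lib.Zassenhaus.FeitOdd

/-!
# A Zassenhaus kernel each of whose elements commutes with its conjugates is abelian
-/

set_option autoImplicit false
set_option linter.style.haveILetI false

namespace CfsgLib.Invol.TICent

open MulAction CfsgLib.Zassenhaus

universe u v

variable {Ω : Type v}

/-- In a simple group: the structure of the kernel makes the two-point stabiliser transitive on it
modulo the centre, so the hypothesis makes it abelian. -/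
theorem abelian_simple {G : Type u} [Group G] [MulAction G Ω] [Finite G] [IsSimpleGroup G]
    (hz : ZG G Ω) {a b : Ω} (hab : a ≠ b) (hne : D2 G a b ≠ ⊥) {U : Subgroup G} (hU : RegKernel a U)
    (hU2 : IsPGroup 2 U) (hP : ∀ g ∈ stabilizer G a, ∀ x ∈ U, Commute (g * x * g⁻¹) x) :
    ∀ x y : U, x * y = y * x := by
  classical
  by_contra hna
  push Not at hna
  have := finite_points hz
  obtain ⟨n, -, hn1, hΩ, hk, -, -⟩ := suzuki_case hz hab hne hU hU2 hna
  have hUcard : Nat.card U = (2 ^ n) ^ 2 := by rw [hU.card_eq hz hab.symm, hΩ, Nat.add_sub_cancel]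
  let Z : Subgroup G := (Subgroup.center U).map U.subtype
  have hZU : Z ≤ U := Subgroup.map_subtype_le _
  have hZc : ∀ z ∈ Z, ∀ x ∈ U, Commute x z := by
    rintro _ ⟨z, hz', rfl⟩ x hx
    exact congrArg Subtype.val (Subgroup.mem_center_iff.1 hz' ⟨x, hx⟩)
  have hZn : ∀ g ∈ stabilizer G a, ∀ z ∈ Z, g * z * g⁻¹ ∈ Z := by
    intro g hg z hzZ
    refine ⟨⟨g * z * g⁻¹, hU.normal g hg z (hZU hzZ)⟩, Subgroup.mem_center_iff.2 fun x => Subtype.ext ?_, rfl⟩
    have hx := hU.normal g⁻¹ (inv_mem hg) x x.2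
    rw [inv_inv] at hx
    have e := (hZc z hzZ _ hx).eq
    show (x : G) * (g * z * g⁻¹) = g * z * g⁻¹ * x
    calc (x : G) * (g * z * g⁻¹) = g * (g⁻¹ * x * g * z) * g⁻¹ := by group
      _ = g * (z * (g⁻¹ * x * g)) * g⁻¹ := by rw [e]
      _ = g * z * g⁻¹ * x := by group
  -- the two-point stabiliser fixes only the identity in `U`
  have hfpf : ∀ h ∈ D2 G a b, h ≠ 1 → ∀ x ∈ U, h * x * h⁻¹ = x → x = 1 := by
    intro h hh h1 x hx e
    by_contra hx1
    have hxb : x • b ≠ b := fun e' => hx1 (congrArg Subtype.val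
      ((hU.reg b b hab.symm hab.symm).unique (y₁ := ⟨x, hx⟩) (y₂ := 1) e' (one_smul G b)))
    refine h1 (hz.free h a b (x • b) hab hxb.symm (fun e' => ?_) (mem_D2.1 hh).1 (mem_D2.1 hh).2 ?_)
    · exact hab (MulAction.injective x ((hU.le hx).trans e'))
    · nth_rewrite 2 [← e]
      rw [mul_smul, mul_smul, show h⁻¹ • b = b from inv_smul_eq_iff.2 (mem_D2.1 hh).2.symm]
  -- the centre has at least `2 ^ n` elements
  have hqZ : 2 ^ n ≤ Nat.card Z := by
    have : Fact (Nat.Prime 2) := ⟨Nat.prime_two⟩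
    have : Nontrivial U := (Subgroup.nontrivial_iff_ne_bot U).2 (hU.setting hz hab.symm).ne_bot
    have := hU2.center_nontrivial
    obtain ⟨⟨z, hzc⟩, hz1⟩ := exists_ne (1 : Subgroup.center U)
    have hzZ : (z : G) ∈ Z := ⟨z, hzc, rfl⟩
    let f : Option (D2 G a b) → Z := fun o => o.elim 1
      fun h => ⟨h * z * (h : G)⁻¹, hZn h (mem_D2.1 h.2).1 z hzZ⟩
    have hzne : (z : G) ≠ 1 := fun e => hz1 (Subtype.ext (Subtype.ext e))
    have hf : Function.Injective f := by
      rintro (_ | h) (_ | k) e <;> have e' := congrArg Subtype.val e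
      · rfl
      · exact absurd (conj_eq_one_iff.1 (show (k : G) * z * (k : G)⁻¹ = 1 from e'.symm)) hzne
      · exact absurd (conj_eq_one_iff.1 (show (h : G) * z * (h : G)⁻¹ = 1 from e')) hzne
      · by_contra hne'
        refine hzne (hfpf ((k : G)⁻¹ * h) (mul_mem (inv_mem k.2) h.2) (fun e'' => hne' (congrArg some
          (Subtype.ext (inv_mul_eq_one.1 e'').symm))) z (hZU hzZ) ?_)
        change (h : G) * z * (h : G)⁻¹ = k * z * (k : G)⁻¹ at e'
        rw [show (k : G)⁻¹ * h * z * ((k : G)⁻¹ * h)⁻¹ = (k : G)⁻¹ * (h * z * (h : G)⁻¹) * k by group, e']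
        group
    have := Nat.card_le_card_of_injective f hf
    rw [Finite.card_option, hk] at this
    have := Nat.one_le_two_pow (n := n)
    omega
  obtain ⟨x, y, hxy⟩ := hna
  have hxZ : (x : G) ∉ Z := fun h => hxy (Subtype.ext (hZc x h y y.2).eq.symm)
  -- the conjugates of `x` times the centre are pairwise commuting and fill `U`
  let ψ : (D2 G a b × Z) ⊕ Z → U := fun p => p.elim
    (fun p => ⟨p.1 * x * (p.1 : G)⁻¹ * p.2,
      mul_mem (hU.normal p.1 (mem_D2.1 p.1.2).1 x x.2) (hZU p.2.2)⟩)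
    (fun z : Z => ⟨(z : G), hZU z.2⟩)
  have hnot : ∀ (h : D2 G a b) (z : Z), (h : G) * x * (h : G)⁻¹ * z ∉ Z := fun h z hm => hxZ (by
    have := hZn _ (inv_mem (mem_D2.1 h.2).1) _ ((mul_mem_cancel_right z.2).1 hm)
    rwa [inv_inv, show (h : G)⁻¹ * (h * x * (h : G)⁻¹) * h = x by group] at this)
  have hψ : Function.Injective ψ := by
    rintro (⟨h, z⟩ | z) (⟨k, w⟩ | w) e <;> have e' := congrArg Subtype.val e
    · change (h : G) * x * (h : G)⁻¹ * z = k * x * (k : G)⁻¹ * w at e'
      by_cases hhk : h = k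
      · subst hhk
        rw [Subtype.ext (mul_left_cancel e')]
      exfalso
      obtain ⟨l, hldef⟩ : ∃ l, l = (k : G)⁻¹ * h := ⟨_, rfl⟩
      have hl : l ∈ D2 G a b := hldef ▸ mul_mem (inv_mem k.2) h.2
      have hl1 : l ≠ 1 := fun e'' => hhk (Subtype.ext (inv_mul_eq_one.1 (hldef ▸ e'')).symm)
      have hd : (x : G)⁻¹ * (l * (x : G) * l⁻¹) ∈ Z := by
        have hwz : (w : G) * (z : G)⁻¹ ∈ Z := mul_mem w.2 (inv_mem z.2)
        have := hZn _ (inv_mem (mem_D2.1 k.2).1) _ hwz
        rw [inv_inv] at this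
        have e2 : l * (x : G) * l⁻¹ = x * ((k : G)⁻¹ * (w * (z : G)⁻¹) * k) := by
          rw [hldef, show (k : G)⁻¹ * h * x * ((k : G)⁻¹ * h)⁻¹ = (k : G)⁻¹ * (h * x * (h : G)⁻¹ * z * (z : G)⁻¹) * k
            by group, e']
          group
        rw [e2, inv_mul_cancel_left]
        exact this
      -- `l` fixes an element of the coset
      let δ : Z → Z := fun u => ⟨l * u * l⁻¹ * (u : G)⁻¹, mul_mem (hZn l (mem_D2.1 hl).1 u u.2) (inv_mem u.2)⟩
      have hδ : Function.Injective δ := by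
        intro u u' eu
        have eu' : l * u * l⁻¹ * (u : G)⁻¹ = l * u' * l⁻¹ * (u' : G)⁻¹ := congrArg Subtype.val eu
        refine Subtype.ext (inv_mul_eq_one.1 (hfpf l hl hl1 _ (hZU (mul_mem (inv_mem u.2) u'.2)) ?_))
        rw [show l * ((u : G)⁻¹ * u') * l⁻¹ = (l * u * l⁻¹)⁻¹ * (l * u' * l⁻¹) by group,
          mul_inv_eq_iff_eq_mul.1 eu']
        group
      obtain ⟨u, hu⟩ := Finite.surjective_of_injective hδ ⟨_, inv_mem hd⟩
      have hu' : l * u * l⁻¹ * (u : G)⁻¹ = ((x : G)⁻¹ * (l * (x : G) * l⁻¹))⁻¹ := congrArg Subtype.val hu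
      refine hxZ ?_
      have h1 : (x : G) * u = 1 := by
        refine hfpf l hl hl1 _ (mul_mem x.2 (hZU u.2)) ?_
        rw [show l * ((x : G) * u) * l⁻¹ = (l * x * l⁻¹) * (l * u * l⁻¹) by group,
          mul_inv_eq_iff_eq_mul.1 hu']
        group
      rw [eq_inv_of_mul_eq_one_left h1]
      exact inv_mem u.2
    · change (h : G) * x * (h : G)⁻¹ * z = w at e'
      exact absurd (e'.symm ▸ w.2) (hnot h z)
    · change (z : G) = k * x * (k : G)⁻¹ * w at e'
      exact absurd (e' ▸ z.2) (hnot k w)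
    · exact congrArg Sum.inr (Subtype.ext e')
  have hb : Function.Bijective ψ := by
    refine (Nat.bijective_iff_injective_and_card ψ).2 ⟨hψ, le_antisymm (Nat.card_le_card_of_injective ψ hψ) ?_⟩
    rw [Nat.card_sum, Nat.card_prod, hk, hUcard]
    have h1 := Nat.mul_le_mul_left (2 ^ n - 1) hqZ
    have h2 : (2 ^ n - 1) * 2 ^ n + 2 ^ n = (2 ^ n) ^ 2 := by
      rw [← Nat.succ_mul, Nat.succ_eq_add_one, Nat.sub_add_cancel Nat.one_le_two_pow, pow_two]
    omega
  obtain ⟨(⟨h, z⟩ | z), e⟩ := hb.2 y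
  · refine hxy (Subtype.ext ?_)
    have e' : (h : G) * x * (h : G)⁻¹ * z = y := congrArg Subtype.val e
    show (x : G) * y = y * x
    rw [← e']
    exact (((hP h (mem_D2.1 h.2).1 x x.2).symm).mul_right (hZc z z.2 x x.2)).eq
  · refine hxy (Subtype.ext ?_)
    have e' : (z : G) = y := congrArg Subtype.val e
    show (x : G) * y = y * x
    rw [← e']
    exact (hZc z z.2 x x.2).eq

/-- In a group without a regular normal subgroup. -/
theorem abelian_kernel {G : Type u} [Group G] [MulAction G Ω] [Finite G] (hz : ZG G Ω)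
    (hreg : ∀ M : Subgroup G, M.Normal → IsPretransitive M Ω → ∃ a : Ω, stabilizer M a ≠ ⊥)
    {a b : Ω} (hab : a ≠ b) (hne : D2 G a b ≠ ⊥) (hodd : Odd (Nat.card (D2 G a b)))
    {U : Subgroup G} (hU : RegKernel a U)
    (hP : ∀ g ∈ stabilizer G a, ∀ x ∈ U, Commute (g * x * g⁻¹) x) :
    ∀ x y : U, x * y = y * x := by
  induction hn : Nat.card G using Nat.strong_induction_on generalizing G with
  | _ n ih =>
  classical
  haveI := finite_points hz
  subst hn
  haveI : Nontrivial G := by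
    obtain ⟨x, -, hx⟩ := (D2 G a b).bot_or_exists_ne_one.resolve_left hne
    exact nontrivial_of_ne x 1 hx
  by_contra hna
  have hU2 := (feit_nonabelian hz hreg hab hne hodd hU hna).1
  by_cases hsimp : IsSimpleGroup G
  · exact hna (abelian_simple hz hab hne hU hU2 hP)
  obtain ⟨N, hN, hNne, hNtop⟩ : ∃ N : Subgroup G, N.Normal ∧ N ≠ ⊥ ∧ N ≠ ⊤ := by
    by_contra h
    push Not at h
    exact hsimp ⟨fun N hN => or_iff_not_imp_left.mpr (h N hN)⟩
  haveI := hN
  have hz' : ZG N Ω := by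
    refine ⟨fun x y x' y' hxy hxy' => ?_, fun g => fun c d e h1 h2 h3 g1 g2 g3 => ?_, hz.three⟩
    · obtain ⟨m, hm, h1, h2⟩ := normal_two_transitive hz hreg N hNne hxy hxy'
      exact ⟨⟨m, hm⟩, h1, h2⟩
    · exact Subtype.ext (hz.free g c d e h1 h2 h3 g1 g2 g3)
  have hUN : U ≤ N := by
    have himg : (Subtype.val : N → G) '' kerSet N a = kerSet G a := by
      refine Set.eq_of_subset_of_ncard_le ?_ ?_ (Set.toFinite _)
      · rintro _ ⟨g, rfl | ⟨h1, h2⟩, rfl⟩
        · exact Or.inl rfl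
        · exact Or.inr ⟨h1, h2⟩
      · rw [Set.ncard_image_of_injective _ Subtype.val_injective, ncard_kerSet hz, ncard_kerSet hz']
    intro u hu
    have hu' : u ∈ kerSet G a := reg_eq_kerSet hz hab.symm hU.le hU.reg ▸ hu
    rw [← himg] at hu'
    obtain ⟨g, -, rfl⟩ := hu'
    exact g.2
  have hlt : Nat.card N < Nat.card G := by
    refine lt_of_le_of_ne (Nat.le_of_dvd Nat.card_pos N.card_subgroup_dvd_card) fun e => hNtop ?_
    exact Subgroup.eq_top_of_card_eq N e
  have hne' : D2 N a b ≠ ⊥ := by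
    obtain ⟨m, hm, hm1, c, d, hcd, hmc, hmd⟩ := exists_two_fixed hz hreg N hNne
    obtain ⟨g, hgc, hgd⟩ := hz'.trans c d a b hcd hab
    intro h
    have hmem : g * ⟨m, hm⟩ * g⁻¹ ∈ D2 N a b := mem_D2.mpr
      ⟨by rw [← hgc, mul_smul, mul_smul, inv_smul_smul]; exact congrArg (g • ·) hmc,
       by rw [← hgd, mul_smul, mul_smul, inv_smul_smul]; exact congrArg (g • ·) hmd⟩
    rw [h, Subgroup.mem_bot, conj_eq_one_iff] at hmem
    exact hm1 (congrArg Subtype.val hmem)
  have hodd' : Odd (Nat.card (D2 N a b)) := by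
    refine hodd.of_dvd_nat ?_
    let f : D2 N a b →* D2 G a b :=
      { toFun := fun g => ⟨((g : N) : G), g.2.1, g.2.2⟩
        map_one' := rfl
        map_mul' := fun _ _ => rfl }
    exact Subgroup.card_dvd_of_injective f fun g k e =>
      Subtype.ext (Subtype.ext (congrArg (fun w : D2 G a b => (w : G)) e))
  let e : U.subgroupOf N ≃* U := Subgroup.subgroupOfEquivOfLe hUN
  have hU' : RegKernel a (U.subgroupOf N) :=
    { le := fun u hu => hU.le hu
      normal := fun h hh u hu => hU.normal h hh u hu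
      reg := fun c d hc hd => by
        obtain ⟨u, hu, huu⟩ := hU.reg c d hc hd
        refine ⟨e.symm u, hu, fun w hw => ?_⟩
        exact e.injective ((huu (e w) hw).trans (e.apply_symm_apply u).symm)
      nil := by haveI := hU.nil; exact Group.nilpotent_of_surjective e.symm.toMonoidHom e.symm.surjective }
  have hc := ih _ hlt hz' (fun M hM _ => normal_no_regular hz hreg N hNne M) hne' hodd' hU'
    (fun g hg x hx => Subtype.ext (hP g hg x hx).eq) rfl
  exact hna fun x y => e.symm.injective (by rw [map_mul, map_mul, hc])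

end CfsgLib.Invol.TICent
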